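import Mathlib.RingTheory.Ideal.Quotient.Operations
import Mathlib.RingTheory.Localization.Away.Basic
import Mathlib.RingTheory.Noetherian.Defs
import Mathlib.Algebra.Polynomial.AlgebraMap
import Mathlib.Tactic.LinearCombination
import Mathlib.RingTheory.Ideal.Colon
import Mathlib.Algebra.BigOperators.Fin
import Mathlib.Data.Fintype.EquivFin

/-!
# A coordinate separating finitely many smooth rational points of an affine curve
-/

set_option autoImplicit false
set_option linter.style.haveILetI false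

universe u

namespace Groth.Agent.SymProdLib

variable {R A : Type u} [Field R] [CommRing A] [Algebra R A]

/-- If `π` generates `m` locally and `t - π ∈ m ^ 2`, then `t` generates `m` locally. -/
theorem local_gen_of_sub_mem_sq {m : Ideal A} [m.IsPrime] {π t : A}
    (hgen : ∀ a ∈ m, ∃ s ∉ m, π ∣ s * a) (he : t - π ∈ m ^ 2) :
    ∀ a ∈ m, ∃ s ∉ m, t ∣ s * a := by
  have key : ∀ e ∈ m ^ 2, ∃ s ∉ m, ∃ μ ∈ m, s * e = π * μ := by
    intro e he
    rw [pow_two] at he
    induction he using Submodule.mul_induction_on' with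
    | mem_mul_mem a ha b hb =>
      obtain ⟨s, hs, x, hx⟩ := hgen a ha
      exact ⟨s, hs, x * b, m.mul_mem_left x hb, by rw [← mul_assoc, hx]; ring⟩
    | add x hx y hy ihx ihy =>
      obtain ⟨s, hs, μ, hμ, h⟩ := ihx
      obtain ⟨s', hs', μ', hμ', h'⟩ := ihy
      refine ⟨s * s', fun h => ((inferInstance : m.IsPrime).mem_or_mem h).elim hs hs', s' * μ + s * μ',
        add_mem (m.mul_mem_left _ hμ) (m.mul_mem_left _ hμ'), ?_⟩
      linear_combination s' * h + s * h'
  obtain ⟨s, hs, μ, hμ, h⟩ := key _ he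
  intro a ha
  obtain ⟨s', hs', x, hx⟩ := hgen a ha
  refine ⟨s' * (s + μ), fun h => ((inferInstance : m.IsPrime).mem_or_mem h).elim hs'
    (fun h => hs (by simpa using m.sub_mem h hμ)), x * s, ?_⟩
  linear_combination (s + μ) * hx - x * h

/-- A function on an affine curve with simple zeros of `t - c j` at finitely many rational points. -/
theorem exists_coord [Infinite R] [IsNoetherianRing A] {ι : Type} [Finite ι] (m : ι → Ideal A)
    (hmax : ∀ j, (m j).IsMaximal)
    (hpr : ∀ j, ∃ π ∈ m j, ∀ a ∈ m j, ∃ s ∉ m j, π ∣ s * a) :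
    ∃ (t : A) (c : ι → R) (h : A), (∀ j, h ∉ m j) ∧ (∀ j, t - algebraMap R A (c j) ∈ m j) ∧
      ∀ j, ∀ a ∈ m j, (t - algebraMap R A (c j)) ∣ h * a := by
  classical
  cases nonempty_fintype ι
  let P : Type u := {I : Ideal A // ∃ j, m j = I}
  haveI : Finite P := Finite.of_surjective (fun j => (⟨m j, j, rfl⟩ : P)) fun ⟨I, j, hj⟩ => ⟨j, Subtype.ext hj⟩
  cases nonempty_fintype P
  have hPmax : ∀ p : P, p.1.IsMaximal := fun ⟨I, j, hj⟩ => hj ▸ hmax j
  have hPpr : ∀ p : P, ∃ π ∈ p.1, ∀ a ∈ p.1, ∃ s ∉ p.1, π ∣ s * a := fun ⟨I, j, hj⟩ => hj ▸ hpr j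
  choose π hπ hgen using hPpr
  let e : P ↪ R := ((Fintype.equivFin P).toEmbedding.trans Fin.valEmbedding).trans (Infinite.natEmbedding R)
  have hcop : Pairwise (Function.onFun IsCoprime fun p : P => p.1 ^ 2) := fun p q hpq => by
    refine IsCoprime.pow ?_
    exact Ideal.isCoprime_iff_sup_eq.2 ((hPmax p).coprime_of_ne (hPmax q) fun h => hpq (Subtype.ext h))
  obtain ⟨t, ht⟩ := Ideal.exists_forall_sub_mem_ideal hcop fun p => π p + algebraMap R A (e p)
  have hsq : ∀ p : P, (t - algebraMap R A (e p)) - π p ∈ p.1 ^ 2 := fun p => by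
    simpa [sub_sub, add_comm] using ht p
  have htm : ∀ p : P, t - algebraMap R A (e p) ∈ p.1 := fun p => by
    simpa using add_mem (Ideal.pow_le_self two_ne_zero (hsq p)) (hπ p)
  have hgen' := fun p : P =>
    haveI := (hPmax p).isPrime
    local_gen_of_sub_mem_sq (hgen p) (hsq p)
  -- one denominator for each point
  have hden : ∀ p : P, ∃ s ∉ p.1, ∀ a ∈ p.1, (t - algebraMap R A (e p)) ∣ s * a := fun p => by
    haveI := (hPmax p).isPrime
    obtain ⟨S, hS⟩ := (IsNoetherian.noetherian p.1 : p.1.FG)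
    have hmem : ∀ a : S, (a : A) ∈ p.1 := fun a => hS ▸ Ideal.subset_span a.2
    choose s hs hdvd using fun a : S => hgen' p a (hmem a)
    refine ⟨∏ a, s a, fun h => ?_, fun a ha => ?_⟩
    · obtain ⟨a, -, ha⟩ := ((inferInstance : p.1.IsPrime).prod_mem_iff).1 h
      exact hs a ha
    · rw [← hS] at ha
      induction ha using Submodule.span_induction with
      | mem x hx =>
        exact (hdvd ⟨x, hx⟩).trans (mul_dvd_mul_right (Finset.dvd_prod_of_mem s (Finset.mem_univ _)) x)
      | zero => simp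
      | add x y _ _ hx hy => rw [mul_add]; exact dvd_add hx hy
      | smul r x _ hx => rw [smul_eq_mul, mul_left_comm]; exact hx.mul_left r
  choose s hs hsdvd using hden
  let I : P → Ideal A := fun p =>
    (Ideal.span {t - algebraMap R A (e p)}).colon (p.1 : Set A)
  have hI : ∀ p q : P, ¬ I p ≤ q.1 := fun p q hle => by
    by_cases hpq : p = q
    · subst hpq
      refine hs p (hle (Submodule.mem_colon.2 fun a ha => ?_))
      exact Ideal.mem_span_singleton.2 (hsdvd p a ha)
    · have h1 : t - algebraMap R A (e p) ∈ q.1 := hle (Submodule.mem_colon.2 fun a _ =>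
        Ideal.mem_span_singleton.2 (Dvd.intro a rfl))
      have h2 : algebraMap R A (e q - e p) ∈ q.1 := by
        rw [map_sub]
        simpa using q.1.sub_mem h1 (htm q)
      exact (hPmax q).ne_top (Ideal.eq_top_of_isUnit_mem _ h2
        ((IsUnit.mk0 _ (sub_ne_zero.2 fun h => hpq (e.injective h).symm)).map _))
  have hcop2 : ∀ q : P, (⨅ p, I p) ⊔ q.1 = ⊤ := fun q => (hPmax q).1.2 _ <| by
    refine lt_of_le_of_ne le_sup_right fun h => ?_
    have hle : (⨅ p, I p) ≤ q.1 := le_sup_left.trans h.ge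
    rw [← Finset.inf_univ_eq_iInf] at hle
    obtain ⟨p, -, hp⟩ := (hPmax q).isPrime.inf_le'.1 hle
    exact hI p q hp
  have htop := Ideal.sup_iInf_eq_top (I := ⨅ p, I p) (s := Finset.univ) (J := fun q : P => q.1) fun q _ => hcop2 q
  obtain ⟨h, hh, g, hg, hhg⟩ := Submodule.mem_sup.1 (htop.ge (Submodule.mem_top (x := (1 : A))))
  refine ⟨t, fun j => e ⟨m j, j, rfl⟩, h, fun j hj => ?_, fun j => htm ⟨m j, j, rfl⟩, fun j a ha => ?_⟩
  · refine (hmax j).ne_top ((Ideal.eq_top_iff_one _).2 (hhg ▸ add_mem hj ?_))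
    simpa using (Submodule.mem_iInf _).1 ((Submodule.mem_iInf _).1 hg ⟨m j, j, rfl⟩) (Finset.mem_univ _)
  · exact Ideal.mem_span_singleton.1
      (Submodule.mem_colon.1 ((Submodule.mem_iInf I).1 hh ⟨m j, j, rfl⟩) a ha)

/-- After inverting the denominator every function is a polynomial in `t` modulo `∏ (t - c j)`. -/
theorem exists_aeval_add_mul (A' : Type u) [CommRing A'] [Algebra R A'] (ι : A →ₐ[R] A') (h : A)
    (hu : IsUnit (ι h)) (hsurj : ∀ x : A', ∃ (a : A) (N : ℕ), x * ι h ^ N = ι a) (t : A) {d : ℕ}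
    (c : Fin d → R) (m : Fin d → Ideal A) (hmax : ∀ j, (m j).IsPrime) (hm : ∀ j, h ∉ m j)
    (hres : ∀ j a, ∃ r : R, a - algebraMap R A r ∈ m j)
    (hdvd : ∀ j, ∀ a ∈ m j, (t - algebraMap R A (c j)) ∣ h * a) (x : A') :
    ∃ (G : Polynomial R) (b : A'),
      x = Polynomial.aeval (ι t) G + (∏ j, (ι t - algebraMap R A' (c j))) * b := by
  have step : ∀ (j : Fin d) (y : A'), ∃ (r : R) (b : A'),
      y = algebraMap R A' r + (ι t - algebraMap R A' (c j)) * b := by
    intro j y
    obtain ⟨a, N, ha⟩ := hsurj y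
    obtain ⟨r₁, hr₁⟩ := hres j a
    obtain ⟨r₀, hr₀⟩ := hres j (h ^ N)
    have hr0 : r₀ ≠ 0 := fun h0 => hm j ((hmax j).mem_of_pow_mem N (by simpa [h0] using hr₀))
    have hmem : a - algebraMap R A (r₁ / r₀) * h ^ N ∈ m j := by
      have := (m j).sub_mem hr₁ ((m j).mul_mem_left (algebraMap R A (r₁ / r₀)) hr₀)
      rwa [mul_sub, ← map_mul, div_mul_cancel₀ r₁ hr0, sub_sub_sub_cancel_right] at this
    obtain ⟨b, hb⟩ := hdvd j _ hmem
    have hb' := congrArg ι hb
    simp only [map_mul, map_sub, map_pow, AlgHom.commutes] at hb'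
    obtain ⟨v, hv⟩ := hu
    refine ⟨r₁ / r₀, ι b * (v⁻¹ : A'ˣ) ^ (N + 1), ?_⟩
    rw [← ha] at hb'
    refine ((v ^ (N + 1)).isUnit.mul_left_inj).1 ?_
    rw [add_mul, mul_assoc, mul_assoc, Units.val_pow_eq_pow_val, ← mul_pow, Units.inv_mul, one_pow, mul_one,
      ← hb', hv]
    ring
  clear hu hsurj hm hres hdvd hmax
  induction d generalizing x with
  | zero => exact ⟨0, x, by simp⟩
  | succ d ih =>
    obtain ⟨r, b, hb⟩ := step 0 x
    obtain ⟨G, b', hb'⟩ := ih (fun j => c j.succ) (fun j => m j.succ) b (fun j y => step j.succ y)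
    refine ⟨Polynomial.C r + (Polynomial.X - Polynomial.C (c 0)) * G, b', ?_⟩
    rw [Fin.prod_univ_succ, hb, hb']
    simp only [map_add, map_mul, map_sub, Polynomial.aeval_C, Polynomial.aeval_X]
    ring

end Groth.Agent.SymProdLib
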