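import Groth.Prelude.Def_SymProd
import Groth.Agent.AlgSpDec.SmoothLocDim
import Mathlib.AlgebraicGeometry.Morphisms.Proper

/-!
# Fibre powers of smooth proper morphisms; maximal points of smooth schemes over a field
-/

set_option autoImplicit false
set_option linter.style.haveILetI false

universe u

open CategoryTheory CategoryTheory.Limits AlgebraicGeometry

namespace Groth.Agent.SymProdLib

variable {X S : Scheme.{u}} (f : X ⟶ S)

/-- Forget the last factor. -/
noncomputable def dropLast (n : ℕ) : SymProd.fibPow f (n + 1) ⟶ SymProd.fibPow f n :=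
  WidePullback.lift (WidePullback.base _) (fun i => WidePullback.π _ i.castSucc) (fun _ => by simp)

theorem dropLast_π (n : ℕ) (i : Fin n) :
    dropLast f n ≫ WidePullback.π (fun _ : Fin n => f) i = WidePullback.π (fun _ : Fin (n + 1) => f) i.castSucc :=
  WidePullback.lift_π (fun _ : Fin n => f) _ _ _ i

theorem dropLast_base (n : ℕ) :
    dropLast f n ≫ (WidePullback.base fun _ : Fin n => f) = WidePullback.base fun _ : Fin (n + 1) => f :=
  WidePullback.lift_base (fun _ : Fin n => f) _ _ _

theorem isPullback_succ (n : ℕ) :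
    IsPullback (dropLast f n) (WidePullback.π (fun _ : Fin (n + 1) => f) (Fin.last n))
      (WidePullback.base fun _ : Fin n => f) f := by
  have h0 : dropLast f n ≫ (WidePullback.base fun _ : Fin n => f) =
      WidePullback.π (fun _ : Fin (n + 1) => f) (Fin.last n) ≫ f :=
    (dropLast_base f n).trans (WidePullback.π_arrow (fun _ : Fin (n + 1) => f) (Fin.last n)).symm
  refine IsPullback.of_isLimit' ⟨h0⟩ (PullbackCone.isLimitAux' _ fun s => ?_)
  let sn : Fin (n + 1) → (s.pt ⟶ X) :=
    Fin.lastCases (motive := fun _ => s.pt ⟶ X) s.snd fun i => s.fst ≫ WidePullback.π _ i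
  let l : s.pt ⟶ SymProd.fibPow f (n + 1) := WidePullback.lift (s.fst ≫ WidePullback.base _) sn
    (Fin.lastCases (by simpa [sn] using s.condition.symm) fun i => by simp [sn])
  have hπ : ∀ i, l ≫ WidePullback.π (fun _ : Fin (n + 1) => f) i = sn i := fun i =>
    WidePullback.lift_π (fun _ : Fin (n + 1) => f) _ _ _ i
  have hb : l ≫ (WidePullback.base fun _ : Fin (n + 1) => f) = s.fst ≫ WidePullback.base _ :=
    WidePullback.lift_base (fun _ : Fin (n + 1) => f) _ _ _
  refine ⟨l, ?_, ?_, ?_⟩
  · show l ≫ dropLast f n = s.fst
    refine WidePullback.hom_ext _ _ _ (fun i => ?_) ?_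
    · rw [Category.assoc, dropLast_π, hπ]
      simp [sn]
    · rw [Category.assoc, dropLast_base, hb]
  · show l ≫ WidePullback.π _ (Fin.last n) = s.snd
    rw [hπ]
    simp [sn]
  · intro (m : s.pt ⟶ SymProd.fibPow f (n + 1)) (hm₁ : m ≫ dropLast f n = s.fst)
      (hm₂ : m ≫ WidePullback.π _ (Fin.last n) = s.snd)
    refine WidePullback.hom_ext _ _ _ (fun i => ?_) ?_
    · induction i using Fin.lastCases with
      | last =>
        rw [hπ, hm₂]
        simp [sn]
      | cast i =>
        rw [hπ, ← dropLast_π, ← Category.assoc, hm₁]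
        simp [sn]
    · rw [hb, ← dropLast_base, ← Category.assoc, hm₁]

theorem isIso_base_zero : IsIso (WidePullback.base fun _ : Fin 0 => f) := by
  refine ⟨WidePullback.lift (𝟙 S) (fun i => i.elim0) (fun i => i.elim0), ?_, ?_⟩
  · refine WidePullback.hom_ext _ _ _ (fun i => i.elim0) ?_
    rw [Category.assoc, WidePullback.lift_base, Category.comp_id, Category.id_comp]
  · exact WidePullback.lift_base (fun _ : Fin 0 => f) _ _ _

theorem smoothOfRelativeDimension_base [SmoothOfRelativeDimension 1 f] :
    ∀ n : ℕ, SmoothOfRelativeDimension n (WidePullback.base fun _ : Fin n => f)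
  | 0 => by
    haveI := isIso_base_zero f
    infer_instance
  | n + 1 => by
    haveI := smoothOfRelativeDimension_base n
    haveI : MorphismProperty.IsStableUnderBaseChange (@SmoothOfRelativeDimension.{u} 1) :=
      smoothOfRelativeDimension_isStableUnderBaseChange 1
    haveI : SmoothOfRelativeDimension 1 (dropLast f n) :=
      MorphismProperty.of_isPullback (isPullback_succ f n).flip inferInstance
    have h : SmoothOfRelativeDimension (1 + n) (dropLast f n ≫ WidePullback.base fun _ : Fin n => f) :=
      inferInstance
    rw [dropLast_base] at h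
    exact add_comm 1 n ▸ h

theorem isProper_base [IsProper f] : ∀ n : ℕ, IsProper (WidePullback.base fun _ : Fin n => f)
  | 0 => by
    haveI := isIso_base_zero f
    infer_instance
  | n + 1 => by
    haveI := isProper_base n
    haveI : IsProper (dropLast f n) :=
      MorphismProperty.of_isPullback (isPullback_succ f n).flip inferInstance
    rw [show (WidePullback.base fun _ : Fin (n + 1) => f) =
        dropLast f n ≫ WidePullback.base _ from (dropLast_base f n).symm]
    infer_instance

/-- A maximal point of a scheme smooth of relative dimension `n` over a field has degree `n`. -/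
theorem deg_eq_of_maximal {k : Type u} [Field k] {P : Scheme.{u}} (p : P ⟶ Spec (CommRingCat.of k))
    (n : ℕ) [SmoothOfRelativeDimension n p] [LocallyOfFiniteType p] {η : P} (hη : ∀ z, z ⤳ η → z = η) :
    VarDim.deg p η = n := by
  have h := (CycLib.hasRelDim_iff p).1 (AlgSpDec.SmoothLocDim.hasRelDim_of_smoothOfRelativeDimension n p) η
    (fun z hz _ => hη z hz)
  rw [VarDim.deg_eq_add p (𝟙 _) (Category.comp_id p) η,
    (VarDim.closedPoint_iff_deg_eq_zero (𝟙 (Spec (CommRingCat.of k))) (p η)).1
      Set.subsingleton_singleton.isClosed, zero_add, ← h]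
  show VarDim.fdeg p η = FibDim.rd p η
  rw [FibDim.rd, VarDim.deg_fiber p (p η) (p.asFiber η), Scheme.Hom.fiberι_asFiber]

end Groth.Agent.SymProdLib
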