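import Groth.Agent.PolLib.ElemSymm
import Mathlib.RingTheory.MvPolynomial.Symmetric.FundamentalTheorem
import Mathlib.RingTheory.Polynomial.Vieta

/-!
# Symmetric tensors of a curve near a tuple of points

If every element of a flat `R`-algebra `A` is a polynomial in `t` modulo `∏ (t - cᵢ)`, then modulo the
`d` elements `eₖ(t₁,…,t_d) - eₖ(c)` every symmetric tensor is constant.
-/

set_option autoImplicit false

universe u v

open scoped TensorProduct
open Finset

namespace Groth.Agent.SymProdLib

section Esymm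

variable {R : Type u} [CommRing R] {T : Type v} [CommRing T] [Algebra R T] {d : ℕ}

/-- The elementary symmetric expressions of a tuple. -/
noncomputable def esy (R : Type u) [CommRing R] [Algebra R T] (v : Fin d → T) (j : ℕ) : T :=
  MvPolynomial.aeval v (MvPolynomial.esymm (Fin d) R j)

theorem esy_eq_sum (v : Fin d → T) (j : ℕ) :
    esy R v j = ∑ I ∈ (univ : Finset (Fin d)).powersetCard j, ∏ i ∈ I, v i := by
  simp [esy, MvPolynomial.esymm]

theorem esy_zero (v : Fin d → T) : esy R v 0 = 1 := by
  simp [esy]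

theorem esy_perm (v : Fin d → T) (σ : Equiv.Perm (Fin d)) (j : ℕ) :
    esy R (fun i => v (σ i)) j = esy R v j := by
  rw [esy, esy]
  conv_rhs => rw [← MvPolynomial.rename_esymm (Fin d) R j σ, MvPolynomial.aeval_rename]
  rfl

theorem map_esy {T' : Type*} [CommRing T'] [Algebra R T'] {F : Type*} [FunLike F T T'] [RingHomClass F T T']
    (φ : F) (v : Fin d → T) (j : ℕ) : φ (esy R v j) = esy R (fun i => φ (v i)) j := by
  simp [esy_eq_sum, map_sum, map_prod]

theorem prod_sub_eq_sum (v : Fin d → T) (z : T) :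
    ∏ i, (z - v i) = ∑ k ∈ range (d + 1), (-1) ^ k * (esy R v k * z ^ (d - k)) := by
  have h := congrArg (Polynomial.eval z) (Multiset.prod_X_sub_X_eq_sum_esymm ((univ : Finset (Fin d)).val.map v))
  rw [Polynomial.eval_multiset_prod, Multiset.map_map, Multiset.map_map, Polynomial.eval_finsetSum] at h
  simp only [Function.comp_apply, Polynomial.eval_sub, Polynomial.eval_X, Polynomial.eval_C, Multiset.card_map,
    Finset.card_val, Finset.card_univ, Fintype.card_fin, Polynomial.eval_mul, Polynomial.eval_pow,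
    Polynomial.eval_neg, Polynomial.eval_one] at h
  simpa only [esy, MvPolynomial.aeval_esymm_eq_multiset_esymm, Finset.prod_map_val] using h

/-- The key identity: a product over roots `c` at one of the points of the tuple `v`. -/
theorem prod_sub_eq_sum_diff (v w : Fin d → T) (i : Fin d) :
    ∏ j, (v i - w j) =
      ∑ k : Fin d, (esy R v (k + 1) - esy R w (k + 1)) * ((-1) ^ (k : ℕ) * v i ^ (d - (k + 1))) := by
  have h1 := prod_sub_eq_sum (R := R) w (v i)
  have h2 := prod_sub_eq_sum (R := R) v (v i)
  rw [prod_eq_zero (mem_univ i) (sub_self (v i))] at h2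
  rw [← sub_zero (∏ j, (v i - w j)), h1]
  conv_lhs => rw [h2, ← sum_sub_distrib, sum_range_succ']
  simp only [esy_zero, sub_self, add_zero]
  rw [← Fin.sum_univ_eq_sum_range (fun k => (-1 : T) ^ (k + 1) * (esy R w (k + 1) * v i ^ (d - (k + 1))) -
    (-1) ^ (k + 1) * (esy R v (k + 1) * v i ^ (d - (k + 1))))]
  exact sum_congr rfl fun k _ => by ring

omit [CommRing T] [Algebra R T] in
theorem exists_esy_eq_aeval (G : Polynomial R) (j : ℕ) :
    ∃ Q : MvPolynomial (Fin d) R, ∀ (T' : Type v) [CommRing T'] [Algebra R T'] (v' : Fin d → T'),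
      esy R (fun i => Polynomial.aeval (v' i) G) j =
        MvPolynomial.aeval (fun i : Fin d => esy R v' (i + 1)) Q := by
  let H : MvPolynomial (Fin d) R := esy R (fun i => Polynomial.aeval (MvPolynomial.X i) G) j
  have hH : H ∈ MvPolynomial.symmetricSubalgebra (Fin d) R := fun σ => by
    show MvPolynomial.rename σ H = H
    simp only [H]
    rw [map_esy]
    conv_rhs => rw [← esy_perm (R := R) _ σ j]
    congr 1
    funext i
    rw [← Polynomial.aeval_algHom_apply, MvPolynomial.rename_X]
  obtain ⟨Q, hQ⟩ := MvPolynomial.esymmAlgHom_surjective (σ := Fin d) (R := R) (n := d) (by simp) ⟨H, hH⟩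
  refine ⟨Q, fun T' _ _ v' => ?_⟩
  have h := congrArg (fun p => MvPolynomial.aeval v' (Subtype.val p)) hQ
  simp only [MvPolynomial.esymmAlgHom_apply] at h
  rw [← AlgHom.comp_apply, MvPolynomial.comp_aeval] at h
  refine (Eq.trans ?_ h.symm)
  show MvPolynomial.aeval (fun i => Polynomial.aeval (v' i) G) (MvPolynomial.esymm (Fin d) R j) =
    MvPolynomial.aeval v' H
  rw [show H = MvPolynomial.aeval (fun i => Polynomial.aeval (MvPolynomial.X i) G)
    (MvPolynomial.esymm (Fin d) R j) from rfl, ← AlgHom.comp_apply, MvPolynomial.comp_aeval]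
  simp [← Polynomial.aeval_algHom_apply]

end Esymm

section TS

variable {R : Type u} [CommRing R] {A : Type u} [CommRing A] [Algebra R A] {d : ℕ}

/-- `a` in the `i`-th tensor slot. -/
noncomputable abbrev sig (i : Fin d) : A →ₐ[R] ⨂[R] _ : Fin d, A :=
  PiTensorProduct.singleAlgHom (R := R) (A := fun _ : Fin d => A) i

theorem perm_sig (σ : Equiv.Perm (Fin d)) (i : Fin d) (a : A) :
    SymTen.perm R A d σ (sig i a) = sig (σ i) a := by
  rw [sig, sig, PiTensorProduct.singleAlgHom_apply, PiTensorProduct.singleAlgHom_apply, SymTen.perm_tprod]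
  congr 1
  funext j
  show (Pi.mulSingle i a : Fin d → A) ((Equiv.symm σ) j) = (Pi.mulSingle (σ i) a : Fin d → A) j
  simp [Pi.mulSingle_apply, Equiv.symm_apply_eq]

theorem esymT_eq_esy (a : A) (j : ℕ) :
    PolLib.esymT R d a j = esy R (fun i => sig (R := R) i a) j := by
  classical
  rw [esy_eq_sum, PolLib.esymT]
  refine sum_congr rfl fun I hI => ?_
  clear hI
  induction I using Finset.induction_on with
  | empty => simp [PiTensorProduct.one_def]; rfl
  | insert i I hi ih =>
    rw [prod_insert hi, ← ih, sig, PiTensorProduct.singleAlgHom_apply, PiTensorProduct.tprod_mul_tprod]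
    congr 1
    funext k
    by_cases hk : k = i
    · subst hk; simp [hi]
    · simp [hk]

theorem esy_sig_mem (a : A) (j : ℕ) : esy R (fun i => sig (R := R) i a) j ∈ SymTen.TS R A d :=
  esymT_eq_esy (R := R) (d := d) a j ▸ PolLib.esymT_mem a j

/-- The `d` local coordinates on symmetric tensors. -/
noncomputable def symCoord (t : A) (c : Fin d → R) (k : Fin d) : SymTen.TS R A d :=
  ⟨esy R (fun i => sig (R := R) i t) (k + 1), esy_sig_mem t _⟩ - algebraMap R _ (esy R c (k + 1))

theorem symCoord_val (t : A) (c : Fin d → R) (k : Fin d) :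
    (symCoord t c k).val =
      esy R (fun i => sig (R := R) i t) (k + 1) -
        esy R (fun i => algebraMap R (⨂[R] _ : Fin d, A) (c i)) (k + 1) := by
  rw [← map_esy (R := R) (algebraMap R (⨂[R] _ : Fin d, A)) c]
  rfl

/-- The main generation statement. -/
theorem exists_sub_algebraMap_mem [Module.Flat R A] (t : A) (c : Fin d → R)
    (hA : ∀ a : A, ∃ (G : Polynomial R) (b : A),
      a = Polynomial.aeval t G + (∏ j, (t - algebraMap R A (c j))) * b)
    (x : SymTen.TS R A d) :
    ∃ r : R, x - algebraMap R _ r ∈ Ideal.span (Set.range (symCoord t c)) := by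
  classical
  set J : Ideal (SymTen.TS R A d) := Ideal.span (Set.range (symCoord t c)) with hJ
  suffices h : ∀ y (hy : y ∈ Algebra.adjoin R {z | ∃ (a : A) (j : ℕ), z = PolLib.esymT R d a j}),
      ∀ hy' : y ∈ SymTen.TS R A d,
        ∃ r : R, (⟨y, hy'⟩ : SymTen.TS R A d) - algebraMap R _ r ∈ J by
    exact h x.1 (PolLib.TS_eq_adjoin_esymT R A d ▸ x.2) x.2
  intro y hy
  induction hy using Algebra.adjoin_induction with
  | algebraMap r => exact fun _ => ⟨r, by simp [show (⟨algebraMap R _ r, _⟩ : SymTen.TS R A d) = algebraMap R _ r from rfl]⟩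
  | add a b ha hb iha ihb =>
    intro _
    have hle := (PolLib.TS_eq_adjoin_esymT R A d).ge
    obtain ⟨r, hr⟩ := iha (hle ha)
    obtain ⟨r', hr'⟩ := ihb (hle hb)
    refine ⟨r + r', ?_⟩
    convert add_mem hr hr' using 1
    rw [map_add, sub_add_sub_comm]
    rfl
  | mul a b ha hb iha ihb =>
    intro _
    have hle := (PolLib.TS_eq_adjoin_esymT R A d).ge
    obtain ⟨r, hr⟩ := iha (hle ha)
    obtain ⟨r', hr'⟩ := ihb (hle hb)
    refine ⟨r * r', ?_⟩
    have := add_mem (J.mul_mem_left ⟨a, hle ha⟩ hr') (J.mul_mem_right (algebraMap R _ r') hr)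
    convert this using 1
    rw [map_mul, show (⟨a * b, _⟩ : SymTen.TS R A d) = ⟨a, hle ha⟩ * ⟨b, hle hb⟩ from rfl]
    ring
  | mem z hz =>
    intro hz'
    obtain ⟨a, j, rfl⟩ := hz
    obtain ⟨G, b, hab⟩ := hA a
    let τ : Fin d → ⨂[R] _ : Fin d, A := fun i => sig i t
    let w : Fin d → Fin d → ⨂[R] _ : Fin d, A :=
      fun i k => (-1) ^ (k : ℕ) * τ i ^ (d - (k + 1)) * sig i b
    have hsig : ∀ i, sig (R := R) i a =
        Polynomial.aeval (τ i) G + ∑ k : Fin d, (symCoord t c k).val * w i k := fun i => by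
      conv_lhs => rw [hab, map_add, ← Polynomial.aeval_algHom_apply, map_mul, map_prod]
      congr 1
      simp only [map_sub, AlgHom.commutes]
      rw [prod_sub_eq_sum_diff (R := R) τ (fun j => algebraMap R _ (c j)) i, Finset.sum_mul]
      refine sum_congr rfl fun k _ => ?_
      rw [symCoord_val]
      ring
    -- a polynomial with invariant coefficients
    let fam : Fin d → MvPolynomial (Fin d) (⨂[R] _ : Fin d, A) := fun i =>
      MvPolynomial.C (Polynomial.aeval (τ i) G) + ∑ k : Fin d, MvPolynomial.X k * MvPolynomial.C (w i k)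
    let P := esy R fam j
    have hP : ∀ σ : Equiv.Perm (Fin d), MvPolynomial.map (SymTen.perm R A d σ).toRingHom P = P := fun σ => by
      simp only [P]
      rw [map_esy (R := R)]
      conv_rhs => rw [← esy_perm (R := R) fam σ j]
      congr 1
      funext i
      simp [fam, w, τ, perm_sig, ← Polynomial.aeval_algHom_apply, -PiTensorProduct.singleAlgHom_apply]
    obtain ⟨P₀, hP₀⟩ : P ∈ Set.range (MvPolynomial.map (SymTen.TS R A d).val.toRingHom) := by
      rw [MvPolynomial.mem_range_map_iff_coeffs_subset]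
      intro z hz
      obtain ⟨m, -, rfl⟩ := MvPolynomial.mem_coeffs_iff.1 hz
      refine ⟨⟨_, (SymTen.mem_TS_iff R A d _).2 fun σ => ?_⟩, rfl⟩
      rw [← SymTen.perm_apply]
      have h := congrArg (MvPolynomial.coeff m) (hP σ)
      rw [MvPolynomial.coeff_map] at h
      exact h
    let s : Fin d → SymTen.TS R A d := symCoord t c
    have heval : (⟨PolLib.esymT R d a j, hz'⟩ : SymTen.TS R A d) = MvPolynomial.eval s P₀ := by
      refine Subtype.ext ?_
      show PolLib.esymT R d a j = (SymTen.TS R A d).val.toRingHom (MvPolynomial.eval s P₀)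
      rw [← MvPolynomial.eval₂_id, MvPolynomial.eval₂_comp_left, RingHom.comp_id,
        ← MvPolynomial.eval_map, hP₀]
      simp only [P]
      rw [map_esy (R := R), esymT_eq_esy]
      congr 1
      funext i
      rw [hsig]
      simp [fam, s]
    have h0 : MvPolynomial.eval s P₀ - MvPolynomial.constantCoeff P₀ ∈ J := by
      rw [← Ideal.Quotient.mk_eq_mk_iff_sub_mem]
      refine RingHom.congr_fun (MvPolynomial.ringHom_ext
        (f := (Ideal.Quotient.mk J).comp (MvPolynomial.eval s))
        (g := (Ideal.Quotient.mk J).comp MvPolynomial.constantCoeff) (fun r => by simp) (fun k => ?_)) P₀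
      simp only [RingHom.comp_apply, MvPolynomial.eval_X, MvPolynomial.constantCoeff_X, map_zero]
      exact Ideal.Quotient.eq_zero_iff_mem.2 (Ideal.subset_span ⟨k, rfl⟩)
    obtain ⟨Q, hQ⟩ := exists_esy_eq_aeval.{u, u} (d := d) G j
    have hconst : MvPolynomial.constantCoeff P₀ =
        MvPolynomial.aeval (fun k : Fin d => s k + algebraMap R _ (esy R c (k + 1))) Q := by
      refine Subtype.ext ?_
      show (SymTen.TS R A d).val.toRingHom (MvPolynomial.constantCoeff P₀) = _
      rw [← MvPolynomial.constantCoeff_map, hP₀, ← Subalgebra.mvPolynomial_aeval_coe]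
      simp only [P]
      rw [map_esy (R := R)]
      simp only [fam, map_add, map_sum, map_mul, MvPolynomial.constantCoeff_C, MvPolynomial.constantCoeff_X,
        zero_mul, sum_const_zero, add_zero]
      rw [hQ _ τ]
      congr 1
      refine MvPolynomial.algHom_ext fun k => ?_
      simp [s, symCoord, τ]
    refine ⟨MvPolynomial.aeval (fun k : Fin d => esy R c (k + 1)) Q, ?_⟩
    rw [heval, ← sub_add_sub_cancel _ (MvPolynomial.constantCoeff P₀)]
    refine add_mem h0 ?_
    rw [hconst, ← Ideal.Quotient.mk_eq_mk_iff_sub_mem, ← Ideal.Quotient.mkₐ_eq_mk R]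
    have he : (Ideal.Quotient.mkₐ R J).comp (MvPolynomial.aeval fun k : Fin d =>
          s k + algebraMap R (SymTen.TS R A d) (esy R c (k + 1))) =
        (Algebra.ofId R (SymTen.TS R A d ⧸ J)).comp (MvPolynomial.aeval fun k : Fin d => esy R c (k + 1)) := by
      refine MvPolynomial.algHom_ext fun k => ?_
      simp only [AlgHom.comp_apply, MvPolynomial.aeval_X, map_add, AlgHom.commutes, Algebra.ofId_apply]
      rw [Ideal.Quotient.mkₐ_eq_mk, Ideal.Quotient.eq_zero_iff_mem.2 (Ideal.subset_span ⟨k, rfl⟩ : s k ∈ J),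
        zero_add]
    refine (AlgHom.congr_fun he Q).trans ?_
    rw [AlgHom.comp_apply, Algebra.ofId_apply, AlgHom.commutes]

end TS

end Groth.Agent.SymProdLib
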