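import Groth.Agent.SymProdLib.Quot
import Groth.Agent.SymProdLib.Gen
import Groth.Agent.SymProdLib.CurveAlg
import Groth.Agent.SymProdLib.FibPow
import Groth.Agent.JacDom.Dominant
import Groth.Agent.S2909

/-!
# Symmetric powers of a smooth curve over an algebraically closed field are regular
-/

set_option autoImplicit false
set_option linter.style.haveILetI false

universe u

open CategoryTheory CategoryTheory.Limits AlgebraicGeometry Opposite
open scoped TensorProduct

namespace Groth.Agent.SymProdLib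

theorem mem_primeIdealOf_iff {X : Scheme.{u}} {U : X.Opens} (hU : IsAffineOpen U) {p : X} (hp : p ∈ U)
    (a : Γ(X, U)) : a ∈ (hU.primeIdealOf ⟨p, hp⟩).asIdeal ↔ p ∉ X.basicOpen a := by
  have h : hU.primeIdealOf ⟨p, hp⟩ ∈ hU.fromSpec ⁻¹ᵁ X.basicOpen a ↔ p ∈ X.basicOpen a := by
    show hU.fromSpec _ ∈ X.basicOpen a ↔ _
    rw [hU.fromSpec_primeIdealOf ⟨p, hp⟩]
  rw [hU.fromSpec_preimage_basicOpen] at h
  exact iff_not_comm.1 h.symm

theorem mem_basicOpen_appLE_iff {X Y : Scheme.{u}} (f : X ⟶ Y) {V : Y.Opens} {U : X.Opens} (e : U ≤ f ⁻¹ᵁ V)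
    {x : X} (hx : x ∈ U) (a : Γ(Y, V)) :
    x ∈ X.basicOpen ((f.appLE V U e).hom a) ↔ f.base x ∈ Y.basicOpen a := by
  rw [Scheme.basicOpen_appLE]
  exact ⟨fun h => h.2, fun h => ⟨hx, h⟩⟩

theorem evaluation_appLE_eq_zero_iff {X Y : Scheme.{u}} (f : X ⟶ Y) {V : Y.Opens} {U : X.Opens}
    (e : U ≤ f ⁻¹ᵁ V) {x : X} (hx : x ∈ U) (a : Γ(Y, V)) :
    X.evaluation U x hx ((f.appLE V U e).hom a) = 0 ↔ f.base x ∉ Y.basicOpen a := by
  rw [Scheme.evaluation_eq_zero_iff_notMem_basicOpen, mem_basicOpen_appLE_iff f e hx]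

section Finite

theorem fdeg_eq_zero_of_finite {X Y : Scheme.{u}} (f : X ⟶ Y) [IsFinite f] (x : X) : VarDim.fdeg f x = 0 := by
  have h := (VarDim.closedPoint_iff_deg_eq_zero (k := Y.residueField (f x))
    (f.fiberToSpecResidueField (f x)) (f.asFiber x)).1 (isClosed_discrete _)
  rwa [VarDim.deg_fiber, Scheme.Hom.fiberι_asFiber] at h

variable {k : Type u} [Field k]

/-- A closed point of a scheme smooth of relative dimension `n` over a field has local dimension `n`. -/
theorem ringKrullDim_stalk_eq {P : Scheme.{u}} (p : P ⟶ Spec (CommRingCat.of k)) (n : ℕ)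
    [SmoothOfRelativeDimension n p] [LocallyOfFiniteType p] {x : P} (hx : IsClosed ({x} : Set P)) :
    ringKrullDim (P.presheaf.stalk x) = n ∧ ∃ η, η ⤳ x ∧ VarDim.deg p η = n := by
  obtain ⟨b, hb, ⟨η, hη, hηb⟩, hle⟩ := VarDim.exists_deg_add_stalk p x
  rw [(VarDim.closedPoint_iff_deg_eq_zero p x).1 hx, zero_add] at hηb hle
  have hmax : ∀ z, z ⤳ η → z = η := fun z hz =>
    VarDim.eq_of_specializes_of_deg_le p hz (hηb ▸ hle z (hz.trans hη))
  have h := deg_eq_of_maximal p n hmax
  obtain rfl : b = n := hηb.symm.trans h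
  exact ⟨hb, η, hη, h⟩

end Finite

section Chart

variable {X S Y : Scheme.{u}} {f : X ⟶ S} {d : ℕ} {q : SymProd.fibPow f d ⟶ Y} {g : Y ⟶ S}
variable {V : S.Opens} {U : X.Opens} [Algebra Γ(S, V) Γ(X, U)]

/-- The sections on a chart, as a ring isomorphism. -/
theorem exists_chartEquiv (hq : SymProd.IsSymProd f d q g) (e : U ≤ f ⁻¹ᵁ V)
    (halg : algebraMap Γ(S, V) Γ(X, U) = (f.appLE V U e).hom) (hV : IsAffineOpen V) (hU : IsAffineOpen U)
    (W' : Y.Opens) (hW' : q ⁻¹ᵁ W' = box f d V U) :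
    ∃ ψ : Γ(Y, W') ≃+* SymTen.TS Γ(S, V) Γ(X, U) d,
      ∀ a, boxHom e halg (ψ a).1 = (q.appLE W' (box f d V U) hW'.ge).hom a := by
  have hb := boxHom_bijective (d := d) e halg hV hU
  have hinj : Function.Injective (q.appLE W' (box f d V U) hW'.ge).hom := by
    generalize box f d V U = B at hW'
    subst hW'
    rw [← Scheme.Hom.app_eq_appLE]
    exact hq.isQuot.injective W'
  let eqv := RingEquiv.ofBijective (boxHom (d := d) e halg) hb
  let φ := (eqv.symm.toRingHom).comp (q.appLE W' (box f d V U) hW'.ge).hom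
  have hφ : ∀ a, boxHom e halg (φ a) = (q.appLE W' (box f d V U) hW'.ge).hom a :=
    fun a => eqv.apply_symm_apply _
  let ψ : Γ(Y, W') →+* SymTen.TS Γ(S, V) Γ(X, U) d :=
    φ.codRestrict _ fun a => (chart_range hq e halg hV hU W' hW' _).1 ⟨a, (hφ a).symm⟩
  have hψ : Function.Bijective ψ := by
    refine ⟨fun a b h => hinj ?_, fun t => ?_⟩
    · rw [← hφ, ← hφ]
      exact congrArg (boxHom e halg) (congrArg Subtype.val h)
    · obtain ⟨a, ha⟩ := (chart_range hq e halg hV hU W' hW' t.1).2 t.2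
      exact ⟨a, Subtype.ext (hb.1 ((hφ a).trans ha))⟩
  exact ⟨RingEquiv.ofBijective ψ hψ, hφ⟩

end Chart

variable {k : Type u} [Field k] [IsAlgClosed k]

omit [IsAlgClosed k] in
theorem base_isField : IsField Γ(Spec (CommRingCat.of k), ⊤) :=
  (Scheme.ΓSpecIso (CommRingCat.of k)).commRingCatIsoToRingEquiv.toMulEquiv.isField (Field.toIsField k)

section Point

variable {X : Scheme.{u}} (f : X ⟶ Spec (CommRingCat.of k)) {U : X.Opens} (hU : IsAffineOpen U)
  {p : X} (hp : p ∈ U) (hcl : IsClosed ({p} : Set X))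

include hcl in
/-- Functions are constant modulo the ideal of a rational point. -/
theorem exists_sub_appLE_mem [LocallyOfFiniteType f] (e : U ≤ f ⁻¹ᵁ ⊤) (a : Γ(X, U)) :
    ∃ r : Γ(Spec (CommRingCat.of k), ⊤),
      a - (f.appLE ⊤ U e).hom r ∈ (hU.primeIdealOf ⟨p, hp⟩).asIdeal := by
  obtain ⟨c, hc⟩ := JacDom.residue_surjective f (𝟙 (Spec (CommRingCat.of k))) f (Category.comp_id f) hcl
    (X.presheaf.germ U p hp a)
  have hsurj : Function.Surjective ((Spec (CommRingCat.of k)).presheaf.germ ⊤ (f.base p) trivial).hom := by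
    letI := (Spec (CommRingCat.of k)).presheaf.algebra_section_stalk (U := ⊤) ⟨f.base p, trivial⟩
    haveI := (isAffineOpen_top (Spec (CommRingCat.of k))).isLocalization_stalk ⟨f.base p, trivial⟩
    intro z
    obtain ⟨r, s, rfl⟩ := IsLocalization.exists_mk'_eq
      ((isAffineOpen_top (Spec (CommRingCat.of k))).primeIdealOf ⟨f.base p, trivial⟩).asIdeal.primeCompl z
    obtain ⟨v, hv⟩ := (base_isField (k := k)).mul_inv_cancel (a := s.1) fun h0 => s.2 (h0 ▸ Ideal.zero_mem _)
    exact ⟨r * v, IsLocalization.eq_mk'_of_mul_eq (by rw [mul_assoc, mul_comm v, hv, mul_one])⟩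
  obtain ⟨r, rfl⟩ := hsurj c
  refine ⟨r, (mem_primeIdealOf_iff hU hp _).2 fun hmem => ?_⟩
  rw [Scheme.mem_basicOpen _ _ _ hp, map_sub] at hmem
  refine (IsLocalRing.mem_maximalIdeal _).1 hc ?_
  convert hmem using 2
  erw [Scheme.Hom.germ_stalkMap_apply]
  rw [Scheme.Hom.appLE]
  exact ((X.presheaf.germ_res_apply (homOfLE e) p hp _)).symm

omit [IsAlgClosed k] in
include hcl in
/-- At a point of a smooth curve the maximal ideal is locally principal. -/
theorem exists_local_generator [SmoothOfRelativeDimension 1 f] [LocallyOfFiniteType f] :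
    ∃ π ∈ (hU.primeIdealOf ⟨p, hp⟩).asIdeal, ∀ a ∈ (hU.primeIdealOf ⟨p, hp⟩).asIdeal,
      ∃ s ∉ (hU.primeIdealOf ⟨p, hp⟩).asIdeal, π ∣ s * a := by
  haveI : Smooth f := SmoothOfRelativeDimension.smooth 1 f
  haveI : IsRegularLocalRing (X.presheaf.stalk p) :=
    SmoothReg.isRegularLocalRing_stalk_of_mem_smoothLocus f (by
      rw [(Scheme.Hom.smoothLocus_eq_top_iff (f := f)).2 inferInstance]; trivial)
  have h1 : (IsLocalRing.maximalIdeal (X.presheaf.stalk p)).spanFinrank = 1 := by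
    have h := (isRegularLocalRing_iff _).1 (inferInstance : IsRegularLocalRing (X.presheaf.stalk p))
    rw [(ringKrullDim_stalk_eq f 1 hcl).1] at h
    exact_mod_cast h
  obtain ⟨⟨z, hz⟩⟩ := ((Submodule.spanFinrank_eq_one_iff _).1 h1).1
  letI := X.presheaf.algebra_section_stalk (U := U) ⟨p, hp⟩
  haveI := hU.isLocalization_stalk ⟨p, hp⟩
  set m := (hU.primeIdealOf ⟨p, hp⟩).asIdeal with hm
  obtain ⟨π, s₀, rfl⟩ := IsLocalization.exists_mk'_eq m.primeCompl z
  have hπmax : IsLocalization.mk' (X.presheaf.stalk p) π s₀ ∈ IsLocalRing.maximalIdeal _ :=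
    hz ▸ Ideal.subset_span rfl
  refine ⟨π, (IsLocalization.AtPrime.mk'_mem_maximal_iff (X.presheaf.stalk p) m π s₀).1 hπmax, fun a ha => ?_⟩
  have ha' : algebraMap Γ(X, U) (X.presheaf.stalk p) a ∈ IsLocalRing.maximalIdeal _ :=
    (IsLocalization.AtPrime.to_map_mem_maximal_iff (X.presheaf.stalk p) m a).2 ha
  rw [hz] at ha'
  obtain ⟨w, hw⟩ := Ideal.mem_span_singleton.1 ha'
  obtain ⟨b, s₁, rfl⟩ := IsLocalization.exists_mk'_eq m.primeCompl w
  rw [← IsLocalization.mk'_mul, IsLocalization.eq_mk'_iff_mul_eq, ← map_mul] at hw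
  obtain ⟨s₂, hs₂⟩ := (IsLocalization.eq_iff_exists m.primeCompl _).1 hw
  refine ⟨(s₂ * (s₀ * s₁) : m.primeCompl), (s₂ * (s₀ * s₁) : m.primeCompl).2, s₂ * b, ?_⟩
  push_cast at hs₂ ⊢
  linear_combination hs₂

end Point

variable {X Y : Scheme.{u}} {f : X ⟶ Spec (CommRingCat.of k)} [IsProper f] [SmoothOfRelativeDimension 1 f]
  {n : ℕ} {q : SymProd.fibPow f n ⟶ Y} {g : Y ⟶ Spec (CommRingCat.of k)}

omit [IsAlgClosed k] [SmoothOfRelativeDimension 1 f] in
theorem isFinite_quot (hq : SymProd.IsSymProd f n q g) :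
    IsFinite q ∧ LocallyOfFiniteType g ∧ QuasiCompact g := by
  haveI := isProper_base f n
  haveI : Finite (ULift.{u} (Equiv.Perm (Fin n))) := inferInstance
  obtain ⟨-, -, h1, h2⟩ := Groth.Agent.S2909.result (SymProd.permActU f n) q hq.isQuot
    (WidePullback.base fun _ : Fin n => f) g hq.over
    (fun σ => by rw [SymProd.permActU_hom]; exact SymProd.permHom_base f n σ.down)
  exact ⟨h1 inferInstance, h2 inferInstance inferInstance inferInstance⟩

/-- Symmetric powers of a smooth proper curve over an algebraically closed field are regular at closed points. -/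
theorem isRegularLocalRing_stalk_closed (hAF : SymProd.IsAF f) (hq : SymProd.IsSymProd f n q g) {y : Y}
    (hy : IsClosed ({y} : Set Y)) : IsRegularLocalRing (Y.presheaf.stalk y) := by
  classical
  obtain ⟨hqf, hgft, -⟩ := isFinite_quot hq
  haveI := isProper_base f n
  haveI := smoothOfRelativeDimension_base f n
  set pb := WidePullback.base fun _ : Fin n => f with hpb
  haveI : LocallyOfFiniteType pb := inferInstance
  haveI : Finite (ULift.{u} (Equiv.Perm (Fin n))) := inferInstance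
  -- a closed point over `y`
  obtain ⟨x, rfl⟩ := SGA1Q.surjective hq.isQuot y
  obtain ⟨c, hxc, hc⟩ := VarDim.exists_closed_specialization pb x
  have hqc : q.base c = q.base x := by
    have h := specializes_iff_mem_closure.1 (hxc.map q.continuous)
    rw [hy.closure_eq] at h
    exact h
  rw [← hqc] at hy ⊢
  clear hqc hxc x
  let p : Fin n → X := fun i => (WidePullback.π (fun _ : Fin n => f) i).base c
  have hpcl : ∀ i, IsClosed ({p i} : Set X) := fun i =>
    (VarDim.closedPoint_iff_deg_eq_zero f _).2 (Nat.le_zero.1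
      ((VarDim.deg_map_le (WidePullback.π (fun _ : Fin n => f) i) f (WidePullback.π_arrow _ _) c).trans_eq
        ((VarDim.closedPoint_iff_deg_eq_zero pb c).1 hc)))
  -- the coordinate
  let S : Scheme.{u} := Spec (CommRingCat.of k)
  let V : S.Opens := ⊤
  have hV : IsAffineOpen V := isAffineOpen_top S
  obtain ⟨U₀, hU₀, e₀, hpU₀⟩ := exists_affine_containing hAF (V := V) (s := pb.base c) trivial p
    (fun i => f_π_apply i c)
  letI : Field Γ(S, V) := (base_isField (k := k)).toField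
  haveI : Infinite Γ(S, V) :=
    Infinite.of_injective _ (Scheme.ΓSpecIso (CommRingCat.of k)).symm.commRingCatIsoToRingEquiv.injective
  letI := (f.appLE V U₀ e₀).hom.toAlgebra
  haveI : Algebra.FiniteType Γ(S, V) Γ(X, U₀) := f.finiteType_appLE hV hU₀ e₀
  haveI : IsNoetherianRing Γ(X, U₀) := Algebra.FiniteType.isNoetherianRing Γ(S, V) _
  let m : Fin n → Ideal Γ(X, U₀) := fun i => (hU₀.primeIdealOf ⟨p i, hpU₀ i⟩).asIdeal
  have hres : ∀ i a, ∃ r : Γ(S, V), a - algebraMap _ _ r ∈ m i := fun i a =>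
    exists_sub_appLE_mem f hU₀ (hpU₀ i) (hpcl i) e₀ a
  obtain ⟨t, γ, h, hh, htm, hdvd⟩ := exists_coord (R := Γ(S, V)) m
    (fun i => hU₀.primeIdealOf_isMaximal_of_isClosed ⟨p i, hpU₀ i⟩ (hpcl i))
    (fun i => exists_local_generator f hU₀ (hpU₀ i) (hpcl i))
  -- shrink the neighbourhood
  let U : X.Opens := X.basicOpen h
  have hU : IsAffineOpen U := hU₀.basicOpen h
  have hpU : ∀ i, p i ∈ U := fun i => by
    by_contra hne
    exact hh i ((mem_primeIdealOf_iff hU₀ (hpU₀ i) h).2 hne)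
  have e : U ≤ f ⁻¹ᵁ V := (X.basicOpen_le h).trans e₀
  letI := (f.appLE V U e).hom.toAlgebra
  have hcommute : ∀ r : Γ(S, V),
      (X.presheaf.map (homOfLE (X.basicOpen_le h)).op).hom (algebraMap Γ(S, V) Γ(X, U₀) r) =
        algebraMap Γ(S, V) Γ(X, U) r := fun r => by
    rw [RingHom.algebraMap_toAlgebra, RingHom.algebraMap_toAlgebra, ← RingHom.comp_apply,
      ← CommRingCat.hom_comp, Scheme.Hom.appLE_map]
  let ι : Γ(X, U₀) →ₐ[Γ(S, V)] Γ(X, U) :=
    { (X.presheaf.map (homOfLE (X.basicOpen_le h)).op).hom with commutes' := hcommute }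
  haveI hloc : IsLocalization.Away h Γ(X, U) := hU₀.isLocalization_basicOpen h
  have hA : ∀ a : Γ(X, U), ∃ (G : Polynomial Γ(S, V)) (b : Γ(X, U)),
      a = Polynomial.aeval (ι t) G + (∏ j, (ι t - algebraMap Γ(S, V) Γ(X, U) (γ j))) * b := by
    refine exists_aeval_add_mul Γ(X, U) ι h (IsLocalization.Away.algebraMap_isUnit h) (fun x => ?_) t γ m
      (fun i => (hU₀.primeIdealOf ⟨p i, hpU₀ i⟩).2) hh hres hdvd
    obtain ⟨N, a, ha⟩ := IsLocalization.Away.surj h x
    exact ⟨a, N, ha⟩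
  haveI : Module.Flat Γ(S, V) Γ(X, U) := inferInstance
  -- the chart
  have hB : IsAffineOpen (box f n V U) := isAffineOpen_box e hV hU
  obtain ⟨W', hW'⟩ := exists_image_open hq (box f n V U) permHom_preimage_box
  have hW'a : IsAffineOpen W' := isAffineOpen_of_preimage hq W' (by rw [hW']; exact hB)
  have hcB : c ∈ box f n V U := mem_box.2 ⟨trivial, hpU⟩
  have hyW : q.base c ∈ W' := by
    have : c ∈ q ⁻¹ᵁ W' := by rw [hW']; exact hcB
    exact this
  obtain ⟨ψ, hψ⟩ := exists_chartEquiv hq e rfl hV hU W' hW'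
  set M := (hW'a.primeIdealOf ⟨q.base c, hyW⟩).asIdeal with hMdef
  have hM : ∀ a : Γ(Y, W'), a ∈ M ↔
      (SymProd.fibPow f n).evaluation (box f n V U) c hcB (boxHom e rfl (ψ a).1) = 0 := fun a => by
    rw [hψ, evaluation_appLE_eq_zero_iff q hW'.ge hcB, hMdef, mem_primeIdealOf_iff]
  let s : Fin n → Γ(Y, W') := fun j => ψ.symm (symCoord (ι t) γ j)
  let ev := ((SymProd.fibPow f n).evaluation (box f n V U) c hcB).hom.comp (boxHom (d := n) e rfl)
  have hev : ∀ i, ev (sig i (ι t)) = ev (algebraMap Γ(S, V) _ (γ i)) := fun i => by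
    rw [← sub_eq_zero, ← map_sub, ← (sig i).commutes (γ i), ← map_sub]
    show (SymProd.fibPow f n).evaluation _ c hcB (boxHom e rfl (sig i _)) = 0
    rw [boxHom_single, evaluation_appLE_eq_zero_iff _ _ hcB]
    intro hmem
    have h0 : ι t - algebraMap Γ(S, V) Γ(X, U) (γ i) = ι (t - algebraMap _ _ (γ i)) := by
      rw [map_sub, ι.commutes]
    rw [h0] at hmem
    change p i ∈ X.basicOpen ((X.presheaf.map (homOfLE (X.basicOpen_le h)).op).hom _) at hmem
    rw [Scheme.basicOpen_res] at hmem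
    exact (mem_primeIdealOf_iff hU₀ (hpU₀ i) _).1 (htm i) hmem.2
  have hs : ∀ j, s j ∈ M := fun j => by
    rw [hM, RingEquiv.apply_symm_apply, symCoord_val]
    show ev _ = 0
    simp only [map_sub, esy_eq_sum, map_sum, map_prod, hev]
    exact sub_self _
  have hspan : M ≤ Ideal.span (Set.range s) := fun z hz => by
    obtain ⟨r, hr⟩ := exists_sub_algebraMap_mem (ι t) γ hA (ψ z)
    have hz' : z - ψ.symm (algebraMap _ _ r) ∈ Ideal.span (Set.range s) := by
      have := Ideal.mem_map_of_mem ψ.symm.toRingHom hr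
      rw [Ideal.map_span, ← Set.range_comp] at this
      simpa [s, Function.comp_def] using this
    by_cases hr0 : r = 0
    · simpa [hr0] using hz'
    · exfalso
      have hmem : ψ.symm (algebraMap _ _ r) ∈ M := by
        have := M.sub_mem hz ((Ideal.span_le.2 (Set.range_subset_iff.2 hs)) hz')
        rwa [sub_sub_cancel] at this
      exact (hW'a.primeIdealOf ⟨q.base c, hyW⟩).2.ne_top
        (Ideal.eq_top_of_isUnit_mem _ hmem (((IsUnit.mk0 r hr0).map _).map _))
  -- regularity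
  letI := Y.presheaf.algebra_section_stalk (U := W') ⟨q.base c, hyW⟩
  haveI := hW'a.isLocalization_stalk ⟨q.base c, hyW⟩
  haveI : IsLocallyNoetherian Y := LocallyOfFiniteType.isLocallyNoetherian g
  refine IsRegularLocalRing.of_spanFinrank_maximalIdeal_le _ ?_
  have hgen : IsLocalRing.maximalIdeal (Y.presheaf.stalk (q.base c)) =
      Ideal.span (Set.range fun j => algebraMap Γ(Y, W') (Y.presheaf.stalk (q.base c)) (s j)) := by
    rw [← IsLocalization.AtPrime.map_eq_maximalIdeal M (Y.presheaf.stalk (q.base c)),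
      le_antisymm hspan (Ideal.span_le.2 (Set.range_subset_iff.2 hs)), Ideal.map_span, ← Set.range_comp]
    rfl
  have hle : (IsLocalRing.maximalIdeal (Y.presheaf.stalk (q.base c))).spanFinrank ≤ n := by
    rw [hgen]
    refine (Submodule.spanFinrank_span_le_ncard_of_finite (Set.finite_range _)).trans ?_
    rw [← Set.image_univ]
    exact (Set.ncard_image_le Set.finite_univ).trans (by simp [Set.ncard_univ])
  obtain ⟨b, hb, -, hbmax⟩ := VarDim.exists_deg_add_stalk g (q.base c)
  obtain ⟨-, η, hη, hηd⟩ := ringKrullDim_stalk_eq pb n hc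
  have hdeg : n ≤ b := by
    have h1 := hbmax _ (hη.map q.continuous)
    rw [(VarDim.closedPoint_iff_deg_eq_zero g _).1 hy, zero_add] at h1
    have h2 := VarDim.deg_eq_add q g hq.over η
    rw [fdeg_eq_zero_of_finite q η, add_zero, hηd] at h2
    rwa [← h2] at h1
  rw [hb]
  exact_mod_cast hle.trans hdeg

end Groth.Agent.SymProdLib
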