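import Groth.Agent.PolLib.FlatTS
import Mathlib.RingTheory.IsTensorProduct

/-!
# Symmetric tensors of a flat module commute with arbitrary base change
-/

set_option autoImplicit false
set_option linter.style.haveILetI false

universe u

open scoped TensorProduct

namespace Groth.Agent.SymProdLib

variable {R : Type u} [CommRing R] {N : Type u} [AddCommGroup N] [Module R N]
  {M : Type u} [AddCommGroup M] [Module R M] {d : ℕ}

open PolLib (tp tp_comp tp_reindex invSub mem_invSub Orb rep orb beta eq_sum_orb)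

theorem exists_free_lift (z : N ⊗[R] ⨂[R]^d M) :
    ∃ (n : ℕ) (g : (Fin n → R) →ₗ[R] M) (t : N ⊗[R] ⨂[R]^d (Fin n → R)),
      (tp d g).lTensor N t = z := by
  classical
  obtain ⟨s, hs⟩ := TensorProduct.exists_finset z
  have hp : ∀ x : ⨂[R]^d M, ∃ (n : ℕ) (g : (Fin n → R) →ₗ[R] M)
      (t : ⨂[R]^d (Fin n → R)), tp d g t = x := by
    intro x
    induction x using PiTensorProduct.induction_on with
    | smul_tprod r a =>
      refine ⟨d, (Pi.basisFun R (Fin d)).constr R a,
        r • PiTensorProduct.tprod R fun i => Pi.basisFun R (Fin d) i, ?_⟩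
      rw [map_smul, PolLib.tp_tprod]
      simp only [Module.Basis.constr_basis]
    | add u v hu hv =>
      obtain ⟨n, g, t, rfl⟩ := hu
      obtain ⟨n', g', t', rfl⟩ := hv
      let G := (Pi.basisFun R (Fin (n + n'))).constr R
        (Fin.append (fun k => g (Pi.basisFun R _ k)) fun k => g' (Pi.basisFun R _ k))
      let i₁ : (Fin n → R) →ₗ[R] (Fin (n + n') → R) :=
        (Pi.basisFun R (Fin n)).constr R fun k => Pi.basisFun R _ (Fin.castAdd n' k)
      let i₂ : (Fin n' → R) →ₗ[R] (Fin (n + n') → R) :=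
        (Pi.basisFun R (Fin n')).constr R fun k => Pi.basisFun R _ (Fin.natAdd n k)
      have h1 : G.comp i₁ = g := (Pi.basisFun R (Fin n)).ext fun k => by
        simp only [G, i₁, LinearMap.comp_apply, Module.Basis.constr_basis, Fin.append_left]
      have h2 : G.comp i₂ = g' := (Pi.basisFun R (Fin n')).ext fun k => by
        simp only [G, i₂, LinearMap.comp_apply, Module.Basis.constr_basis, Fin.append_right]
      refine ⟨n + n', G, tp d i₁ t + tp d i₂ t', ?_⟩
      rw [map_add, ← LinearMap.comp_apply, ← tp_comp, h1, ← LinearMap.comp_apply, ← tp_comp, h2]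
  choose n g t ht using hp
  let m := Fintype.card (Σ p : s, Fin (n p.1.2))
  let e := Fintype.equivFin (Σ p : s, Fin (n p.1.2))
  let G : (Fin m → R) →ₗ[R] M :=
    (Pi.basisFun R _).constr R fun k => g (e.symm k).1.1.2 (Pi.basisFun R _ (e.symm k).2)
  let i : ∀ p : s, (Fin (n p.1.2) → R) →ₗ[R] (Fin m → R) := fun p =>
    (Pi.basisFun R _).constr R fun k => Pi.basisFun R _ (e ⟨p, k⟩)
  have hi : ∀ p : s, G.comp (i p) = g p.1.2 := fun p => (Pi.basisFun R _).ext fun k => by
    simp only [G, i, LinearMap.comp_apply, Module.Basis.constr_basis]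
    rw [Equiv.symm_apply_apply]
  refine ⟨m, G, ∑ p : s, p.1.1 ⊗ₜ[R] tp d (i p) (t p.1.2), ?_⟩
  rw [map_sum, hs, ← Finset.sum_coe_sort s]
  refine Finset.sum_congr rfl fun p _ => ?_
  rw [LinearMap.lTensor_tmul, ← LinearMap.comp_apply, ← tp_comp, hi, ht]

theorem kill_many [Module.Flat R M] {n : ℕ} (f : (Fin n → R) →ₗ[R] M) {ι : Type*} (s : Finset ι)
    (t : ι → N ⊗[R] ⨂[R]^d (Fin n → R)) (ht : ∀ i ∈ s, (tp d f).lTensor N (t i) = 0) :
    ∃ (m : ℕ) (h : (Fin n → R) →ₗ[R] (Fin m → R)) (g : (Fin m → R) →ₗ[R] M),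
      g.comp h = f ∧ ∀ i ∈ s, (tp d h).lTensor N (t i) = 0 := by
  classical
  induction s using Finset.induction_on with
  | empty => exact ⟨n, LinearMap.id, f, LinearMap.comp_id f, by simp⟩
  | insert i s his ih =>
    obtain ⟨m₁, h₁, g₁, hg₁, hs⟩ := ih fun j hj => ht j (Finset.mem_insert_of_mem hj)
    have h0 : (tp d g₁).lTensor N ((tp d h₁).lTensor N (t i)) = 0 := by
      rw [← LinearMap.lTensor_comp_apply, ← tp_comp, hg₁]
      exact ht i (Finset.mem_insert_self i s)
    obtain ⟨m, h₂, g, hg, hh⟩ := PolLib.kill d N m₁ g₁ _ h0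
    refine ⟨m, h₂.comp h₁, g, by rw [← LinearMap.comp_assoc, hg, hg₁], fun j hj => ?_⟩
    rw [tp_comp, LinearMap.lTensor_comp_apply]
    rcases Finset.mem_insert.mp hj with rfl | hj
    · exact hh
    · rw [hs j hj, map_zero]

/-- Coordinates of a tensor in `N ⊗ T^d(free)` with respect to a function. -/
noncomputable def coordN (n : ℕ) (c : Fin d → Fin n) :
    N ⊗[R] (⨂[R]^d (Fin n → R)) →ₗ[R] N :=
  (TensorProduct.rid R N).toLinearMap.comp ((beta (Pi.basisFun R (Fin n)) d).coord c |>.lTensor N)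

theorem coordN_tmul (n : ℕ) (c : Fin d → Fin n) (x : N) (t : ⨂[R]^d (Fin n → R)) :
    coordN n c (x ⊗ₜ[R] t) = (beta (Pi.basisFun R (Fin n)) d).coord c t • x := by
  simp [coordN]

theorem eq_sum_coordN (n : ℕ) (z : N ⊗[R] ⨂[R]^d (Fin n → R)) :
    z = ∑ c : Fin d → Fin n, coordN n c z ⊗ₜ[R] beta (Pi.basisFun R (Fin n)) d c := by
  induction z using TensorProduct.induction_on with
  | zero => simp
  | add a b ha hb =>
    conv_lhs => rw [ha, hb]
    simp [TensorProduct.add_tmul, Finset.sum_add_distrib]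
  | tmul x t =>
    conv_lhs => rw [← (beta (Pi.basisFun R (Fin n)) d).sum_repr t, TensorProduct.tmul_sum]
    refine Finset.sum_congr rfl fun c _ => ?_
    rw [coordN_tmul, TensorProduct.tmul_smul, TensorProduct.smul_tmul', Module.Basis.coord_apply]

theorem coordN_reindex (n : ℕ) (σ : Equiv.Perm (Fin d)) (c : Fin d → Fin n)
    (z : N ⊗[R] ⨂[R]^d (Fin n → R)) :
    coordN n c ((PiTensorProduct.reindex R (fun _ : Fin d => Fin n → R) σ).toLinearMap.lTensor N z) =
      coordN n (fun i => c (σ i)) z := by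
  induction z using TensorProduct.induction_on with
  | zero => simp
  | add a b ha hb => simp [ha, hb]
  | tmul x t =>
    rw [LinearMap.lTensor_tmul, coordN_tmul, coordN_tmul, LinearEquiv.coe_coe, PolLib.coord_reindex]
    rfl

/-- Tensoring keeps the inclusion of symmetric tensors of a flat module injective. -/
theorem lTensor_invSub_injective [Module.Flat R M] :
    Function.Injective ((invSub R M d).subtype.lTensor N) := by
  classical
  rw [← LinearMap.ker_eq_bot, LinearMap.ker_eq_bot']
  intro z hz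
  obtain ⟨s, hs⟩ := TensorProduct.exists_finset z
  obtain ⟨n, g, t, ht, hgt⟩ := PolLib.exists_invariant_lift_family
    (fun a : Fin (Fintype.card s) => ((Fintype.equivFin s).symm a).1.2.1)
    (fun a σ => mem_invSub.1 ((Fintype.equivFin s).symm a).1.2.2 σ)
  set x : Fin (Fintype.card s) → N := fun a => ((Fintype.equivFin s).symm a).1.1
  have hzsum : z = ∑ a, x a ⊗ₜ[R] ((Fintype.equivFin s).symm a).1.2 := by
    rw [hs, ← Finset.sum_coe_sort s, ← (Fintype.equivFin s).symm.sum_comp]
  have h0 : (tp d g).lTensor N (∑ a, x a ⊗ₜ[R] t a) = 0 := by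
    rw [← hz, hzsum, map_sum, map_sum]
    exact Finset.sum_congr rfl fun a _ => by rw [LinearMap.lTensor_tmul, hgt]; rfl
  obtain ⟨m, h, g', hg', hh⟩ := kill_many g {()} (fun _ => ∑ a, x a ⊗ₜ[R] t a) fun _ _ => h0
  have hh0 := hh () (Finset.mem_singleton_self _)
  have : Finite (Orb (Fin m) d) := Finite.of_surjective PolLib.cls PolLib.cls_surjective
  let _ := Fintype.ofFinite (Orb (Fin m) d)
  let O : Orb (Fin m) d → invSub R M d := fun q =>
    ⟨tp d g' ((SymTen.TS R (Fin m → R) d).val (orb (Pi.basisFun R (Fin m)) q)), mem_invSub.2 fun σ => by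
      rw [← tp_reindex]
      exact congrArg _ ((orb (Pi.basisFun R (Fin m)) q).2 σ)⟩
  let co : Orb (Fin m) d → Fin (Fintype.card s) → R := fun q a =>
    (beta (Pi.basisFun R (Fin m)) d).coord (rep q) (tp d h (t a))
  have hza : ∀ a, ((Fintype.equivFin s).symm a).1.2 = ∑ q, co q a • O q := by
    intro a
    refine Subtype.ext ?_
    rw [← hgt a, AddSubmonoidClass.coe_finsetSum, ← hg', tp_comp, LinearMap.comp_apply,
      eq_sum_orb (tp d h (t a)) (fun σ => by rw [← tp_reindex, ht]), map_sum]
    exact Finset.sum_congr rfl fun q _ => by rw [map_smul]; rfl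
  have hco : ∀ q, ∑ a, co q a • x a = 0 := fun q => by
    have := congrArg (coordN m (rep q)) hh0
    rw [map_zero, map_sum, map_sum] at this
    rw [← this]
    exact Finset.sum_congr rfl fun a _ => by rw [LinearMap.lTensor_tmul, coordN_tmul]
  rw [hzsum]
  simp only [hza, TensorProduct.tmul_sum, TensorProduct.tmul_smul, TensorProduct.smul_tmul']
  rw [Finset.sum_comm]
  exact Finset.sum_eq_zero fun q _ => by rw [← TensorProduct.sum_tmul, hco q, TensorProduct.zero_tmul]

/-- Invariant elements of `N ⊗ T^d(M)` come from symmetric tensors, for flat `M`. -/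
theorem exists_of_invariant [Module.Flat R M] (z : N ⊗[R] ⨂[R]^d M)
    (hz : ∀ σ : Equiv.Perm (Fin d),
      (PiTensorProduct.reindex R (fun _ : Fin d => M) σ).toLinearMap.lTensor N z = z) :
    ∃ w, (invSub R M d).subtype.lTensor N w = z := by
  classical
  obtain ⟨n, f, t, hft⟩ := exists_free_lift z
  have hnat : ∀ {k : ℕ} (g : (Fin k → R) →ₗ[R] M) (σ : Equiv.Perm (Fin d))
      (u : N ⊗[R] ⨂[R]^d (Fin k → R)),
      (tp d g).lTensor N ((PiTensorProduct.reindex R _ σ).toLinearMap.lTensor N u) =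
        (PiTensorProduct.reindex R (fun _ : Fin d => M) σ).toLinearMap.lTensor N ((tp d g).lTensor N u) := by
    intro k g σ u
    induction u using TensorProduct.induction_on with
    | zero => simp
    | add a b ha hb => simp [ha, hb]
    | tmul a b => simp [tp_reindex]
  obtain ⟨m, h, g, hgh, hh⟩ := kill_many f Finset.univ
    (fun σ => (PiTensorProduct.reindex R (fun _ : Fin d => Fin n → R) σ).toLinearMap.lTensor N t - t)
    fun σ _ => by rw [map_sub, hnat, hft, hz, sub_self]
  set u := (tp d h).lTensor N t with hu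
  have hu_inv : ∀ (σ : Equiv.Perm (Fin d)) (c : Fin d → Fin m),
      coordN m (fun i => c (σ i)) u = coordN m c u := by
    intro σ c
    rw [← coordN_reindex]
    congr 1
    rw [hu]
    have := hh σ (Finset.mem_univ σ)
    rw [map_sub, sub_eq_zero] at this
    refine Eq.trans ?_ this
    clear this hu
    generalize t = v
    induction v using TensorProduct.induction_on with
    | zero => simp
    | add a b ha hb => simp [ha, hb]
    | tmul a b => simp [tp_reindex]
  have : Finite (Orb (Fin m) d) := Finite.of_surjective PolLib.cls PolLib.cls_surjective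
  let _ := Fintype.ofFinite (Orb (Fin m) d)
  let O : Orb (Fin m) d → invSub R M d := fun q =>
    ⟨tp d g ((SymTen.TS R (Fin m → R) d).val (orb (Pi.basisFun R (Fin m)) q)), mem_invSub.2 fun σ => by
      rw [← tp_reindex]
      exact congrArg _ ((orb (Pi.basisFun R (Fin m)) q).2 σ)⟩
  refine ⟨∑ q, coordN m (rep q) u ⊗ₜ[R] O q, ?_⟩
  have hu2 : u = ∑ q : Orb (Fin m) d, coordN m (rep q) u ⊗ₜ[R]
      ((SymTen.TS R (Fin m → R) d).val (orb (Pi.basisFun R (Fin m)) q)) := by
    conv_lhs => rw [eq_sum_coordN m u, ← Finset.sum_fiberwise Finset.univ PolLib.cls]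
    refine Finset.sum_congr rfl fun q _ => ?_
    rw [PolLib.val_orb, TensorProduct.tmul_sum]
    refine Finset.sum_congr (Finset.ext fun c => by simp [PolLib.mem_fib]) fun c hc => ?_
    obtain ⟨σ, hσ⟩ := PolLib.cls_eq_iff.mp (PolLib.cls_rep (PolLib.cls c))
    have hq : PolLib.cls c = q := PolLib.mem_fib.mp hc
    have hcc : coordN m c u = coordN m (rep q) u := by
      rw [← hq]
      conv_lhs => rw [hσ]
      exact hu_inv σ (rep (PolLib.cls c))
    rw [hcc]
  rw [← hft, ← hgh, tp_comp, LinearMap.lTensor_comp_apply, ← hu]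
  conv_rhs => rw [hu2]
  rw [map_sum, map_sum]
  exact Finset.sum_congr rfl fun q _ => by rw [LinearMap.lTensor_tmul, LinearMap.lTensor_tmul]; rfl

end Groth.Agent.SymProdLib
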