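import Groth.Agent.SymProdLib.Quot
import Groth.Agent.SymProdLib.Inv
import Groth.Agent.SGA1Q.BaseChange
import Mathlib.AlgebraicGeometry.Morphisms.Flat

/-!
# Symmetric products of flat schemes commute with base change
-/

set_option autoImplicit false
set_option linter.style.haveILetI false

universe u

open CategoryTheory CategoryTheory.Limits AlgebraicGeometry Opposite
open scoped TensorProduct

namespace Groth.Agent.SymProdLib

section Alg

variable {R : Type u} [CommRing R] {N M A B : Type u} [AddCommGroup N] [Module R N]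
  [AddCommGroup M] [Module R M] [AddCommGroup A] [Module R A] [AddCommGroup B] [Module R B] {d : ℕ}

/-- The exact sequence of symmetric tensors, transported and tensored. -/
theorem lTensor_invariants [Module.Flat R M] (eT : (⨂[R]^d M) ≃ₗ[R] A) (ι : B →ₗ[R] A)
    (hι : Function.Injective ι)
    (hrange : ∀ t, eT t ∈ Set.range ι ↔ t ∈ PolLib.invSub R M d)
    (τ : Equiv.Perm (Fin d) → A →ₗ[R] A)
    (hτ : ∀ σ t, τ σ⁻¹ (eT t) = eT (PiTensorProduct.reindex R (fun _ : Fin d => M) σ t)) :
    Function.Injective (ι.lTensor N) ∧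
      ∀ z, (∀ σ, (τ σ).lTensor N z = z) → z ∈ Set.range (ι.lTensor N) := by
  let ψ : B →ₗ[R] PolLib.invSub R M d := LinearMap.codRestrict _ (eT.symm.toLinearMap.comp ι)
    fun b => (hrange _).1 ⟨b, (eT.apply_symm_apply _).symm⟩
  have hψ : Function.Bijective ψ := by
    refine ⟨fun a b h => hι (eT.symm.injective (congrArg Subtype.val h)), fun t => ?_⟩
    obtain ⟨b, hb⟩ := (hrange t.1).2 t.2
    exact ⟨b, Subtype.ext (show eT.symm (ι b) = t.1 by rw [hb, eT.symm_apply_apply])⟩
  have hfac : ι = (eT.toLinearMap.comp (PolLib.invSub R M d).subtype).comp ψ :=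
    LinearMap.ext fun b => (eT.apply_symm_apply _).symm
  have hl : ι.lTensor N = ((eT.toLinearMap.lTensor N).comp
      ((PolLib.invSub R M d).subtype.lTensor N)).comp (ψ.lTensor N) := by
    rw [← LinearMap.lTensor_comp, ← LinearMap.lTensor_comp, ← hfac]
  have hψ' : Function.Bijective (ψ.lTensor N) :=
    ((LinearEquiv.ofBijective ψ hψ).lTensor N).bijective
  refine ⟨?_, fun z hz => ?_⟩
  · rw [hl]
    exact ((eT.lTensor N).injective.comp lTensor_invSub_injective).comp hψ'.1
  · obtain ⟨w, rfl⟩ := (eT.lTensor N).surjective z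
    obtain ⟨v, rfl⟩ := exists_of_invariant w fun σ => (eT.lTensor N).injective (by
      conv_rhs => rw [← hz σ⁻¹]
      clear hz
      induction w using TensorProduct.induction_on with
      | zero => simp
      | add a b ha hb => simp only [map_add, ha, hb]
      | tmul a b =>
        show a ⊗ₜ[R] eT (PiTensorProduct.reindex R (fun _ : Fin d => M) σ b) = a ⊗ₜ[R] τ σ⁻¹ (eT b)
        rw [hτ])
    obtain ⟨u, rfl⟩ := hψ'.2 v
    exact ⟨u, by rw [hl]; rfl⟩

/-- Base change of an exact invariant sequence along a pushout square. -/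
theorem pushout_invariants {R R' A B A' B' : Type u} [CommRing R] [CommRing R'] [CommRing A]
    [CommRing B] [CommRing A'] [CommRing B'] [Algebra R R'] [Algebra R A] [Algebra R B] [Algebra R A']
    [Algebra R' A'] [Algebra A A'] [IsScalarTower R R' A'] [IsScalarTower R A A']
    [Algebra.IsPushout R R' A A'] [Algebra R B'] [Algebra R' B'] [Algebra B B']
    [IsScalarTower R R' B'] [IsScalarTower R B B'] [Algebra.IsPushout R R' B B']
    {G : Type*} (ι : B →ₐ[R] A) (ι' : B' →+* A') (σ : G → A →ₐ[R] A) (τ : G → A' →+* A')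
    (hι : ∀ x, ι' (algebraMap B B' x) = algebraMap A A' (ι x))
    (hι' : ∀ r, ι' (algebraMap R' B' r) = algebraMap R' A' r)
    (hτ : ∀ g a, τ g (algebraMap A A' a) = algebraMap A A' (σ g a))
    (hτ' : ∀ g r, τ g (algebraMap R' A' r) = algebraMap R' A' r)
    (hinj : Function.Injective (ι.toLinearMap.lTensor R'))
    (hinv : ∀ z, (∀ g, (σ g).toLinearMap.lTensor R' z = z) → z ∈ Set.range (ι.toLinearMap.lTensor R')) :
    Function.Injective ι' ∧ ∀ a', (∀ g, τ g a' = a') → a' ∈ Set.range ι' := by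
  let eA : R' ⊗[R] A ≃ₐ[R'] A' := Algebra.IsPushout.equiv R R' A A'
  let eB : R' ⊗[R] B ≃ₐ[R'] B' := Algebra.IsPushout.equiv R R' B B'
  have hA : ∀ (r : R') (a : A), eA (r ⊗ₜ[R] a) = algebraMap R' A' r * algebraMap A A' a :=
    fun r a => by simp [eA, Algebra.IsPushout.equiv_tmul]
  have hB : ∀ (r : R') (a : B), eB (r ⊗ₜ[R] a) = algebraMap R' B' r * algebraMap B B' a :=
    fun r a => by simp [eB, Algebra.IsPushout.equiv_tmul]
  have key : ∀ z, ι' (eB z) = eA (ι.toLinearMap.lTensor R' z) := fun z => by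
    induction z using TensorProduct.induction_on with
    | zero => simp
    | add a b ha hb => simp only [map_add, ha, hb]
    | tmul r a =>
      rw [hB, LinearMap.lTensor_tmul, hA, map_mul, hι', hι]
      rfl
  have key' : ∀ g z, τ g (eA z) = eA ((σ g).toLinearMap.lTensor R' z) := fun g z => by
    induction z using TensorProduct.induction_on with
    | zero => simp
    | add a b ha hb => simp only [map_add, ha, hb]
    | tmul r a =>
      rw [hA, LinearMap.lTensor_tmul, hA, map_mul, hτ', hτ]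
      rfl
  refine ⟨fun x y h => ?_, fun a' ha' => ?_⟩
  · obtain ⟨x, rfl⟩ := eB.surjective x
    obtain ⟨y, rfl⟩ := eB.surjective y
    rw [key, key] at h
    rw [hinj (eA.injective h)]
  · obtain ⟨z, rfl⟩ := eA.surjective a'
    obtain ⟨w, rfl⟩ := hinv z fun g => eA.injective ((key' g z).symm.trans (ha' g))
    exact ⟨eB w, key w⟩

end Alg

variable {X S S' Y : Scheme.{u}} {f : X ⟶ S} {n : ℕ}

theorem isPullback_fibPow (b : S' ⟶ S) (c : SymProd.fibPow (pullback.snd f b) n ⟶ SymProd.fibPow f n)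
    (hcπ : ∀ i : Fin n, c ≫ WidePullback.π (fun _ => f) i =
      WidePullback.π (fun _ => pullback.snd f b) i ≫ pullback.fst f b)
    (hcb : c ≫ WidePullback.base (fun _ => f) = WidePullback.base (fun _ => pullback.snd f b) ≫ b) :
    IsPullback c (WidePullback.base fun _ => pullback.snd f b) (WidePullback.base fun _ => f) b := by
  refine IsPullback.of_isLimit' ⟨hcb⟩ (PullbackCone.isLimitAux' _ fun s => ?_)
  let l : s.pt ⟶ SymProd.fibPow (pullback.snd f b) n :=
    WidePullback.lift s.snd (fun i => pullback.lift (s.fst ≫ WidePullback.π (fun _ => f) i) s.snd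
      (by rw [Category.assoc, WidePullback.π_arrow]; exact s.condition))
      (fun i => pullback.lift_snd _ _ _)
  have key : ∀ (m : s.pt ⟶ SymProd.fibPow (pullback.snd f b) n), m ≫ c = s.fst →
      m ≫ (WidePullback.base fun _ => pullback.snd f b) = s.snd → m = l := by
    intro m h₁ h₂
    refine WidePullback.hom_ext _ _ _ (fun i => ?_) ?_
    · rw [WidePullback.lift_π]
      refine pullback.hom_ext ?_ ?_
      · rw [pullback.lift_fst, Category.assoc, ← hcπ, ← Category.assoc, h₁]
      · rw [pullback.lift_snd, Category.assoc, ← h₂,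
          WidePullback.π_arrow (fun _ : Fin n => pullback.snd f b) i]
    · rw [WidePullback.lift_base]; exact h₂
  refine ⟨l, ?_, WidePullback.lift_base _ _ _ _, fun {m} h₁ h₂ => ?_⟩
  · refine WidePullback.hom_ext _ _ _ (fun i => ?_) ?_
    · show (l ≫ c) ≫ _ = _
      rw [Category.assoc, hcπ, ← Category.assoc, WidePullback.lift_π, pullback.lift_fst]
    · show (l ≫ c) ≫ _ = _
      rw [Category.assoc, hcb, ← Category.assoc, WidePullback.lift_base]
      exact s.condition.symm
  · exact key m h₁ h₂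

theorem appLE_injective {P Q : Scheme.{u}} {G : Type u} [Group G] {ρ : G →* Aut P} {p : P ⟶ Q}
    (hp : SGA1.IsQuot ρ p) {U : Q.Opens} {W : P.Opens} (h : p ⁻¹ᵁ U = W) :
    Function.Injective (p.appLE U W h.ge).hom := by
  subst h
  rw [← Scheme.Hom.app_eq_appLE]
  exact hp.injective U

theorem isSymProd_baseChange [Flat f] (hAF : SymProd.IsAF f) (q : SymProd.fibPow f n ⟶ Y) (g : Y ⟶ S)
    (hq : SymProd.IsSymProd f n q g) (b : S' ⟶ S)
    (c : SymProd.fibPow (pullback.snd f b) n ⟶ SymProd.fibPow f n)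
    (hcπ : ∀ i : Fin n, c ≫ WidePullback.π (fun _ => f) i =
      WidePullback.π (fun _ => pullback.snd f b) i ≫ pullback.fst f b)
    (hcb : c ≫ WidePullback.base (fun _ => f) = WidePullback.base (fun _ => pullback.snd f b) ≫ b)
    (q' : SymProd.fibPow (pullback.snd f b) n ⟶ pullback g b)
    (hq'₁ : q' ≫ pullback.fst g b = c ≫ q)
    (hq'₂ : q' ≫ pullback.snd g b = WidePullback.base (fun _ => pullback.snd f b)) :
    SymProd.IsSymProd (pullback.snd f b) n q' (pullback.snd g b) := by
  have hPB := isPullback_fibPow b c hcπ hcb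
  have hQ : IsPullback c q' q (pullback.fst g b) :=
    IsPullback.of_bot (by rw [hq'₂, hq.over]; exact hPB) hq'₁.symm (IsPullback.of_hasPullback g b)
  have haff : IsAffineHom q' := MorphismProperty.of_isPullback hQ hq.isQuot.affine
  have hperm : ∀ σ, SymProd.permHom (pullback.snd f b) n σ ≫ c = c ≫ SymProd.permHom f n σ := fun σ => by
    refine WidePullback.hom_ext _ _ _ (fun i => ?_) ?_
    · rw [Category.assoc, hcπ, SymProd.permHom_π_assoc, Category.assoc, SymProd.permHom_π, hcπ]
    · rw [Category.assoc, hcb, SymProd.permHom_base_assoc, Category.assoc, SymProd.permHom_base, hcb]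
  have hinv : ∀ g' : ULift.{u} (Equiv.Perm (Fin n)),
      (SymProd.permActU (pullback.snd f b) n g').hom ≫ q' = q' := fun σ => by
    refine pullback.hom_ext ?_ ?_
    · rw [Category.assoc, hq'₁, SymProd.permActU_hom, ← Category.assoc, hperm, Category.assoc]
      rw [← SymProd.permActU_hom f n σ, hq.isQuot.inv]
    · rw [Category.assoc, hq'₂, SymProd.permActU_hom, SymProd.permHom_base]
  refine ⟨SGA1Q.isQuot_of_affine_cover haff hinv fun y' => ?_, hq'₂⟩
  obtain ⟨V, hV, U, hU, hUV, hW, W', hyW', hW'a, hW'⟩ :=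
    exists_chart hAF hq {V | IsAffineOpen V} (fun _ h => h) (fun s => by
      obtain ⟨V, hV, hs, -⟩ := exists_isAffineOpen_mem_and_subset (x := s) (U := ⊤) trivial
      exact ⟨V, hV, hs⟩) ((pullback.fst g b).base y')
  have hV : IsAffineOpen V := hV
  have e' : W' ≤ g ⁻¹ᵁ V := by
    intro y hy
    obtain ⟨x, rfl⟩ := SGA1Q.surjective hq.isQuot y
    have hx : x ∈ box f n V U := by rw [← hW']; exact hy
    show g.base (q.base x) ∈ V
    rw [← Scheme.Hom.comp_apply, hq.over]
    exact (mem_box.1 hx).1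
  obtain ⟨V', hV', hsV', hV'le⟩ := exists_isAffineOpen_mem_and_subset
    (x := (pullback.snd g b).base y') (U := b ⁻¹ᵁ V) (by
      show b.base ((pullback.snd g b).base y') ∈ V
      rw [← Scheme.Hom.comp_apply, ← pullback.condition, Scheme.Hom.comp_apply]
      exact e' hyW')
  let O : (pullback g b).Opens := pullback.fst g b ⁻¹ᵁ W' ⊓ pullback.snd g b ⁻¹ᵁ V'
  have hO : IsAffineOpen O := by
    haveI : IsAffine _ := hV
    haveI : IsAffine _ := hV'
    haveI : IsAffine _ := hW'a
    exact .of_isIso (Scheme.Hom.isPullback_resLE (IsPullback.of_hasPullback g b) (UX := W') (US := V)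
      hV'le e' (rfl : pullback.fst g b ⁻¹ᵁ W' ⊓ pullback.snd g b ⁻¹ᵁ V' = O)).isoPullback.hom
  refine ⟨O, hO, ⟨hyW', hsV'⟩, ?_⟩
  set W := box f n V U with hWdef
  have hWle : W ≤ (WidePullback.base fun _ : Fin n => f) ⁻¹ᵁ V := box_le_base
  have hUY : q' ⁻¹ᵁ O = c ⁻¹ᵁ W ⊓ (WidePullback.base fun _ => pullback.snd f b) ⁻¹ᵁ V' := by
    show q' ⁻¹ᵁ (pullback.fst g b ⁻¹ᵁ W') ⊓ q' ⁻¹ᵁ (pullback.snd g b ⁻¹ᵁ V') = _
    rw [← Scheme.Hom.comp_preimage, ← Scheme.Hom.comp_preimage, hq'₁, hq'₂, Scheme.Hom.comp_preimage,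
      hW']
  have hOle : O ≤ pullback.fst g b ⁻¹ᵁ W' := inf_le_left
  have hOle' : O ≤ pullback.snd g b ⁻¹ᵁ V' := inf_le_right
  have hcle : q' ⁻¹ᵁ O ≤ c ⁻¹ᵁ W := hUY.le.trans inf_le_left
  have hble : q' ⁻¹ᵁ O ≤ (WidePullback.base fun _ => pullback.snd f b) ⁻¹ᵁ V' := hUY.le.trans inf_le_right
  have hpoA := (isIso_pushoutSection_iff hPB (US := V) (UT := V') (UX := W) hV'le hWle hUY).1
    (isIso_pushoutSection_of_isAffineOpen hPB hV'le hWle hUY hV hV' hW)
  have hpoB := (isIso_pushoutSection_iff (IsPullback.of_hasPullback g b) (US := V) (UT := V') (UX := W')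
    (UY := O) hV'le e' rfl).1
    (isIso_pushoutSection_of_isAffineOpen (IsPullback.of_hasPullback g b) hV'le e' rfl hV hV' hW'a)
  letI algRA := ((WidePullback.base fun _ : Fin n => f).appLE V W hWle).hom.toAlgebra
  letI algRR' := (b.appLE V V' hV'le).hom.toAlgebra
  letI algAA' := (c.appLE W (q' ⁻¹ᵁ O) hcle).hom.toAlgebra
  letI algR'A' := ((WidePullback.base fun _ => pullback.snd f b).appLE V' (q' ⁻¹ᵁ O) hble).hom.toAlgebra
  letI algRA' := ((c.appLE W (q' ⁻¹ᵁ O) hcle).hom.comp
    ((WidePullback.base fun _ : Fin n => f).appLE V W hWle).hom).toAlgebra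
  haveI : IsScalarTower Γ(S, V) Γ(SymProd.fibPow f n, W) Γ(SymProd.fibPow (pullback.snd f b) n, q' ⁻¹ᵁ O) :=
    IsScalarTower.of_algebraMap_eq' rfl
  haveI : IsScalarTower Γ(S, V) Γ(S', V') Γ(SymProd.fibPow (pullback.snd f b) n, q' ⁻¹ᵁ O) :=
    IsScalarTower.of_algebraMap_eq' (congrArg CommRingCat.Hom.hom hpoA.w)
  haveI : Algebra.IsPushout Γ(S, V) Γ(S', V') Γ(SymProd.fibPow f n, W)
      Γ(SymProd.fibPow (pullback.snd f b) n, q' ⁻¹ᵁ O) := CommRingCat.isPushout_iff_isPushout.1 hpoA.flip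
  letI algRB := (g.appLE V W' e').hom.toAlgebra
  letI algBB' := ((pullback.fst g b).appLE W' O hOle).hom.toAlgebra
  letI algR'B' := ((pullback.snd g b).appLE V' O hOle').hom.toAlgebra
  letI algRB' := (((pullback.fst g b).appLE W' O hOle).hom.comp (g.appLE V W' e').hom).toAlgebra
  haveI : IsScalarTower Γ(S, V) Γ(Y, W') Γ(pullback g b, O) := IsScalarTower.of_algebraMap_eq' rfl
  haveI : IsScalarTower Γ(S, V) Γ(S', V') Γ(pullback g b, O) :=
    IsScalarTower.of_algebraMap_eq' (congrArg CommRingCat.Hom.hom hpoB.w)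
  haveI : Algebra.IsPushout Γ(S, V) Γ(S', V') Γ(Y, W') Γ(pullback g b, O) :=
    CommRingCat.isPushout_iff_isPushout.1 hpoB.flip
  let ι : Γ(Y, W') →ₐ[Γ(S, V)] Γ(SymProd.fibPow f n, W) :=
    { (q.appLE W' W hW'.ge).hom with
      commutes' := fun r => by
        show (q.appLE W' W hW'.ge).hom ((g.appLE V W' e').hom r) = _
        rw [← RingHom.comp_apply, ← CommRingCat.hom_comp, Scheme.Hom.appLE_comp_appLE,
          appLE_congr_hom hq.over _ hWle]
        rfl }
  let σA : Equiv.Perm (Fin n) → Γ(SymProd.fibPow f n, W) →ₐ[Γ(S, V)] Γ(SymProd.fibPow f n, W) := fun σ =>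
    { ((SymProd.permHom f n σ).appLE W W (box_le_perm σ)).hom with
      commutes' := fun r => by
        show ((SymProd.permHom f n σ).appLE W W (box_le_perm σ)).hom
          (((WidePullback.base fun _ : Fin n => f).appLE V W hWle).hom r) = _
        rw [← RingHom.comp_apply, ← CommRingCat.hom_comp, Scheme.Hom.appLE_comp_appLE,
          appLE_congr_hom (SymProd.permHom_base f n σ) _ hWle]
        rfl }
  letI algXU := (f.appLE V U hUV).hom.toAlgebra
  haveI : Module.Flat Γ(S, V) Γ(X, U) :=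
    (RingHom.flat_algebraMap_iff (R := Γ(S, V)) (S := Γ(X, U))).1 (f.flat_appLE hV hU hUV)
  let eT : (⨂[Γ(S, V)]^n Γ(X, U)) ≃ₗ[Γ(S, V)] Γ(SymProd.fibPow f n, W) :=
    LinearEquiv.ofBijective
      { toFun := boxHom (d := n) hUV rfl
        map_add' := map_add _
        map_smul' := fun r t => by
          rw [Algebra.smul_def, Algebra.smul_def, map_mul, boxHom_algebraMap]
          rfl }
      (boxHom_bijective hUV rfl hV hU)
  have hιinj : Function.Injective ι := by
    show Function.Injective (q.appLE W' W hW'.ge).hom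
    exact appLE_injective hq.isQuot hW'
  obtain ⟨h1, h2⟩ := lTensor_invariants (N := Γ(S', V')) eT ι.toLinearMap hιinj
    (fun t => (chart_range hq hUV rfl hV hU W' hW' t).trans
      ((SymTen.mem_TS_iff _ _ _ t).trans PolLib.mem_invSub.symm))
    (fun σ => (σA σ).toLinearMap) (fun σ t => by
      show ((SymProd.permHom f n σ⁻¹).appLE W W (box_le_perm _)).hom (boxHom (d := n) hUV rfl t) =
        boxHom (d := n) hUV rfl _
      rw [← boxHom_perm, SymTen.perm_apply])
  have hτle : ∀ σ, q' ⁻¹ᵁ O ≤ SymProd.permHom (pullback.snd f b) n σ ⁻¹ᵁ (q' ⁻¹ᵁ O) := fun σ =>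
    SGA1.preimage_le_of_inv _ q' hinv ⟨σ⟩ O
  obtain ⟨h3, h4⟩ := pushout_invariants ι (q'.app O).hom σA
    (fun σ => ((SymProd.permHom (pullback.snd f b) n σ).appLE (q' ⁻¹ᵁ O) (q' ⁻¹ᵁ O) (hτle σ)).hom)
    (fun x => by
      show (q'.app O).hom (((pullback.fst g b).appLE W' O hOle).hom x) =
        (c.appLE W (q' ⁻¹ᵁ O) hcle).hom ((q.appLE W' W hW'.ge).hom x)
      rw [Scheme.Hom.app_eq_appLE, ← RingHom.comp_apply, ← CommRingCat.hom_comp,
        Scheme.Hom.appLE_comp_appLE, ← RingHom.comp_apply, ← CommRingCat.hom_comp,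
        Scheme.Hom.appLE_comp_appLE, appLE_congr_hom hq'₁ _ _])
    (fun r => by
      show (q'.app O).hom (((pullback.snd g b).appLE V' O hOle').hom r) = _
      rw [Scheme.Hom.app_eq_appLE, ← RingHom.comp_apply, ← CommRingCat.hom_comp,
        Scheme.Hom.appLE_comp_appLE, appLE_congr_hom hq'₂ _ hble]
      rfl)
    (fun σ a => by
      show ((SymProd.permHom (pullback.snd f b) n σ).appLE _ _ (hτle σ)).hom
          ((c.appLE W (q' ⁻¹ᵁ O) hcle).hom a) =
        (c.appLE W (q' ⁻¹ᵁ O) hcle).hom (((SymProd.permHom f n σ).appLE W W (box_le_perm σ)).hom a)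
      rw [← RingHom.comp_apply, ← CommRingCat.hom_comp, Scheme.Hom.appLE_comp_appLE,
        ← RingHom.comp_apply, ← CommRingCat.hom_comp, Scheme.Hom.appLE_comp_appLE,
        appLE_congr_hom (hperm σ) _ _])
    (fun σ r => by
      show ((SymProd.permHom (pullback.snd f b) n σ).appLE _ _ (hτle σ)).hom
          (((WidePullback.base fun _ => pullback.snd f b).appLE V' (q' ⁻¹ᵁ O) hble).hom r) = _
      rw [← RingHom.comp_apply, ← CommRingCat.hom_comp, Scheme.Hom.appLE_comp_appLE,
        appLE_congr_hom (SymProd.permHom_base _ n σ) _ hble]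
      rfl)
    h1 h2
  exact ⟨h3, fun s hs => h4 s fun σ => hs ⟨σ⟩⟩

end Groth.Agent.SymProdLib
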