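import Groth.Agent.SymProdLib.CurveRank
import Groth.Agent.AlgSpDec.SmoothLocDim
import Groth.Agent.DescLib.Reduced
import Groth.Agent.GrpSchLib.GeomIrr
import Groth.Agent.VarDim.Top

/-!
# Fibre powers of a smooth irreducible scheme over an algebraically closed field
-/

set_option autoImplicit false
set_option linter.style.haveILetI false

universe u

open CategoryTheory CategoryTheory.Limits AlgebraicGeometry

namespace Groth.Agent.SymProdLib

variable {k : Type u} [Field k] {X : Scheme.{u}} {f : X ⟶ Spec (CommRingCat.of k)}

/-- An irreducible smooth scheme over a field is smooth of relative dimension its dimension. -/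
theorem smoothOfRelativeDimension_of_irreducible [Smooth f] [IrreducibleSpace X] (d : ℕ)
    (hdim : topologicalKrullDim X = d) : SmoothOfRelativeDimension d f := by
  have hgen : VarDim.deg f (genericPoint X) = d := by
    have h := VarDim.topologicalKrullDim_eq_deg_genericPoint f
    rw [hdim] at h
    exact_mod_cast h.symm
  choose V j v m hj hv hm using AlgSpDec.SmoothLocDim.exists_smoothOfRelativeDimension_nhd f
  have hmd : ∀ x, m x = d := fun x => by
    haveI := hj x
    haveI := hm x
    haveI : Nonempty (V x) := ⟨v x⟩
    obtain ⟨η, hη⟩ : genericPoint X ∈ Set.range (j x).base :=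
      (genericPoint_spec X).mem_open_set_iff (j x).isOpenEmbedding.isOpen_range |>.2
        ⟨(j x).base (v x), trivial, v x, rfl⟩
    have hmax : ∀ w, w ⤳ η → w = η := fun w hw => by
      have h1 : (j x).base w ⤳ genericPoint X := hη ▸ hw.map (j x).continuous
      exact (j x).isOpenEmbedding.injective
        ((h1.antisymm ((genericPoint_spec X).specializes trivial)).eq.trans hη.symm)
    have h := deg_eq_of_maximal (j x ≫ f) (m x) hmax
    rw [VarDim.deg_comp f (j x) η] at h
    rw [← h, ← hgen]
    exact congrArg _ hη
  let 𝒰 : X.OpenCover :=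
    { I₀ := X
      X := V
      f := j
      mem₀ := by
        rw [Scheme.presieve₀_mem_precoverage_iff]
        exact ⟨fun x => ⟨x, v x, hv x⟩, fun x => hj x⟩ }
  haveI : IsZariskiLocalAtSource (@SmoothOfRelativeDimension.{u} d) :=
    HasRingHomProperty.instIsZariskiLocalAtSource (P := @SmoothOfRelativeDimension d)
  exact IsZariskiLocalAtSource.of_openCover (P := @SmoothOfRelativeDimension d) 𝒰 fun x => hmd x ▸ hm x

variable (f) in
theorem smooth_base [Smooth f] : ∀ n : ℕ, Smooth (WidePullback.base fun _ : Fin n => f)
  | 0 => by
    haveI := isIso_base_zero f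
    infer_instance
  | n + 1 => by
    haveI := smooth_base n
    haveI : Smooth (dropLast f n) := MorphismProperty.of_isPullback (isPullback_succ f n).flip inferInstance
    rw [← dropLast_base f n]
    infer_instance

variable (f) in
theorem isSeparated_base [IsSeparated f] : ∀ n : ℕ, IsSeparated (WidePullback.base fun _ : Fin n => f)
  | 0 => by
    haveI := isIso_base_zero f
    infer_instance
  | n + 1 => by
    haveI := isSeparated_base n
    haveI : IsSeparated (dropLast f n) := MorphismProperty.of_isPullback (isPullback_succ f n).flip inferInstance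
    rw [← dropLast_base f n]
    infer_instance

variable (f) in
theorem smoothOfRelativeDimension_base' (d : ℕ) [SmoothOfRelativeDimension d f] :
    ∀ n : ℕ, SmoothOfRelativeDimension (n * d) (WidePullback.base fun _ : Fin n => f)
  | 0 => by
    haveI := isIso_base_zero f
    rw [zero_mul]
    infer_instance
  | n + 1 => by
    haveI := smoothOfRelativeDimension_base' d n
    haveI : MorphismProperty.IsStableUnderBaseChange (@SmoothOfRelativeDimension.{u} d) :=
      smoothOfRelativeDimension_isStableUnderBaseChange d
    haveI : SmoothOfRelativeDimension d (dropLast f n) :=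
      MorphismProperty.of_isPullback (isPullback_succ f n).flip inferInstance
    have h : SmoothOfRelativeDimension (d + n * d) (dropLast f n ≫ WidePullback.base fun _ : Fin n => f) :=
      inferInstance
    rw [dropLast_base] at h
    rw [Nat.succ_mul, add_comm]
    exact h

theorem irreducibleSpace_fibPow [IsAlgClosed k] [Smooth f] [IrreducibleSpace X] :
    ∀ n : ℕ, IrreducibleSpace ↥(SymProd.fibPow f n)
  | 0 => by
    haveI := isIso_base_zero f
    exact (WidePullback.base fun _ : Fin 0 => f).homeomorph.irreducibleSpace_iff.mpr
      (inferInstanceAs (IrreducibleSpace (PrimeSpectrum k)))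
  | n + 1 => by
    haveI := irreducibleSpace_fibPow n
    haveI := GrpSchLib.geometricallyIrreducible_of_isAlgClosed f
    exact (isPullback_succ f n).isoPullback.hom.homeomorph.irreducibleSpace_iff.mpr inferInstance

theorem isIntegral_fibPow [IsAlgClosed k] [Smooth f] [IrreducibleSpace X] (n : ℕ) :
    IsIntegral (SymProd.fibPow f n) := by
  haveI := irreducibleSpace_fibPow (f := f) n
  haveI := smooth_base f n
  haveI : IsReduced (SymProd.fibPow f n) :=
    DescLib.isReduced_of_smooth_of_isReduced (WidePullback.base fun _ : Fin n => f)
  exact isIntegral_of_irreducibleSpace_of_isReduced _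

variable [IsSeparated f]

/-- The coincidence locus has codimension at least `d`. -/
theorem deg_le_of_notMem_freeLocus (d : ℕ) [SmoothOfRelativeDimension d f] {n : ℕ}
    {η : ↥(SymProd.fibPow f n)} (hη : η ∉ freeLocus f n) :
    VarDim.deg (WidePullback.base fun _ : Fin n => f) η + d ≤ n * d := by
  haveI : Smooth f := SmoothOfRelativeDimension.smooth d f
  rw [mem_freeLocus] at hη
  push_neg at hη
  obtain ⟨i, j, hij, z, hz⟩ := hη
  obtain ⟨m, rfl⟩ : ∃ m, n = m + 1 := ⟨n - 1, by omega⟩
  haveI := smooth_base f (m + 1)
  haveI := smooth_base f m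
  haveI := smoothOfRelativeDimension_base' f d m
  let P := SymProd.fibPow f (m + 1)
  let ξ := P.fromSpecResidueField η
  let π := fun a : Fin (m + 1) => WidePullback.π (fun _ : Fin (m + 1) => f) a
  -- the two coordinates agree on the residue field
  have heq : ξ ≫ π i = ξ ≫ π j := by
    have hrange : Set.range (ξ ≫ pairπ f (m + 1) i j).base ⊆ Set.range (pullback.diagonal f).base := by
      rintro _ ⟨w, rfl⟩
      refine ⟨z, hz.trans ?_⟩
      rw [Scheme.Hom.comp_apply, Scheme.fromSpecResidueField_apply]
    obtain ⟨l, hl⟩ := H23.RedSub.exists_lift_closed (ξ ≫ pairπ f (m + 1) i j) (pullback.diagonal f) hrange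
    have e1 := congrArg (· ≫ pullback.fst f f) hl
    have e2 := congrArg (· ≫ pullback.snd f f) hl
    simp only [pairπ, Category.assoc, pullback.lift_fst, pullback.lift_snd, pullback.diagonal_fst,
      pullback.diagonal_snd] at e1 e2
    exact e1.symm.trans e2
  obtain ⟨i', hi'⟩ := Fin.exists_succAbove_eq hij
  -- the partial diagonal
  let δ : SymProd.fibPow f m ⟶ P :=
    WidePullback.lift (WidePullback.base fun _ : Fin m => f)
      (Fin.insertNth (α := fun _ => SymProd.fibPow f m ⟶ X) j (WidePullback.π (fun _ : Fin m => f) i')
        fun a => WidePullback.π (fun _ : Fin m => f) a)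
      (Fin.succAboveCases j (by simp) fun a => by simp)
  let ξ' : Spec (P.residueField η) ⟶ SymProd.fibPow f m :=
    WidePullback.lift (ξ ≫ WidePullback.base fun _ : Fin (m + 1) => f) (fun a => ξ ≫ π (j.succAbove a))
      (fun a => by simp [π])
  have hδ : ξ' ≫ δ = ξ := by
    refine WidePullback.hom_ext _ _ _ (fun b => ?_) ?_
    · rcases Fin.eq_self_or_eq_succAbove j b with hb | ⟨a, hb⟩
      · subst hb
        rw [Category.assoc, WidePullback.lift_π, Fin.insertNth_apply_same, WidePullback.lift_π]
        show ξ ≫ π (b.succAbove i') = ξ ≫ π b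
        rw [hi']
        exact heq
      · subst hb
        rw [Category.assoc, WidePullback.lift_π, Fin.insertNth_apply_succAbove, WidePullback.lift_π]
    · rw [Category.assoc, WidePullback.lift_base, WidePullback.lift_base]
  let w : Spec (P.residueField η) := IsLocalRing.closedPoint (P.residueField η)
  have hw : δ.base (ξ'.base w) = η := by
    rw [← Scheme.Hom.comp_apply, hδ, Scheme.fromSpecResidueField_apply]
  have h1 : VarDim.deg (WidePullback.base fun _ : Fin (m + 1) => f) (δ.base (ξ'.base w)) ≤
      VarDim.deg (WidePullback.base fun _ : Fin m => f) (ξ'.base w) :=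
    VarDim.deg_map_le δ _ (WidePullback.lift_base (fun _ : Fin (m + 1) => f) _ _ _) _
  rw [hw] at h1
  obtain ⟨μ, hμ, hμmax⟩ := VarDim.exists_maximal_generalization (WidePullback.base fun _ : Fin m => f) (ξ'.base w)
  have h2 := (VarDim.deg_le_of_specializes (WidePullback.base fun _ : Fin m => f) hμ).trans_eq
    (deg_eq_of_maximal _ (m * d) hμmax)
  rw [Nat.succ_mul]
  omega

variable [IsAlgClosed k] [IrreducibleSpace X] (d : ℕ) [SmoothOfRelativeDimension d f] {n : ℕ}

theorem genericPoint_mem_freeLocus (hd : 0 < d) :
    haveI : Smooth f := SmoothOfRelativeDimension.smooth d f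
    haveI := irreducibleSpace_fibPow (f := f) n
    genericPoint ↥(SymProd.fibPow f n) ∈ freeLocus f n := by
  haveI : Smooth f := SmoothOfRelativeDimension.smooth d f
  haveI := irreducibleSpace_fibPow (f := f) n
  haveI := smooth_base f n
  haveI := smoothOfRelativeDimension_base' f d n
  by_contra h
  have h1 := deg_le_of_notMem_freeLocus d h
  rw [deg_eq_of_maximal _ (n * d) fun w hw => (hw.antisymm ((genericPoint_spec _).specializes trivial)).eq] at h1
  omega

/-- Points of the coincidence locus have local rings of dimension at least `d`. -/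
theorem le_ringKrullDim_stalk {η : ↥(SymProd.fibPow f n)} (hη : η ∉ freeLocus f n) :
    (d : WithBot ℕ∞) ≤ ringKrullDim ((SymProd.fibPow f n).presheaf.stalk η) := by
  haveI : Smooth f := SmoothOfRelativeDimension.smooth d f
  haveI := irreducibleSpace_fibPow (f := f) n
  haveI := smooth_base f n
  haveI := smoothOfRelativeDimension_base' f d n
  obtain ⟨b, hb, -, hle⟩ := VarDim.exists_deg_add_stalk (WidePullback.base fun _ : Fin n => f) η
  have h1 := hle (genericPoint _) ((genericPoint_spec _).specializes trivial)
  rw [deg_eq_of_maximal _ (n * d) fun w hw => (hw.antisymm ((genericPoint_spec _).specializes trivial)).eq] at h1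
  have h2 := deg_le_of_notMem_freeLocus d hη
  rw [hb]
  exact_mod_cast (show d ≤ b by omega)

end Groth.Agent.SymProdLib
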