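import Groth.Agent.SymProdLib.Box
import Groth.Agent.SGA1Q.Properties
import Groth.Agent.SGA1Q.Orbits
import Groth.Agent.PolLib.FlatTS
import Mathlib.AlgebraicGeometry.Morphisms.Flat

/-!
# Affine charts of symmetric products
-/

set_option autoImplicit false
set_option linter.style.haveILetI false

universe u

open CategoryTheory CategoryTheory.Limits AlgebraicGeometry Opposite
open scoped TensorProduct

namespace Groth.Agent.SymProdLib

variable {X S Y : Scheme.{u}} {f : X ⟶ S} {d : ℕ} {q : SymProd.fibPow f d ⟶ Y} {g : Y ⟶ S}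

/-- An invariant open of the fibre power is the preimage of an open of the quotient. -/
theorem exists_image_open (hq : SymProd.IsSymProd f d q g) (W : (SymProd.fibPow f d).Opens)
    (hW : ∀ σ : Equiv.Perm (Fin d), (SymProd.permHom f d σ) ⁻¹ᵁ W = W) :
    ∃ W' : Y.Opens, q ⁻¹ᵁ W' = W := by
  haveI : Finite (ULift.{u} (Equiv.Perm (Fin d))) := inferInstance
  have hsat : q.base ⁻¹' (q.base '' (W : Set ↥(SymProd.fibPow f d))) = (W : Set ↥(SymProd.fibPow f d)) := by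
    refine Set.Subset.antisymm ?_ (Set.subset_preimage_image _ _)
    rintro x ⟨x', hx', he⟩
    obtain ⟨σ, hσ⟩ := (SGA1Q.orbit_iff hq.isQuot x x').1 he.symm
    rw [SymProd.permActU_hom] at hσ
    have : x ∈ (SymProd.permHom f d σ.down) ⁻¹ᵁ W := by
      show (SymProd.permHom f d σ.down).base x ∈ W
      rw [hσ]; exact hx'
    rwa [hW] at this
  refine ⟨⟨q.base '' W, ?_⟩, TopologicalSpace.Opens.ext hsat⟩
  rw [← (SGA1Q.isQuotientMap hq.isQuot).isOpen_preimage, hsat]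
  exact W.2

/-- The image of an invariant affine open is affine. -/
theorem isAffineOpen_of_preimage (hq : SymProd.IsSymProd f d q g) (W' : Y.Opens)
    (hW : IsAffineOpen (q ⁻¹ᵁ W')) : IsAffineOpen W' := by
  have hst : ∀ σ : ULift.{u} (Equiv.Perm (Fin d)), q ⁻¹ᵁ W' ≤ (SymProd.permActU f d σ).hom ⁻¹ᵁ (q ⁻¹ᵁ W') :=
    fun σ => SGA1.preimage_le_of_inv _ q hq.isQuot.inv σ W'
  haveI : IsAffine (q ⁻¹ᵁ W').toScheme := hW
  exact SGA1Q.isAffine_of_isQuot (SGA1Q.isQuot_morphismRestrict hq.isQuot W'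
    (SGA1Q.restrictAction (SymProd.permActU f d) (q ⁻¹ᵁ W') hst)
    (SGA1Q.restrictAction_hom_ι (SymProd.permActU f d) (q ⁻¹ᵁ W') hst))

/-- Every point of a symmetric product has a neighbourhood of the form `Sym^d(U/V)`. -/
theorem exists_chart (hAF : SymProd.IsAF f) (hq : SymProd.IsSymProd f d q g)
    (𝒮 : Set S.Opens) (h𝒮 : ∀ V ∈ 𝒮, IsAffineOpen V) (hcov : ∀ s : S, ∃ V ∈ 𝒮, s ∈ V) (y : Y) :
    ∃ V ∈ 𝒮, ∃ U : X.Opens, IsAffineOpen U ∧ U ≤ f ⁻¹ᵁ V ∧
      IsAffineOpen (box f d V U) ∧ ∃ W' : Y.Opens, y ∈ W' ∧ IsAffineOpen W' ∧ q ⁻¹ᵁ W' = box f d V U := by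
  haveI : Finite (ULift.{u} (Equiv.Perm (Fin d))) := inferInstance
  obtain ⟨x, rfl⟩ := SGA1Q.surjective hq.isQuot y
  obtain ⟨V, hV𝒮, hsV⟩ := hcov ((WidePullback.base fun _ : Fin d => f).base x)
  obtain ⟨U, hU, hUV, hxU⟩ := exists_affine_containing hAF hsV
    (fun i => (WidePullback.π (fun _ : Fin d => f) i).base x) (fun i => f_π_apply i x)
  have hW : IsAffineOpen (box f d V U) := isAffineOpen_box hUV (h𝒮 V hV𝒮) hU
  obtain ⟨W', hW'⟩ := exists_image_open hq (box f d V U) permHom_preimage_box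
  refine ⟨V, hV𝒮, U, hU, hUV, hW, W', ?_, isAffineOpen_of_preimage hq W' (by rw [hW']; exact hW), hW'⟩
  have : x ∈ q ⁻¹ᵁ W' := by rw [hW']; exact mem_box.2 ⟨hsV, hxU⟩
  exact this

variable {V : S.Opens} {U : X.Opens} [Algebra Γ(S, V) Γ(X, U)]

/-- The sections on a chart are the symmetric tensors. -/
theorem chart_range (hq : SymProd.IsSymProd f d q g) (e : U ≤ f ⁻¹ᵁ V)
    (halg : algebraMap Γ(S, V) Γ(X, U) = (f.appLE V U e).hom) (hV : IsAffineOpen V) (hU : IsAffineOpen U)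
    (W' : Y.Opens) (hW' : q ⁻¹ᵁ W' = box f d V U) (t : ⨂[Γ(S, V)] _ : Fin d, Γ(X, U)) :
    boxHom e halg t ∈ Set.range (q.appLE W' (box f d V U) hW'.ge).hom ↔
      t ∈ SymTen.TS Γ(S, V) Γ(X, U) d := by
  have hb := boxHom_bijective (d := d) e halg hV hU
  have key : ∀ (B : (SymProd.fibPow f d).Opens) (hB : q ⁻¹ᵁ W' = B)
      (hp : ∀ σ : Equiv.Perm (Fin d), B ≤ (SymProd.permHom f d σ) ⁻¹ᵁ B) (s : Γ(SymProd.fibPow f d, B)),
      s ∈ Set.range (q.appLE W' B hB.ge).hom ↔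
        ∀ σ : Equiv.Perm (Fin d), ((SymProd.permHom f d σ).appLE B B (hp σ)).hom s = s := by
    intro B hB hp s
    subst hB
    constructor
    · rintro ⟨t, rfl⟩ σ
      rw [← Scheme.Hom.app_eq_appLE]
      exact SGA1Q.appLE_app_of_inv hq.isQuot.inv W' ⟨σ⟩ t
    · intro h
      rw [← Scheme.Hom.app_eq_appLE]
      exact (hq.isQuot.range_iff W' s).2 fun σ => h σ.down
  rw [key _ hW' box_le_perm, SymTen.mem_TS_iff]
  refine ⟨fun h σ => hb.1 ?_, fun h σ => ?_⟩
  · rw [← SymTen.perm_apply, boxHom_perm]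
    exact h σ⁻¹
  · have h2 := boxHom_perm (d := d) e halg σ⁻¹ t
    simp only [SymTen.perm_apply, h, inv_inv] at h2
    exact h2.symm

theorem chart_flat (hq : SymProd.IsSymProd f d q g) (e : U ≤ f ⁻¹ᵁ V)
    (halg : algebraMap Γ(S, V) Γ(X, U) = (f.appLE V U e).hom) (hV : IsAffineOpen V) (hU : IsAffineOpen U)
    [Module.Flat Γ(S, V) Γ(X, U)] (W' : Y.Opens) (hW' : q ⁻¹ᵁ W' = box f d V U) (e' : W' ≤ g ⁻¹ᵁ V) :
    (g.appLE V W' e').hom.Flat := by
  have hflat : Module.Flat Γ(S, V) (SymTen.TS Γ(S, V) Γ(X, U) d) := PolLib.flat_TS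
  have hb := boxHom_bijective (d := d) e halg hV hU
  letI := (g.appLE V W' e').hom.toAlgebra
  have hinj : Function.Injective (q.appLE W' (box f d V U) hW'.ge).hom := by
    generalize box f d V U = B at hW'
    subst hW'
    rw [← Scheme.Hom.app_eq_appLE]
    exact hq.isQuot.injective W'
  have hcomp : ∀ r, (q.appLE W' (box f d V U) hW'.ge).hom (algebraMap Γ(S, V) Γ(Y, W') r) =
      boxHom (d := d) e halg (algebraMap Γ(S, V) _ r) := fun r => by
    rw [boxHom_algebraMap, RingHom.algebraMap_toAlgebra, ← RingHom.comp_apply,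
      ← CommRingCat.hom_comp, Scheme.Hom.appLE_comp_appLE, appLE_congr_hom hq.over _ box_le_base]
  let T := ⨂[Γ(S, V)] _ : Fin d, Γ(X, U)
  let eqv : T ≃+* Γ(SymProd.fibPow f d, box f d V U) := RingEquiv.ofBijective (boxHom e halg) hb
  let φ : Γ(Y, W') →ₐ[Γ(S, V)] T :=
    { (eqv.symm.toRingHom).comp (q.appLE W' (box f d V U) hW'.ge).hom with
      commutes' := fun r => by
        show eqv.symm ((q.appLE W' (box f d V U) hW'.ge).hom (algebraMap Γ(S, V) Γ(Y, W') r)) = _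
        rw [hcomp]
        exact eqv.symm_apply_apply (algebraMap Γ(S, V) T r) }
  have hφ : ∀ a, boxHom e halg (φ a) = (q.appLE W' (box f d V U) hW'.ge).hom a :=
    fun a => eqv.apply_symm_apply _
  let ψ : Γ(Y, W') →ₐ[Γ(S, V)] SymTen.TS Γ(S, V) Γ(X, U) d :=
    φ.codRestrict _ fun a => (chart_range hq e halg hV hU W' hW' _).1 ⟨a, (hφ a).symm⟩
  have hψ : Function.Bijective ψ := by
    refine ⟨fun a b h => hinj ?_, fun t => ?_⟩
    · rw [← hφ, ← hφ]
      exact congrArg (boxHom e halg) (congrArg Subtype.val h)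
    · obtain ⟨a, ha⟩ := (chart_range hq e halg hV hU W' hW' t.1).2 t.2
      exact ⟨a, Subtype.ext (hb.1 ((hφ a).trans ha))⟩
  exact (RingHom.flat_algebraMap_iff (R := Γ(S, V)) (S := Γ(Y, W'))).2
    (Module.Flat.of_linearEquiv (AlgEquiv.ofBijective ψ hψ).toLinearEquiv)

theorem flat_symProd {f : X ⟶ S} [Flat f] (hAF : SymProd.IsAF f) {q : SymProd.fibPow f d ⟶ Y}
    (hq : SymProd.IsSymProd f d q g) : Flat g := by
  rw [HasRingHomProperty.iff_exists_appLE (P := @Flat)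
    (RingHom.Flat.stableUnderComposition.stableUnderCompositionWithLocalizationAway
      RingHom.Flat.holdsForLocalizationAway).left]
  intro y
  obtain ⟨V, hV, U, hU, hUV, hW, W', hyW', hW'a, hW'⟩ :=
    exists_chart hAF hq {V | IsAffineOpen V} (fun _ h => h) (fun s => by
      obtain ⟨V, hV, hs, -⟩ := exists_isAffineOpen_mem_and_subset (x := s) (U := ⊤) trivial
      exact ⟨V, hV, hs⟩) y
  have e' : W' ≤ g ⁻¹ᵁ V := by
    intro y' hy'
    obtain ⟨x, rfl⟩ := SGA1Q.surjective hq.isQuot y'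
    have hx : x ∈ box f d V U := by rw [← hW']; exact hy'
    show g.base (q.base x) ∈ V
    rw [← Scheme.Hom.comp_apply, hq.over]
    exact (mem_box.1 hx).1
  refine ⟨⟨V, hV⟩, ⟨W', hW'a⟩, hyW', e', ?_⟩
  letI := (f.appLE V U hUV).hom.toAlgebra
  haveI : Module.Flat Γ(S, V) Γ(X, U) :=
    (RingHom.flat_algebraMap_iff (R := Γ(S, V)) (S := Γ(X, U))).1 (f.flat_appLE hV hU hUV)
  exact chart_flat hq hUV rfl hV hU W' hW' e'

end Groth.Agent.SymProdLib
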