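import Groth.Agent.SymProdLib.CurveField
import Groth.Agent.SymProdLib.BaseChange
import Groth.Agent.FlatMisc.Fibrewise
import Groth.Agent.SchTorsor.Props
import Groth.Agent.S13708
import Mathlib.AlgebraicGeometry.Morphisms.SmoothFiber

/-!
# Relative symmetric powers of smooth proper curves
-/

set_option autoImplicit false
set_option linter.style.haveILetI false

universe u

open CategoryTheory CategoryTheory.Limits AlgebraicGeometry

namespace Groth.Agent.SymProdLib

variable {X S Y : Scheme.{u}} {f : X ⟶ S} {n : ℕ} {q : SymProd.fibPow f n ⟶ Y} {g : Y ⟶ S}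

/-- The condition on finite sets of points is stable under base change to a field. -/
theorem isAF_baseChange_field (hAF : SymProd.IsAF f) {Ω : Type u} [Field Ω]
    (b : Spec (CommRingCat.of Ω) ⟶ S) : SymProd.IsAF (pullback.snd f b) := by
  classical
  intro w T _
  obtain ⟨V, hV, hsV, -⟩ := exists_isAffineOpen_mem_and_subset (x := b.base w) (U := ⊤) trivial
  haveI : Subsingleton (Spec (CommRingCat.of Ω)) := inferInstanceAs (Subsingleton (PrimeSpectrum Ω))
  have hT : ∀ z ∈ T, f.base ((pullback.fst f b).base z) = b.base w := fun z _ => by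
    rw [← Scheme.Hom.comp_apply, pullback.condition, Scheme.Hom.comp_apply,
      Subsingleton.elim ((pullback.snd f b).base z) w]
  obtain ⟨U, hU, hUV, hmem⟩ := exists_affine_containing hAF (V := V) hsV
    (fun i : Fin T.card => (pullback.fst f b).base (T.equivFin.symm i).1)
    (fun i => hT _ (T.equivFin.symm i).2)
  have hle : (⊤ : (Spec (CommRingCat.of Ω)).Opens) ≤ b ⁻¹ᵁ V := fun v _ => by
    show b.base v ∈ V
    rwa [Subsingleton.elim v w]
  let O : (pullback f b).Opens := pullback.fst f b ⁻¹ᵁ U ⊓ pullback.snd f b ⁻¹ᵁ ⊤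
  refine ⟨O, ?_, fun z hz => ⟨?_, trivial⟩⟩
  · haveI : IsAffine _ := hV
    haveI : IsAffine _ := hU
    haveI : IsAffine _ := isAffineOpen_top (Spec (CommRingCat.of Ω))
    exact .of_isIso (Scheme.Hom.isPullback_resLE (IsPullback.of_hasPullback f b) (UX := U) (US := V)
      hle hUV (rfl : pullback.fst f b ⁻¹ᵁ U ⊓ pullback.snd f b ⁻¹ᵁ ⊤ = O)).isoPullback.hom
  · simpa using hmem (T.equivFin ⟨z, hz⟩)

variable [IsProper f] [SmoothOfRelativeDimension 1 f]

/-- The geometric fibres of a relative symmetric power. -/
theorem geometric_fibre (hAF : SymProd.IsAF f) (hq : SymProd.IsSymProd f n q g) (Ω : Type u) [Field Ω]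
    [IsAlgClosed Ω] (b : Spec (CommRingCat.of Ω) ⟶ S) :
    Smooth (pullback.snd g b) ∧ Flat (pullback.snd q (pullback.fst g b)) := by
  haveI : Smooth f := SmoothOfRelativeDimension.smooth 1 f
  haveI : MorphismProperty.IsStableUnderBaseChange (@SmoothOfRelativeDimension.{u} 1) :=
    smoothOfRelativeDimension_isStableUnderBaseChange 1
  haveI : SmoothOfRelativeDimension 1 (pullback.snd f b) := MorphismProperty.of_isPullback (IsPullback.of_hasPullback f b) inferInstance
  let c : SymProd.fibPow (pullback.snd f b) n ⟶ SymProd.fibPow f n :=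
    WidePullback.lift (WidePullback.base (fun _ : Fin n => pullback.snd f b) ≫ b)
      (fun i => WidePullback.π (fun _ : Fin n => pullback.snd f b) i ≫ pullback.fst f b)
      (fun i => by rw [Category.assoc, pullback.condition, WidePullback.π_arrow_assoc])
  have hcπ : ∀ i : Fin n, c ≫ WidePullback.π (fun _ => f) i =
      WidePullback.π (fun _ => pullback.snd f b) i ≫ pullback.fst f b := fun i =>
    WidePullback.lift_π (fun _ : Fin n => f) _ _ _ i
  have hcb : c ≫ WidePullback.base (fun _ => f) = WidePullback.base (fun _ => pullback.snd f b) ≫ b :=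
    WidePullback.lift_base (fun _ : Fin n => f) _ _ _
  let q' : SymProd.fibPow (pullback.snd f b) n ⟶ pullback g b :=
    pullback.lift (c ≫ q) (WidePullback.base (fun _ => pullback.snd f b))
      (by rw [Category.assoc, hq.over]; exact hcb)
  have hq'₁ : q' ≫ pullback.fst g b = c ≫ q := pullback.lift_fst _ _ _
  have hq'₂ : q' ≫ pullback.snd g b = WidePullback.base (fun _ => pullback.snd f b) := pullback.lift_snd _ _ _
  have hSym := isSymProd_baseChange hAF q g hq b c hcπ hcb q' hq'₁ hq'₂
  have hAF' := isAF_baseChange_field hAF b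
  refine ⟨smooth_symProd_field hAF' hSym, ?_⟩
  haveI : Flat q' := flat_quot_field hAF' hSym
  have hQ : IsPullback c q' q (pullback.fst g b) :=
    IsPullback.of_bot (by rw [hq'₂, hq.over]; exact isPullback_fibPow b c hcπ hcb) hq'₁.symm
      (IsPullback.of_hasPullback g b)
  rw [← hQ.isoPullback_inv_snd]
  infer_instance

omit [IsProper f] [SmoothOfRelativeDimension 1 f] in
theorem quot_facts [IsLocallyNoetherian S] [IsProper f]
    (hq : SymProd.IsSymProd f n q g) :
    IsFinite q ∧ LocallyOfFiniteType g ∧ QuasiCompact g ∧ IsSeparated g := by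
  haveI := isProper_base f n
  haveI : Finite (ULift.{u} (Equiv.Perm (Fin n))) := inferInstance
  obtain ⟨-, hsep, h1, h2⟩ := Groth.Agent.S2909.result (SymProd.permActU f n) q hq.isQuot
    (WidePullback.base fun _ : Fin n => f) g hq.over
    (fun σ => by rw [SymProd.permActU_hom]; exact SymProd.permHom_base f n σ.down)
  exact ⟨h1 inferInstance, (h2 inferInstance inferInstance inferInstance).1,
    (h2 inferInstance inferInstance inferInstance).2, hsep.1 inferInstance⟩

/-- A relative symmetric power of a smooth proper curve is proper and smooth. -/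
theorem isProper_and_smooth_symProd [IsLocallyNoetherian S] (hAF : SymProd.IsAF f)
    (hq : SymProd.IsSymProd f n q g) : IsProper g ∧ Smooth g := by
  obtain ⟨hqf, hgft, hgqc, hgsep⟩ := quot_facts hq
  haveI := isProper_base f n
  haveI : Finite (ULift.{u} (Equiv.Perm (Fin n))) := inferInstance
  haveI : Smooth f := SmoothOfRelativeDimension.smooth 1 f
  constructor
  · haveI : Surjective q := ⟨SGA1Q.surjective hq.isQuot⟩
    haveI : IsProper (q ≫ g) := by rw [hq.over]; infer_instance
    haveI : UniversallyClosed g := UniversallyClosed.of_comp_surjective q g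
    exact { }
  haveI : Flat g := flat_symProd hAF hq
  haveI : LocallyOfFinitePresentation g := LocallyOfFinitePresentation.iff_locallyOfFiniteType.2 hgft
  refine Smooth.of_smooth_fiberToSpecResidueField g fun s => ?_
  let Ω := AlgebraicClosure (S.residueField s)
  let a : Spec (CommRingCat.of Ω) ⟶ Spec (S.residueField s) :=
    Spec.map (CommRingCat.ofHom (algebraMap (S.residueField s) Ω))
  haveI : Surjective a := ⟨fun x => ⟨IsLocalRing.closedPoint Ω, Subsingleton.elim _ _⟩⟩
  haveI : Flat a := by
    exact (HasRingHomProperty.Spec_iff (P := @Flat)).2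
      (RingHom.flat_algebraMap_iff.2 inferInstance)
  have ha : (@Surjective ⊓ @Flat ⊓ @QuasiCompact : MorphismProperty Scheme.{u}) a :=
    ⟨⟨inferInstance, inferInstance⟩, inferInstance⟩
  have h := (geometric_fibre hAF hq Ω (a ≫ S.fromSpecResidueField s)).1
  refine MorphismProperty.of_pullback_snd_of_descendsAlong ha ?_
  show Smooth (pullback.snd (pullback.snd g (S.fromSpecResidueField s)) a)
  rw [← pullbackLeftPullbackSndIso_hom_snd g (S.fromSpecResidueField s) a]
  infer_instance

/-- The quotient map onto a relative symmetric power of a smooth proper curve is flat. -/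
theorem flat_quot [IsLocallyNoetherian S] (hAF : SymProd.IsAF f) (hq : SymProd.IsSymProd f n q g) :
    Flat q := by
  obtain ⟨hqf, hgft, hgqc, hgsep⟩ := quot_facts hq
  haveI := isProper_base f n
  haveI := smoothOfRelativeDimension_base f n
  haveI : Smooth (WidePullback.base fun _ : Fin n => f) := SmoothOfRelativeDimension.smooth n _
  haveI : Smooth (q ≫ g) := by rw [hq.over]; infer_instance
  refine FlatMisc.flat_of_flat_fibres g q fun s => ?_
  let Ω := AlgebraicClosure (S.residueField s)
  let a : Spec (CommRingCat.of Ω) ⟶ Spec (S.residueField s) :=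
    Spec.map (CommRingCat.ofHom (algebraMap (S.residueField s) Ω))
  haveI : Surjective a := ⟨fun x => ⟨IsLocalRing.closedPoint Ω, Subsingleton.elim _ _⟩⟩
  haveI : Flat a := by
    exact (HasRingHomProperty.Spec_iff (P := @Flat)).2
      (RingHom.flat_algebraMap_iff.2 inferInstance)
  have h := (geometric_fibre hAF hq Ω (a ≫ S.fromSpecResidueField s)).2
  let e : pullback g (a ≫ S.fromSpecResidueField s) ⟶ g.fiber s :=
    pullback.lift (pullback.fst _ _) (pullback.snd _ _ ≫ a) (by rw [pullback.condition, Category.assoc])
  have he : IsPullback e (pullback.snd g (a ≫ S.fromSpecResidueField s)) (g.fiberToSpecResidueField s) a :=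
    IsPullback.of_right (by
      rw [show e ≫ pullback.fst g (S.fromSpecResidueField s) = pullback.fst g (a ≫ S.fromSpecResidueField s) from pullback.lift_fst _ _ _]
      exact IsPullback.of_hasPullback g _) (pullback.lift_snd _ _ _) (IsPullback.of_hasPullback g _)
  have hPe : (@Surjective ⊓ @Flat ⊓ @QuasiCompact : MorphismProperty Scheme.{u}) e :=
    ⟨⟨MorphismProperty.of_isPullback (P := @Surjective) he.flip inferInstance,
      MorphismProperty.of_isPullback (P := @Flat) he.flip inferInstance⟩,
      MorphismProperty.of_isPullback (P := @QuasiCompact) he.flip inferInstance⟩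
  refine MorphismProperty.of_pullback_snd_of_descendsAlong hPe ?_
  rw [← pullbackLeftPullbackSndIso_hom_snd q (g.fiberι s) e]
  haveI : Flat (pullback.snd q (e ≫ g.fiberι s)) := by
    rw [show e ≫ g.fiberι s = pullback.fst g (a ≫ S.fromSpecResidueField s) from pullback.lift_fst _ _ _]
    exact h
  infer_instance

end Groth.Agent.SymProdLib
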