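import Groth.Agent.SymProdLib.CurveRel
import Groth.Agent.SGA1Q.Free
import Groth.Agent.H23.RedSub
import Mathlib.AlgebraicGeometry.Morphisms.FlatRank

/-!
# The degree of `X^n ⟶ Sym^n X` for a smooth proper curve
-/

set_option autoImplicit false
set_option linter.style.haveILetI false

universe u

open CategoryTheory CategoryTheory.Limits AlgebraicGeometry

namespace Groth.Agent.SymProdLib

/-- A free quotient of an affine scheme by a finite group has degree the order of the group. -/
theorem finrank_free {X Y : Scheme.{u}} {G : Type u} [Group G] [Finite G] [IsAffine X] {ρ : G →* Aut X}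
    {p : X ⟶ Y} (hp : SGA1.IsQuot ρ p) (hfree : SGA1Q.FreeOnGeomPoints ρ) [IsFinite p] [Flat p] (x : X) :
    p.finrank (p.base x) = Nat.card G := by
  classical
  cases nonempty_fintype G
  haveI := SGA1Q.isIso_sigmaDesc_graphMap hfree hp
  set D := Sigma.desc fun g : G => SGA1Q.graphMap hp.inv g with hD
  have h1 : (D ≫ pullback.fst p p).finrank x = p.finrank (p.base x) := by
    rw [Scheme.Hom.finrank_comp_left_of_isIso, Scheme.Hom.finrank_pullback_fst]
  rw [← h1]
  let A := Γ(X, ⊤)
  let Δ : Spec (CommRingCat.of (G → A)) ⟶ Spec (CommRingCat.of A) :=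
    Spec.map (CommRingCat.ofHom (algebraMap A (G → A)))
  let θ : (∐ fun _ : G => X) ⟶ Spec (CommRingCat.of (G → A)) :=
    Limits.Sigma.map (fun _ : G => X.isoSpec.hom) ≫ sigmaSpec (fun _ : G => CommRingCat.of A)
  haveI : IsFinite Δ := by
    show IsFinite (Spec.map _)
    rw [IsFinite.SpecMap_iff]
    exact RingHom.finite_algebraMap.2 inferInstance
  haveI : Flat Δ := (HasRingHomProperty.Spec_iff (P := @Flat)).2 (RingHom.flat_algebraMap_iff.2 inferInstance)
  have hι : ∀ g : G, Sigma.ι (fun _ : G => X) g ≫ θ =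
      X.isoSpec.hom ≫ Spec.map (CommRingCat.ofHom (Pi.evalRingHom (fun _ : G => A) g)) := fun g => by
    show Sigma.ι (fun _ : G => X) g ≫ Limits.Sigma.map (fun _ : G => X.isoSpec.hom) ≫
      sigmaSpec (fun _ : G => CommRingCat.of A) = _
    rw [← Category.assoc, Sigma.ι_map, Category.assoc]
    exact congrArg (X.isoSpec.hom ≫ ·) (ι_sigmaSpec (fun _ : G => CommRingCat.of A) g)
  have hΔ : ∀ g : G, Spec.map (CommRingCat.ofHom (Pi.evalRingHom (fun _ : G => A) g)) ≫ Δ = 𝟙 _ := fun g => by
    show _ ≫ Spec.map _ = _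
    rw [← Spec.map_comp, ← CommRingCat.ofHom_comp,
      show (Pi.evalRingHom (fun _ : G => A) g).comp (algebraMap A (G → A)) = RingHom.id A from rfl,
      CommRingCat.ofHom_id, Spec.map_id]
  have hθ : D ≫ pullback.fst p p ≫ X.isoSpec.hom = θ ≫ Δ := by
    refine Sigma.hom_ext _ _ fun g => ?_
    rw [Sigma.ι_desc_assoc, ← Category.assoc (Sigma.ι _ g), hι, Category.assoc, hΔ,
      SGA1Q.graphMap, pullback.lift_fst_assoc, Category.id_comp]
    exact (Category.comp_id _).symm
  have h2 : IsPullback θ (D ≫ pullback.fst p p) Δ X.isoSpec.hom :=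
    IsPullback.of_horiz_isIso ⟨hθ.symm.trans (Category.assoc _ _ _).symm⟩
  rw [Scheme.Hom.finrank_of_isPullback _ _ _ _ h2 x]
  show Scheme.Hom.finrank (Spec.map (CommRingCat.ofHom (algebraMap A (G → A)))) _ = _
  refine (Scheme.Hom.finrank_SpecMap_algebraMap A (G → A) _).trans ?_
  rw [Module.rankAtStalk_eq_finrank_of_free]
  haveI : Nontrivial A := by
    let P : PrimeSpectrum A := X.isoSpec.hom.base x
    exact nontrivial_of_ne 0 1 fun h => P.2.ne_top ((Ideal.eq_top_iff_one _).2 (h ▸ P.asIdeal.zero_mem))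
  rw [Nat.card_eq_fintype_card]
  exact Module.finrank_pi A

section Free

variable {X S : Scheme.{u}} (f : X ⟶ S) (n : ℕ)

/-- The pair of the `i`-th and `j`-th coordinates. -/
noncomputable def pairπ (i j : Fin n) : SymProd.fibPow f n ⟶ pullback f f :=
  pullback.lift (WidePullback.π (fun _ : Fin n => f) i) (WidePullback.π (fun _ : Fin n => f) j)
    (by rw [WidePullback.π_arrow, WidePullback.π_arrow])

/-- The open locus of tuples without coincidences. -/
noncomputable def freeLocus [IsSeparated f] : (SymProd.fibPow f n).Opens :=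
  ⟨⋂ i : Fin n, ⋂ j : Fin n, {x | i ≠ j → (pairπ f n i j).base x ∉ Set.range (pullback.diagonal f).base},
    isOpen_iInter_of_finite fun i => isOpen_iInter_of_finite fun j => by
      by_cases h : i = j
      · simp [h]
      · convert ((pullback.diagonal f).isClosedEmbedding.isClosed_range.preimage
          (pairπ f n i j).continuous).isOpen_compl using 1
        ext x
        simp [h]⟩

variable {f n} [IsSeparated f]

theorem mem_freeLocus {x : ↥(SymProd.fibPow f n)} :
    x ∈ freeLocus f n ↔ ∀ i j : Fin n, i ≠ j → (pairπ f n i j).base x ∉ Set.range (pullback.diagonal f).base := by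
  show x ∈ (⋂ _, ⋂ _, _ : Set _) ↔ _
  simp

theorem permHom_preimage_freeLocus (σ : Equiv.Perm (Fin n)) :
    SymProd.permHom f n σ ⁻¹ᵁ freeLocus f n = freeLocus f n := by
  have h : ∀ i j x, (pairπ f n i j).base ((SymProd.permHom f n σ).base x) =
      (pairπ f n (σ.symm i) (σ.symm j)).base x := fun i j x => by
    rw [← Scheme.Hom.comp_apply]
    refine congrArg (fun φ : SymProd.fibPow f n ⟶ pullback f f => φ.base x) (pullback.hom_ext ?_ ?_)
    · rw [pairπ, pairπ, Category.assoc, pullback.lift_fst, pullback.lift_fst, SymProd.permHom_π]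
    · rw [pairπ, pairπ, Category.assoc, pullback.lift_snd, pullback.lift_snd, SymProd.permHom_π]
  refine TopologicalSpace.Opens.ext (Set.ext fun x => ?_)
  show (SymProd.permHom f n σ).base x ∈ freeLocus f n ↔ x ∈ freeLocus f n
  simp only [mem_freeLocus, h]
  exact ⟨fun H i j hij => by simpa using H (σ i) (σ j) (σ.injective.ne hij),
    fun H i j hij => H _ _ (σ.symm.injective.ne hij)⟩

theorem eq_one_of_fix {K : Type u} [Field K] (ξ : Spec (CommRingCat.of K) ⟶ SymProd.fibPow f n)
    (hξ : ∀ z, ξ.base z ∈ freeLocus f n) (σ : Equiv.Perm (Fin n)) (h : ξ ≫ SymProd.permHom f n σ = ξ) : σ = 1 := by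
  have hi : ∀ i, σ.symm i = i := fun i => by
    by_contra hne
    have he := congrArg (· ≫ WidePullback.π (fun _ : Fin n => f) i) h
    simp only [Category.assoc, SymProd.permHom_π] at he
    let z := IsLocalRing.closedPoint K
    have h2 : ξ ≫ pairπ f n (σ.symm i) i =
        (ξ ≫ WidePullback.π (fun _ : Fin n => f) i) ≫ pullback.diagonal f := by
      refine pullback.hom_ext ?_ ?_
      · rw [pairπ, Category.assoc, pullback.lift_fst, Category.assoc, pullback.diagonal_fst, Category.comp_id]
        exact he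
      · rw [pairπ, Category.assoc, pullback.lift_snd, Category.assoc, pullback.diagonal_snd, Category.comp_id]
    refine mem_freeLocus.1 (hξ z) _ _ hne ⟨(ξ ≫ WidePullback.π (fun _ : Fin n => f) i).base z, ?_⟩
    exact (congrArg (fun φ : Spec (CommRingCat.of K) ⟶ pullback f f => φ.base z) h2).symm
  ext i
  conv_lhs => rw [← hi i]
  simp

end Free

section Field

variable {k : Type u} [Field k] {X : Scheme.{u}} {f : X ⟶ Spec (CommRingCat.of k)}
  [IsSeparated f] [SmoothOfRelativeDimension 1 f]

/-- Maximal points of the fibre power of a curve have no coincidences. -/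
theorem mem_freeLocus_of_maximal {n : ℕ} {η : ↥(SymProd.fibPow f n)} (hη : ∀ z, z ⤳ η → z = η) :
    η ∈ freeLocus f n := by
  rw [mem_freeLocus]
  intro i j hij ⟨z, hz⟩
  obtain ⟨m, rfl⟩ : ∃ m, n = m + 1 := ⟨n - 1, by omega⟩
  haveI := smoothOfRelativeDimension_base f (m + 1)
  haveI := smoothOfRelativeDimension_base f m
  haveI : Smooth (WidePullback.base fun _ : Fin (m + 1) => f) := SmoothOfRelativeDimension.smooth (m + 1) _
  haveI : Smooth (WidePullback.base fun _ : Fin m => f) := SmoothOfRelativeDimension.smooth m _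
  let P := SymProd.fibPow f (m + 1)
  let ξ := P.fromSpecResidueField η
  let π := fun a : Fin (m + 1) => WidePullback.π (fun _ : Fin (m + 1) => f) a
  -- the two coordinates agree on the residue field
  have heq : ξ ≫ π i = ξ ≫ π j := by
    have hrange : Set.range (ξ ≫ pairπ f (m + 1) i j).base ⊆ Set.range (pullback.diagonal f).base := by
      rintro _ ⟨w, rfl⟩
      refine ⟨z, hz.trans ?_⟩
      rw [Scheme.Hom.comp_apply, Scheme.fromSpecResidueField_apply]
    obtain ⟨l, hl⟩ := H23.RedSub.exists_lift_closed (ξ ≫ pairπ f (m + 1) i j) (pullback.diagonal f) hrange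
    have e1 := congrArg (· ≫ pullback.fst f f) hl
    have e2 := congrArg (· ≫ pullback.snd f f) hl
    simp only [pairπ, Category.assoc, pullback.lift_fst, pullback.lift_snd, pullback.diagonal_fst,
      pullback.diagonal_snd] at e1 e2
    exact e1.symm.trans e2
  obtain ⟨i', hi'⟩ := Fin.exists_succAbove_eq hij
  -- the partial diagonal
  let δ : SymProd.fibPow f m ⟶ P :=
    WidePullback.lift (WidePullback.base fun _ : Fin m => f)
      (Fin.insertNth (α := fun _ => SymProd.fibPow f m ⟶ X) j (WidePullback.π (fun _ : Fin m => f) i')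
        fun a => WidePullback.π (fun _ : Fin m => f) a)
      (Fin.succAboveCases j (by simp) fun a => by simp)
  let ξ' : Spec (P.residueField η) ⟶ SymProd.fibPow f m :=
    WidePullback.lift (ξ ≫ WidePullback.base fun _ : Fin (m + 1) => f) (fun a => ξ ≫ π (j.succAbove a))
      (fun a => by simp [π])
  have hδ : ξ' ≫ δ = ξ := by
    refine WidePullback.hom_ext _ _ _ (fun b => ?_) ?_
    · rcases Fin.eq_self_or_eq_succAbove j b with hb | ⟨a, hb⟩
      · subst hb
        rw [Category.assoc, WidePullback.lift_π, Fin.insertNth_apply_same, WidePullback.lift_π]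
        show ξ ≫ π (b.succAbove i') = ξ ≫ π b
        rw [hi']
        exact heq
      · subst hb
        rw [Category.assoc, WidePullback.lift_π, Fin.insertNth_apply_succAbove, WidePullback.lift_π]
    · rw [Category.assoc, WidePullback.lift_base, WidePullback.lift_base]
  let w : Spec (P.residueField η) := IsLocalRing.closedPoint (P.residueField η)
  have hw : δ.base (ξ'.base w) = η := by
    rw [← Scheme.Hom.comp_apply, hδ, Scheme.fromSpecResidueField_apply]
  have h1 : VarDim.deg (WidePullback.base fun _ : Fin (m + 1) => f) (δ.base (ξ'.base w)) ≤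
      VarDim.deg (WidePullback.base fun _ : Fin m => f) (ξ'.base w) :=
    VarDim.deg_map_le δ _ (WidePullback.lift_base (fun _ : Fin (m + 1) => f) _ _ _) _
  rw [hw, deg_eq_of_maximal _ (m + 1) hη] at h1
  obtain ⟨μ, hμ, hμmax⟩ := VarDim.exists_maximal_generalization (WidePullback.base fun _ : Fin m => f) (ξ'.base w)
  have h2 := (VarDim.deg_le_of_specializes (WidePullback.base fun _ : Fin m => f) hμ).trans_eq
    (deg_eq_of_maximal _ m hμmax)
  omega

end Field

section AlgClosed

variable {k : Type u} [Field k] [IsAlgClosed k] {X : Scheme.{u}} {f : X ⟶ Spec (CommRingCat.of k)}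
  [IsProper f] [SmoothOfRelativeDimension 1 f] {Y : Scheme.{u}} {n : ℕ} {q : SymProd.fibPow f n ⟶ Y}
  {g : Y ⟶ Spec (CommRingCat.of k)}

theorem finrank_quot_field (hAF : SymProd.IsAF f) (hq : SymProd.IsSymProd f n q g) (y : Y) :
    q.finrank y = Nat.factorial n := by
  classical
  obtain ⟨hqf, hgft, -⟩ := isFinite_quot hq
  haveI := flat_quot_field hAF hq
  haveI := isProper_base f n
  haveI : IsLocallyNoetherian Y := LocallyOfFiniteType.isLocallyNoetherian g
  haveI : LocallyOfFinitePresentation q := LocallyOfFinitePresentation.iff_locallyOfFiniteType.2 inferInstance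
  haveI : Finite (ULift.{u} (Equiv.Perm (Fin n))) := inferInstance
  -- move to a maximal point
  obtain ⟨η', hη', hmax'⟩ := VarDim.exists_maximal_generalization g y
  have hrank : q.finrank y = q.finrank η' := by
    have h := q.isLocallyConstant_finrank
    have h2 := hη'.map h.continuous
    exact (h2.eq).symm
  obtain ⟨w, rfl⟩ := SGA1Q.surjective hq.isQuot η'
  obtain ⟨η, hη, hmax⟩ := VarDim.exists_maximal_generalization (WidePullback.base fun _ : Fin n => f) w
  have hqη : q.base η = q.base w := hmax' _ (hη.map q.continuous)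
  rw [hrank, ← hqη]
  obtain ⟨W', hW'⟩ := exists_image_open hq (freeLocus f n) permHom_preimage_freeLocus
  have hηW : η ∈ q ⁻¹ᵁ W' := by rw [hW']; exact mem_freeLocus_of_maximal hmax
  obtain ⟨O, hO, hηO, hOW⟩ := exists_isAffineOpen_mem_and_subset (x := q.base η) (U := W') hηW
  haveI := hq.isQuot.affine
  haveI : IsAffine (q ⁻¹ᵁ O).toScheme := hO.preimage q
  let ρO := SGA1Q.restrictAction (SymProd.permActU f n) (q ⁻¹ᵁ O)
    (fun σ => SGA1.preimage_le_of_inv _ q hq.isQuot.inv σ O)
  have hρO := SGA1Q.restrictAction_hom_ι (SymProd.permActU f n) (q ⁻¹ᵁ O)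
    (fun σ => SGA1.preimage_le_of_inv _ q hq.isQuot.inv σ O)
  have hquot := SGA1Q.isQuot_morphismRestrict hq.isQuot O ρO hρO
  have hfree : SGA1Q.FreeOnGeomPoints ρO := by
    intro K _ _ ξ σ hξ
    have h := congrArg (· ≫ (q ⁻¹ᵁ O).ι) hξ
    simp only [Category.assoc] at h
    rw [hρO σ, SymProd.permActU_hom, ← Category.assoc] at h
    refine ULift.ext _ _ (eq_one_of_fix (ξ ≫ (q ⁻¹ᵁ O).ι) (fun z => ?_) σ.down h)
    have hz : (ξ.base z).1 ∈ q ⁻¹ᵁ W' := hOW (ξ.base z).2
    rw [hW'] at hz
    exact hz
  have h := finrank_free hquot hfree ⟨η, hηO⟩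
  rw [Nat.card_congr Equiv.ulift, Nat.card_perm, Nat.card_fin] at h
  rw [← h, Scheme.Hom.finrank_of_isPullback _ _ _ _ (isPullback_morphismRestrict q O).flip]
  exact congrArg q.finrank
    (congrArg (fun φ : (q ⁻¹ᵁ O).toScheme ⟶ Y => φ.base ⟨η, hηO⟩) (morphismRestrict_ι q O)).symm

end AlgClosed

/-- The quotient map onto a symmetric power of a smooth proper curve has degree `n!`. -/
theorem isFinLocFreeOfDeg_quot {X S Y : Scheme.{u}} [IsLocallyNoetherian S] {f : X ⟶ S} [IsProper f]
    [SmoothOfRelativeDimension 1 f] (hAF : SymProd.IsAF f) {n : ℕ} {q : SymProd.fibPow f n ⟶ Y} {g : Y ⟶ S}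
    (hq : SymProd.IsSymProd f n q g) : Mor2.IsFinLocFreeOfDeg (Nat.factorial n) q := by
  obtain ⟨hqf, hgft, -, -⟩ := quot_facts hq
  haveI := flat_quot hAF hq
  haveI : IsLocallyNoetherian Y := LocallyOfFiniteType.isLocallyNoetherian g
  refine ⟨⟨hqf, inferInstance, LocallyOfFinitePresentation.iff_locallyOfFiniteType.2 inferInstance⟩, fun y => ?_⟩
  haveI : Smooth f := SmoothOfRelativeDimension.smooth 1 f
  let Ω := AlgebraicClosure (S.residueField (g.base y))
  let a : Spec (CommRingCat.of Ω) ⟶ Spec (S.residueField (g.base y)) :=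
    Spec.map (CommRingCat.ofHom (algebraMap (S.residueField (g.base y)) Ω))
  let b := a ≫ S.fromSpecResidueField (g.base y)
  have hb : g.base y = b.base (IsLocalRing.closedPoint Ω) := by
    show g.base y = (S.fromSpecResidueField (g.base y)).base (a.base (IsLocalRing.closedPoint Ω))
    rw [Scheme.fromSpecResidueField_apply]
  obtain ⟨y', hy', -⟩ := Scheme.Pullback.exists_preimage_pullback (f := g) (g := b) y (IsLocalRing.closedPoint Ω) hb
  haveI : MorphismProperty.IsStableUnderBaseChange (@SmoothOfRelativeDimension.{u} 1) :=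
    smoothOfRelativeDimension_isStableUnderBaseChange 1
  haveI : SmoothOfRelativeDimension 1 (pullback.snd f b) :=
    MorphismProperty.of_isPullback (IsPullback.of_hasPullback f b) inferInstance
  let c : SymProd.fibPow (pullback.snd f b) n ⟶ SymProd.fibPow f n :=
    WidePullback.lift (WidePullback.base (fun _ : Fin n => pullback.snd f b) ≫ b)
      (fun i => WidePullback.π (fun _ : Fin n => pullback.snd f b) i ≫ pullback.fst f b)
      (fun i => by rw [Category.assoc, pullback.condition, WidePullback.π_arrow_assoc])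
  have hcπ : ∀ i : Fin n, c ≫ WidePullback.π (fun _ => f) i =
      WidePullback.π (fun _ => pullback.snd f b) i ≫ pullback.fst f b := fun i =>
    WidePullback.lift_π (fun _ : Fin n => f) _ _ _ i
  have hcb : c ≫ WidePullback.base (fun _ => f) = WidePullback.base (fun _ => pullback.snd f b) ≫ b :=
    WidePullback.lift_base (fun _ : Fin n => f) _ _ _
  let q' : SymProd.fibPow (pullback.snd f b) n ⟶ pullback g b :=
    pullback.lift (c ≫ q) (WidePullback.base (fun _ => pullback.snd f b))
      (by rw [Category.assoc, hq.over]; exact hcb)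
  have hq'₁ : q' ≫ pullback.fst g b = c ≫ q := pullback.lift_fst _ _ _
  have hq'₂ : q' ≫ pullback.snd g b = WidePullback.base (fun _ => pullback.snd f b) := pullback.lift_snd _ _ _
  have hSym := isSymProd_baseChange hAF q g hq b c hcπ hcb q' hq'₁ hq'₂
  have hQ : IsPullback c q' q (pullback.fst g b) :=
    IsPullback.of_bot (by rw [hq'₂, hq.over]; exact isPullback_fibPow b c hcπ hcb) hq'₁.symm
      (IsPullback.of_hasPullback g b)
  rw [← hy', ← Scheme.Hom.finrank_of_isPullback _ _ _ _ hQ y']
  exact finrank_quot_field (isAF_baseChange_field hAF b) hSym y'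

end Groth.Agent.SymProdLib
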