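import Groth.Agent.SymProdLib.Dense
import Groth.Agent.DescLib.IdealDescent
import Groth.Agent.FComplLib.IdealComap
import Groth.Agent.EtFound.Descent
import Groth.Agent.AlgSpLib.Descends
import Groth.Agent.S5136

/-!
# Descent of the sum of the graphs of the projections to a symmetric power
-/

set_option autoImplicit false
set_option linter.style.haveILetI false

universe u

open CategoryTheory CategoryTheory.Limits AlgebraicGeometry

namespace Groth.Agent.SymProdLib

theorem comap_prod {A B : Scheme.{u}} (m : A ⟶ B) {ι : Type*} (t : Finset ι) (I : ι → B.IdealSheafData) :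
    (∏ i ∈ t, I i).comap m = ∏ i ∈ t, (I i).comap m := by
  classical
  induction t using Finset.induction_on with
  | empty => simp [Scheme.IdealSheafData.comap_top]
  | insert a t ha ih => rw [Finset.prod_insert ha, Finset.prod_insert ha, FComplLib.comap_mul, ih]

theorem comap_ker_of_isIso {A B Q : Scheme.{u}} (m : A ⟶ B) [IsIso m] (s : Q ⟶ B) [IsClosedImmersion s]
    [IsClosedImmersion (s ≫ inv m)] : s.ker.comap m = (s ≫ inv m).ker := by
  have h : IsPullback (s ≫ inv m) (𝟙 Q) m s :=
    IsPullback.of_vert_isIso ⟨by rw [Category.assoc, IsIso.inv_hom_id, Category.comp_id, Category.id_comp]⟩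
  have h2 : pullback.fst m s = h.isoPullback.inv ≫ (s ≫ inv m) := h.isoPullback_inv_fst.symm
  rw [← Scheme.IdealSheafData.ker_fst_of_isClosedImmersion s m, h2, Scheme.Hom.ker_comp_of_isIso]

set_option maxHeartbeats 1000000 in
/-- The inclusion of a schematically dense open has zero kernel. -/
theorem ker_ι_eq_bot {Z : Scheme.{u}} [IsLocallyNoetherian Z] {U : Z.Opens}
    (hU : CInt.IsSchematicallyDense U) : U.ι.ker = ⊥ := by
  refine Scheme.IdealSheafData.ext (funext fun V => ?_)
  rw [Scheme.Hom.ker_apply, Scheme.IdealSheafData.ideal_bot]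
  refine (RingHom.injective_iff_ker_eq_bot _).1 ?_
  refine (injective_iff_map_eq_zero _).2 fun s hs => (SchDenseLib.iff_eq_zero U).1 hU V.1 s ?_
  rw [Scheme.Opens.ι_app] at hs
  have hle : V.1 ⊓ U ≤ U.ι ''ᵁ U.ι ⁻¹ᵁ V.1 :=
    fun z hz => ⟨⟨z, hz.2⟩, hz.1, rfl⟩
  have hle' : U.ι ''ᵁ U.ι ⁻¹ᵁ V.1 ≤ V.1 := U.ι.image_preimage_le V.1
  rw [← homOfLE_comp hle hle', op_comp, Functor.map_comp]
  exact (congrArg (Z.presheaf.map (homOfLE hle).op).hom hs).trans (map_zero _)

/-- Two ideal sheaves, the second with flat quotient, agree if they agree over a schematically dense open. -/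
theorem le_of_comap_eq_on_dense {P Z : Scheme.{u}} [IsLocallyNoetherian P] (π : Z ⟶ P) {W : P.Opens}
    (hW : CInt.IsSchematicallyDense W) (D₁ D₂ : Z.IdealSheafData) [Flat (D₂.subschemeι ≫ π)]
    [IsLocallyNoetherian D₂.subscheme]
    (h : D₁.comap (π ⁻¹ᵁ W).ι = D₂.comap (π ⁻¹ᵁ W).ι) : D₁ ≤ D₂ := by
  have hdense : CInt.IsSchematicallyDense (D₂.subschemeι ⁻¹ᵁ (π ⁻¹ᵁ W)) :=
    SchDenseLib.preimage_of_isLocallyNoetherian (D₂.subschemeι ≫ π) W hW
  have hker := ker_ι_eq_bot hdense
  generalize π ⁻¹ᵁ W = O at h hker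
  have hfac : (D₂.subschemeι ⁻¹ᵁ O).ι ≫ D₂.subschemeι = (D₂.subschemeι ∣_ O) ≫ O.ι :=
    (morphismRestrict_ι D₂.subschemeι O).symm
  have hKj : (D₁.comap D₂.subschemeι).comap (D₂.subschemeι ⁻¹ᵁ O).ι = ⊥ := by
    refine (Scheme.IdealSheafData.comap_comp D₁ _ _).symm.trans ?_
    rw [hfac, Scheme.IdealSheafData.comap_comp, h, ← Scheme.IdealSheafData.comap_comp, ← hfac,
      Scheme.IdealSheafData.comap_comp, DescLib.comap_subschemeι, Scheme.IdealSheafData.comap_bot]
  have hK0 : D₁.comap D₂.subschemeι ≤ ⊥ := by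
    refine le_trans ?_ hker.le
    rw [← Scheme.IdealSheafData.map_bot, Scheme.IdealSheafData.le_map_iff_comap_le, hKj]
  have h1 := (Scheme.IdealSheafData.le_map_iff_comap_le (f := D₂.subschemeι)).2 hK0
  rwa [Scheme.IdealSheafData.map_bot, Scheme.IdealSheafData.ker_subschemeι] at h1

/-- The graphs of a group acting freely over an open of the quotient cover the part of `P ×_Y P` over it. -/
theorem exists_graphs {P Y : Scheme.{u}} {G : Type u} [Group G] [Finite G] {ρ : G →* Aut P} {q : P ⟶ Y}
    (hq : SGA1.IsQuot ρ q) (W' : Y.Opens)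
    (hfree : ∀ (K : Type u) [Field K] [IsAlgClosed K] (ξ : Spec (CommRingCat.of K) ⟶ P) (σ : G),
      (∀ z, ξ.base z ∈ q ⁻¹ᵁ W') → ξ ≫ (ρ σ).hom = ξ → σ = 1) :
    ∃ γ : G → ((q ⁻¹ᵁ W').toScheme ⟶ pullback q q), (∀ σ, IsOpenImmersion (γ σ)) ∧
      (∀ σ, γ σ ≫ pullback.fst q q = (q ⁻¹ᵁ W').ι) ∧
      (∀ σ, γ σ ≫ pullback.snd q q = (q ⁻¹ᵁ W').ι ≫ (ρ σ).hom) ∧
      ∀ z, (pullback.fst q q).base z ∈ q ⁻¹ᵁ W' → ∃ σ y, (γ σ).base y = z := by
  let ρW := SGA1Q.restrictAction ρ (q ⁻¹ᵁ W') (fun σ => SGA1.preimage_le_of_inv _ q hq.inv σ W')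
  have hρW : ∀ σ, (ρW σ).hom ≫ (q ⁻¹ᵁ W').ι = (q ⁻¹ᵁ W').ι ≫ (ρ σ).hom :=
    SGA1Q.restrictAction_hom_ι ρ (q ⁻¹ᵁ W') (fun σ => SGA1.preimage_le_of_inv _ q hq.inv σ W')
  have hquot := SGA1Q.isQuot_morphismRestrict hq W' ρW hρW
  have hfree' : SGA1Q.FreeOnGeomPoints ρW := by
    intro K _ _ ξ σ hξ
    refine hfree K (ξ ≫ (q ⁻¹ᵁ W').ι) σ (fun z => (ξ.base z).2) ?_
    rw [Category.assoc, ← hρW σ, ← Category.assoc, hξ]
  haveI hiso := SGA1Q.isIso_sigmaDesc_graphMap hfree' hquot
  set D := Sigma.desc (fun σ : G => SGA1Q.graphMap hquot.inv σ) with hD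
  let incl : pullback (q ∣_ W') (q ∣_ W') ⟶ pullback q q :=
    pullback.map _ _ _ _ (q ⁻¹ᵁ W').ι (q ⁻¹ᵁ W').ι W'.ι (morphismRestrict_ι q W') (morphismRestrict_ι q W')
  haveI hincl : IsOpenImmersion incl :=
    Scheme.pullback_map_isOpenImmersion _ _ _ _ (q ⁻¹ᵁ W').ι (q ⁻¹ᵁ W').ι W'.ι (morphismRestrict_ι q W') (morphismRestrict_ι q W')
  refine ⟨fun σ => Sigma.ι (fun _ : G => (q ⁻¹ᵁ W').toScheme) σ ≫ D ≫ incl, fun σ => inferInstance,
    fun σ => ?_, fun σ => ?_, fun z hz => ?_⟩
  · rw [Category.assoc, Category.assoc, Sigma.ι_desc_assoc, pullback.lift_fst, SGA1Q.graphMap,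
      pullback.lift_fst_assoc, Category.id_comp]
  · rw [Category.assoc, Category.assoc, Sigma.ι_desc_assoc, pullback.lift_snd, SGA1Q.graphMap,
      pullback.lift_snd_assoc, hρW]
  · have hz₂ : (pullback.snd q q).base z ∈ q ⁻¹ᵁ W' := by
      show q.base _ ∈ W'
      rw [← Scheme.Hom.comp_apply, ← pullback.condition, Scheme.Hom.comp_apply]
      exact hz
    obtain ⟨z', hz'⟩ : z ∈ Set.range incl := by
      rw [Scheme.Pullback.range_map, Scheme.Opens.range_ι]
      exact ⟨hz, hz₂⟩
    obtain ⟨y, hy⟩ := D.homeomorph.surjective z'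
    obtain ⟨σ, y', rfl⟩ := (sigmaOpenCover fun _ : G => (q ⁻¹ᵁ W').toScheme).exists_eq y
    refine ⟨σ, y', ?_⟩
    show incl.base (D.base _) = z
    rw [← hz', ← hy]
    rfl

section GraphSum

variable {X S Y : Scheme.{u}} (f : X ⟶ S) (n : ℕ)

/-- The graph of a projection. -/
noncomputable def graphSec (i : Fin n) :
    SymProd.fibPow f n ⟶ pullback (WidePullback.base fun _ : Fin n => f) f :=
  pullback.lift (𝟙 (SymProd.fibPow f n)) (WidePullback.π (fun _ : Fin n => f) i)
    ((Category.id_comp _).trans (WidePullback.π_arrow (fun _ : Fin n => f) i).symm)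

/-- The sum of the graphs of the projections. -/
noncomputable def graphSum : (pullback (WidePullback.base fun _ : Fin n => f) f).IdealSheafData :=
  ∏ i : Fin n, (graphSec f n i).ker

variable {f n} [IsSeparated f]

instance isClosedImmersion_graphSec (i : Fin n) : IsClosedImmersion (graphSec f n i) := by
  haveI : IsClosedImmersion (graphSec f n i ≫ pullback.fst (WidePullback.base fun _ : Fin n => f) f) := by
    rw [graphSec, pullback.lift_fst]; infer_instance
  exact IsClosedImmersion.of_comp _ (pullback.fst (WidePullback.base fun _ : Fin n => f) f)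

theorem comap_graphSum (σ : Equiv.Perm (Fin n))
    (A : pullback (WidePullback.base fun _ : Fin n => f) f ⟶ pullback (WidePullback.base fun _ : Fin n => f) f)
    (hA₁ : A ≫ pullback.fst (WidePullback.base fun _ : Fin n => f) f =
      pullback.fst (WidePullback.base fun _ : Fin n => f) f ≫ SymProd.permHom f n σ)
    (hA₂ : A ≫ pullback.snd (WidePullback.base fun _ : Fin n => f) f = pullback.snd _ _) :
    (graphSum f n).comap A = graphSum f n := by
  let B : pullback (WidePullback.base fun _ : Fin n => f) f ⟶ pullback (WidePullback.base fun _ : Fin n => f) f :=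
    pullback.map (WidePullback.base fun _ : Fin n => f) f (WidePullback.base fun _ : Fin n => f) f (SymProd.permHom f n σ⁻¹) (𝟙 X) (𝟙 S)
      ((Category.comp_id _).trans (SymProd.permHom_base f n σ⁻¹).symm)
      ((Category.comp_id f).trans (Category.id_comp f).symm)
  have hone : ∀ τ τ' : Equiv.Perm (Fin n), τ * τ' = 1 →
      SymProd.permHom f n τ' ≫ SymProd.permHom f n τ = 𝟙 _ := fun τ τ' h => by
    rw [← SymProd.permHom_mul, h, SymProd.permHom_one]
  have hAB : A ≫ B = 𝟙 _ := by
    refine pullback.hom_ext ?_ ?_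
    · rw [Category.assoc, pullback.lift_fst, ← Category.assoc, hA₁, Category.assoc,
        hone _ _ (inv_mul_cancel σ), Category.comp_id, Category.id_comp]
    · rw [Category.assoc, pullback.lift_snd, Category.comp_id, hA₂, Category.id_comp]
  have hBA : B ≫ A = 𝟙 _ := by
    refine pullback.hom_ext ?_ ?_
    · rw [Category.assoc, hA₁, ← Category.assoc, pullback.lift_fst, Category.assoc,
        hone _ _ (mul_inv_cancel σ), Category.comp_id, Category.id_comp]
    · rw [Category.assoc, hA₂, pullback.lift_snd, Category.comp_id, Category.id_comp]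
  haveI : IsIso A := ⟨B, hAB, hBA⟩
  have hinv : inv A = B := (IsIso.eq_inv_of_hom_inv_id hAB).symm
  have hsec : ∀ i, graphSec f n i ≫ inv A = SymProd.permHom f n σ⁻¹ ≫ graphSec f n (σ⁻¹ i) := fun i => by
    rw [hinv]
    refine pullback.hom_ext ?_ ?_
    · simp only [B, graphSec, pullback.map, Category.assoc, pullback.lift_fst, pullback.lift_fst_assoc,
        Category.id_comp, Category.comp_id]
    · simp only [B, graphSec, pullback.map, Category.assoc, pullback.lift_snd, pullback.lift_snd_assoc,
        Category.comp_id, SymProd.permHom_π]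
      exact congrArg (WidePullback.π (fun _ : Fin n => f)) (σ.apply_symm_apply i).symm
  rw [graphSum, comap_prod]
  refine (Fintype.prod_equiv σ⁻¹ _ _ fun i => ?_)
  haveI : IsClosedImmersion (graphSec f n i ≫ inv A) := inferInstance
  rw [comap_ker_of_isIso, hsec]
  haveI : IsIso (SymProd.permHom f n σ⁻¹) :=
    ⟨SymProd.permHom f n σ, hone _ _ (mul_inv_cancel σ), hone _ _ (inv_mul_cancel σ)⟩
  exact Scheme.Hom.ker_comp_of_isIso _ _

variable {q : SymProd.fibPow f n ⟶ Y} {g : Y ⟶ S}

/-- The map `C^n × C ⟶ Sym^n C × C`. -/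
noncomputable def quotProd (hq : SymProd.IsSymProd f n q g) :
    pullback (WidePullback.base fun _ : Fin n => f) f ⟶ pullback g f :=
  pullback.map (WidePullback.base fun _ : Fin n => f) f g f q (𝟙 X) (𝟙 S)
    ((Category.comp_id _).trans hq.over.symm) ((Category.comp_id f).trans (Category.id_comp f).symm)

omit [IsSeparated f] in
theorem quotProd_fst (hq : SymProd.IsSymProd f n q g) :
    quotProd hq ≫ pullback.fst g f = pullback.fst _ _ ≫ q := pullback.lift_fst _ _ _

omit [IsSeparated f] in
theorem quotProd_snd (hq : SymProd.IsSymProd f n q g) :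
    quotProd hq ≫ pullback.snd g f = pullback.snd _ _ :=
  (pullback.lift_snd _ _ _).trans (Category.comp_id _)

omit [IsSeparated f] in
theorem isPullback_quotProd (hq : SymProd.IsSymProd f n q g) :
    IsPullback (quotProd hq) (pullback.fst (WidePullback.base fun _ : Fin n => f) f) (pullback.fst g f) q :=
  IsPullback.of_right (by rw [quotProd_snd, hq.over]; exact (IsPullback.of_hasPullback _ f).flip)
    (quotProd_fst hq) (IsPullback.of_hasPullback g f).flip

end GraphSum

section Descent

variable {X S Y : Scheme.{u}} {f : X ⟶ S} [IsProper f] [SmoothOfRelativeDimension 1 f] [IsLocallyNoetherian S]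
  {n : ℕ} {q : SymProd.fibPow f n ⟶ Y} {g : Y ⟶ S}

set_option maxHeartbeats 1000000 in
theorem comap_fst_eq_comap_snd (hAF : SymProd.IsAF f) (hq : SymProd.IsSymProd f n q g)
    [Flat ((graphSum f n).subschemeι ≫ pullback.fst (WidePullback.base fun _ : Fin n => f) f)] :
    (graphSum f n).comap (pullback.fst (quotProd hq) (quotProd hq)) =
      (graphSum f n).comap (pullback.snd (quotProd hq) (quotProd hq)) := by
  classical
  obtain ⟨hqf, hgft, -, -⟩ := quot_facts hq
  haveI := flat_quot hAF hq
  haveI := isProper_base f n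
  haveI : Finite (ULift.{u} (Equiv.Perm (Fin n))) := inferInstance
  haveI : Smooth f := SmoothOfRelativeDimension.smooth 1 f
  haveI : IsLocallyNoetherian (SymProd.fibPow f n) :=
    LocallyOfFiniteType.isLocallyNoetherian (WidePullback.base fun _ : Fin n => f)
  set M := quotProd hq with hM
  have hMsq := isPullback_quotProd hq
  haveI : IsFinite M := MorphismProperty.of_isPullback (P := @IsFinite) hMsq.flip inferInstance
  set p₁ := pullback.fst M M with hp₁
  set p₂ := pullback.snd M M with hp₂
  have hcond : (p₁ ≫ pullback.fst (WidePullback.base fun _ : Fin n => f) f) ≫ q = (p₂ ≫ pullback.fst (WidePullback.base fun _ : Fin n => f) f) ≫ q := by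
    rw [Category.assoc, Category.assoc, ← quotProd_fst hq, pullback.condition_assoc]
  let r : pullback M M ⟶ pullback q q := pullback.lift _ _ hcond
  have hr₁ : r ≫ pullback.fst q q = p₁ ≫ pullback.fst (WidePullback.base fun _ : Fin n => f) f := pullback.lift_fst _ _ _
  have hr₂ : r ≫ pullback.snd q q = p₂ ≫ pullback.fst (WidePullback.base fun _ : Fin n => f) f := pullback.lift_snd _ _ _
  have hsq₁ : IsPullback p₁ r (pullback.fst (WidePullback.base fun _ : Fin n => f) f) (pullback.fst q q) := by
    refine IsPullback.of_bot ?_ hr₁.symm (IsPullback.of_hasPullback q q)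
    rw [hr₂, ← quotProd_fst hq]
    exact (IsPullback.of_hasPullback M M).paste_vert hMsq
  have hsq₂ : IsPullback p₂ r (pullback.fst (WidePullback.base fun _ : Fin n => f) f) (pullback.snd q q) := by
    refine IsPullback.of_bot ?_ hr₂.symm (IsPullback.of_hasPullback q q).flip
    rw [hr₁, ← quotProd_fst hq]
    exact (IsPullback.of_hasPullback M M).flip.paste_vert hMsq
  let π := p₁ ≫ pullback.fst (WidePullback.base fun _ : Fin n => f) f
  obtain ⟨W', hW'⟩ := exists_image_open hq (freeLocus f n) permHom_preimage_freeLocus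
  set W := freeLocus f n with hW
  have hdense : CInt.IsSchematicallyDense W := isSchematicallyDense_freeLocus
  -- agreement over the free locus
  obtain ⟨γ, hγopen, hγ₁, hγ₂, hγsurj⟩ := exists_graphs hq.isQuot W' (fun K _ _ ξ σ hmem hξ => by
    rw [SymProd.permActU_hom] at hξ
    exact ULift.ext _ _ (eq_one_of_fix ξ (fun z => hW'.le (hmem z)) σ.down hξ))
  have hO : ((graphSum f n).comap p₁).comap (π ⁻¹ᵁ W).ι = ((graphSum f n).comap p₂).comap (π ⁻¹ᵁ W).ι := by
    haveI : ∀ σ, Flat (pullback.fst ((π ⁻¹ᵁ W).ι ≫ r) (γ σ)) := fun σ =>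
      MorphismProperty.of_isPullback (P := @Flat)
        (IsPullback.of_hasPullback ((π ⁻¹ᵁ W).ι ≫ r) (γ σ)).flip inferInstance
    haveI := hγopen
    refine DescLib.eq_of_flat_family (κ := ULift.{u} (Equiv.Perm (Fin n))) (fun σ => pullback.fst ((π ⁻¹ᵁ W).ι ≫ r) (γ σ))
      (fun x => ?_) fun σ => ?_
    · have hx : (pullback.fst q q).base (((π ⁻¹ᵁ W).ι ≫ r).base x) ∈ W := by
        rw [← Scheme.Hom.comp_apply, Category.assoc, hr₁]
        exact x.2
      obtain ⟨σ, y, hy⟩ := hγsurj _ (hW'.ge hx)
      obtain ⟨t, ht, -⟩ := Scheme.Pullback.exists_preimage_pullback (f := (π ⁻¹ᵁ W).ι ≫ r) (g := γ σ) x y hy.symm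
      exact ⟨σ, t, ht⟩
    · set u := pullback.fst ((π ⁻¹ᵁ W).ι ≫ r) (γ σ) ≫ (π ⁻¹ᵁ W).ι with hu
      let A : pullback (WidePullback.base fun _ : Fin n => f) f ⟶ pullback (WidePullback.base fun _ : Fin n => f) f :=
        pullback.map (WidePullback.base fun _ : Fin n => f) f (WidePullback.base fun _ : Fin n => f) f (SymProd.permHom f n σ.down) (𝟙 X) (𝟙 S)
          ((Category.comp_id _).trans (SymProd.permHom_base f n σ.down).symm)
          ((Category.comp_id f).trans (Category.id_comp f).symm)
      have hA₁ : A ≫ pullback.fst (WidePullback.base fun _ : Fin n => f) f = pullback.fst (WidePullback.base fun _ : Fin n => f) f ≫ SymProd.permHom f n σ.down := pullback.lift_fst _ _ _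
      have hA₂ : A ≫ pullback.snd (WidePullback.base fun _ : Fin n => f) f = pullback.snd (WidePullback.base fun _ : Fin n => f) f :=
        (pullback.lift_snd _ _ _).trans (Category.comp_id _)
      have hur : u ≫ r = pullback.snd ((π ⁻¹ᵁ W).ι ≫ r) (γ σ) ≫ γ σ := by
        rw [hu, Category.assoc, pullback.condition]
      have he : u ≫ p₂ = (u ≫ p₁) ≫ A := by
        refine pullback.hom_ext ?_ ?_
        · rw [Category.assoc, ← hr₂, ← Category.assoc, hur, Category.assoc, hγ₂, Category.assoc, hA₁,
            ← Category.assoc (u ≫ p₁), Category.assoc u p₁, ← hr₁, ← Category.assoc u r, hur,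
            Category.assoc _ (γ σ), hγ₁]
          simp only [Category.assoc]
          rfl
        · have hMsnd : M ≫ pullback.snd g f = pullback.snd (WidePullback.base fun _ : Fin n => f) f :=
            quotProd_snd hq
          have e := (pullback.condition (f := M) (g := M)).symm =≫ pullback.snd g f
          rw [Category.assoc, Category.assoc, hMsnd] at e
          rw [Category.assoc u p₂, Category.assoc (u ≫ p₁), hA₂, Category.assoc u p₁]
          exact u ≫= e
      rw [← Scheme.IdealSheafData.comap_comp, ← Scheme.IdealSheafData.comap_comp,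
        ← Scheme.IdealSheafData.comap_comp, ← Scheme.IdealSheafData.comap_comp, he,
        Scheme.IdealSheafData.comap_comp _ (u ≫ p₁) A, comap_graphSum σ.down A hA₁ hA₂]
  -- conclusion
  haveI : LocallyOfFiniteType f := inferInstance
  haveI : IsLocallyNoetherian (pullback (WidePullback.base fun _ : Fin n => f) f) :=
    LocallyOfFiniteType.isLocallyNoetherian (pullback.fst (WidePullback.base fun _ : Fin n => f) f)
  haveI : IsLocallyNoetherian (pullback M M) := LocallyOfFiniteType.isLocallyNoetherian p₁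
  haveI : Flat (pullback.fst q q) := MorphismProperty.of_isPullback (P := @Flat) (IsPullback.of_hasPullback q q).flip inferInstance
  have hflat : ∀ (p : pullback M M ⟶ pullback (WidePullback.base fun _ : Fin n => f) f) (v : pullback q q ⟶ SymProd.fibPow f n),
      IsPullback p r (pullback.fst (WidePullback.base fun _ : Fin n => f) f) v → Flat (((graphSum f n).comap p).subschemeι ≫ π) := by
    intro p v hp
    have h1 : IsPullback (((graphSum f n).comapIso p).hom ≫ pullback.snd p (graphSum f n).subschemeι)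
        ((graphSum f n).comap p).subschemeι (graphSum f n).subschemeι p :=
      (IsPullback.of_hasPullback p (graphSum f n).subschemeι).flip.of_iso ((graphSum f n).comapIso p).symm
        (Iso.refl _) (Iso.refl _) (Iso.refl _)
        (by rw [Iso.refl_hom, Category.comp_id, Iso.symm_hom, Iso.inv_hom_id_assoc]) (by simp [← Scheme.IdealSheafData.comapIso_hom_fst]) (by simp) (by simp)
    have h2 := h1.paste_vert hp
    haveI : Flat (((graphSum f n).comap p).subschemeι ≫ r) :=
      MorphismProperty.of_isPullback (P := @Flat) h2 inferInstance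
    show Flat (_ ≫ p₁ ≫ pullback.fst (WidePullback.base fun _ : Fin n => f) f)
    rw [← hr₁, ← Category.assoc]
    infer_instance
  haveI := hflat p₁ _ hsq₁
  haveI := hflat p₂ _ hsq₂
  haveI : IsLocallyNoetherian ((graphSum f n).comap p₁).subscheme :=
    LocallyOfFiniteType.isLocallyNoetherian ((graphSum f n).comap p₁).subschemeι
  haveI : IsLocallyNoetherian ((graphSum f n).comap p₂).subscheme :=
    LocallyOfFiniteType.isLocallyNoetherian ((graphSum f n).comap p₂).subschemeι
  exact le_antisymm (le_of_comap_eq_on_dense π hdense _ _ hO) (le_of_comap_eq_on_dense π hdense _ _ hO.symm)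

/-- The sum of the graphs descends uniquely to the symmetric power. -/
theorem existsUnique_descend (hAF : SymProd.IsAF f) (hq : SymProd.IsSymProd f n q g)
    [Flat ((graphSum f n).subschemeι ≫ pullback.fst (WidePullback.base fun _ : Fin n => f) f)] :
    ∃! J : (pullback g f).IdealSheafData, J.comap (quotProd hq) = graphSum f n := by
  obtain ⟨hqf, -, -, -⟩ := quot_facts hq
  haveI := flat_quot hAF hq
  haveI : Finite (ULift.{u} (Equiv.Perm (Fin n))) := inferInstance
  haveI : Surjective q := ⟨SGA1Q.surjective hq.isQuot⟩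
  have hMsq := isPullback_quotProd hq
  haveI : Flat (quotProd hq) := MorphismProperty.of_isPullback (P := @Flat) hMsq.flip inferInstance
  haveI : Surjective (quotProd hq) := MorphismProperty.of_isPullback (P := @Surjective) hMsq.flip inferInstance
  haveI : IsFinite (quotProd hq) := MorphismProperty.of_isPullback (P := @IsFinite) hMsq.flip inferInstance
  obtain ⟨J, hJ⟩ := Groth.Agent.S5136.result (quotProd hq) (graphSum f n) (comap_fst_eq_comap_snd hAF hq)
  refine ⟨J, hJ, fun J' hJ' => ?_⟩
  exact DescLib.eq_of_flat_family (κ := PUnit.{u + 1}) (fun _ => quotProd hq)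
    (fun x => ⟨PUnit.unit, (quotProd hq).surjective x⟩) fun _ => hJ'.trans hJ.symm

/-- A descended divisor has the same degree. -/
theorem finLocFreeOfDeg_descend (hAF : SymProd.IsAF f) (hq : SymProd.IsSymProd f n q g)
    (hdeg : Mor2.IsFinLocFreeOfDeg n
      ((graphSum f n).subschemeι ≫ pullback.fst (WidePullback.base fun _ : Fin n => f) f))
    (J : (pullback g f).IdealSheafData) (hJ : J.comap (quotProd hq) = graphSum f n) :
    Mor2.IsFinLocFreeOfDeg n (J.subschemeι ≫ pullback.fst g f) := by
  obtain ⟨hqf, -, -, -⟩ := quot_facts hq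
  haveI := flat_quot hAF hq
  haveI : Finite (ULift.{u} (Equiv.Perm (Fin n))) := inferInstance
  haveI : Surjective q := ⟨SGA1Q.surjective hq.isQuot⟩
  have hMsq := isPullback_quotProd hq
  rw [← hJ] at hdeg
  set M := quotProd hq with hM
  have h1 : IsPullback ((J.comapIso M).hom ≫ pullback.snd M J.subschemeι) (J.comap M).subschemeι J.subschemeι M :=
    (IsPullback.of_hasPullback M J.subschemeι).flip.of_iso (J.comapIso M).symm
      (Iso.refl _) (Iso.refl _) (Iso.refl _)
      (by rw [Iso.refl_hom, Category.comp_id, Iso.symm_hom, Iso.inv_hom_id_assoc]) (by simp [← Scheme.IdealSheafData.comapIso_hom_fst]) (by simp) (by simp)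
  have H := h1.paste_vert hMsq
  set π := J.subschemeι ≫ pullback.fst g f
  obtain ⟨⟨h1', h2', h3'⟩, h4'⟩ := hdeg
  have hg : (@Surjective ⊓ @Flat ⊓ @QuasiCompact : MorphismProperty Scheme.{u}) q :=
    ⟨⟨inferInstance, inferInstance⟩, inferInstance⟩
  have := EtFound.fpqc_isFinite.{u}
  haveI : IsFinite π := MorphismProperty.of_isPullback_of_descendsAlong (P := @IsFinite) H.flip hg h1'
  haveI : Flat π := MorphismProperty.of_isPullback_of_descendsAlong (P := @Flat) H.flip hg h2'
  haveI : LocallyOfFinitePresentation π :=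
    MorphismProperty.of_isPullback_of_descendsAlong (P := @LocallyOfFinitePresentation) H.flip hg h3'
  refine ⟨⟨inferInstance, inferInstance, inferInstance⟩, fun y => ?_⟩
  obtain ⟨y', rfl⟩ := q.surjective y
  rw [← Scheme.Hom.finrank_of_isPullback _ _ _ _ H y']
  exact h4' y'

end Descent

end Groth.Agent.SymProdLib
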