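import Groth.Agent.Grass60.CurveSum
import Groth.Agent.HilbDLib.ClosedSub

/-!
# Sums of sections of a smooth relative curve
-/

set_option autoImplicit false
set_option linter.style.haveILetI false

universe u

open CategoryTheory CategoryTheory.Limits AlgebraicGeometry

namespace Groth.Agent.SymProdLib

theorem finLocFreeOfDeg_of_isEmpty {Z S : Scheme.{u}} [IsEmpty Z] (π : Z ⟶ S) :
    Mor2.IsFinLocFreeOfDeg 0 π := by
  refine ⟨⟨inferInstance, inferInstance, inferInstance⟩, fun y => ?_⟩
  rw [← Scheme.Hom.finrank_of_isPullback _ _ π (S.fromSpecResidueField y)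
      (IsPullback.of_hasPullback π (S.fromSpecResidueField y)) (default : Spec (S.residueField y)) |>.trans
    (congrArg _ (S.fromSpecResidueField_apply y _))]
  by_contra h
  haveI : IsEmpty ↥(pullback π (S.fromSpecResidueField y)) := (pullback.fst π (S.fromSpecResidueField y)).base.hom.1.isEmpty
  haveI : Surjective (pullback.snd π (S.fromSpecResidueField y)) :=
    (Scheme.Hom.one_le_finrank_iff_surjective _).1 fun t => by
      rw [Subsingleton.elim t default]
      exact Nat.one_le_iff_ne_zero.2 h
  obtain ⟨x, -⟩ := (pullback.snd π (S.fromSpecResidueField y)).surjective default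
  exact isEmptyElim x

variable {X S : Scheme.{u}} (p : X ⟶ S) [SmoothOfRelativeDimension 1 p] [IsSeparated p]

/-- A sum of `n` sections is finite locally free of degree `n`. -/
theorem finLocFreeOfDeg_prod_sections {ι : Type*} (t : Finset ι) (σ : ι → (S ⟶ X))
    (hσ : ∀ i, σ i ≫ p = 𝟙 S) :
    Mor2.IsFinLocFreeOfDeg t.card ((∏ i ∈ t, (σ i).ker).subschemeι ≫ p) := by
  classical
  induction t using Finset.induction_on with
  | empty =>
    simp only [Finset.prod_empty, Finset.card_empty]
    haveI : IsEmpty ↥((1 : X.IdealSheafData).subscheme) :=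
      inferInstanceAs (IsEmpty ↥((⊤ : X.IdealSheafData).subscheme))
    exact finLocFreeOfDeg_of_isEmpty _
  | insert a t ha ih =>
    haveI : IsClosedImmersion (σ a) := by
      haveI : IsClosedImmersion (σ a ≫ p) := by rw [hσ]; infer_instance
      exact IsClosedImmersion.of_comp (σ a) p
    have h1 : Mor2.IsFinLocFreeOfDeg 1 ((σ a).ker.subschemeι ≫ p) := by
      rw [HilbDLib.finLocFreeOfDeg_ker, hσ]
      exact ⟨⟨inferInstance, inferInstance, inferInstance⟩, fun y => by
        rw [Scheme.Hom.finrank_eq_one_of_isIso]; rfl⟩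
    rw [Finset.prod_insert ha, Finset.card_insert_of_notMem ha, add_comm]
    exact Grass60.CurveDiv.sum_finLocFreeOfDeg p h1 ih

end Groth.Agent.SymProdLib
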