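import Groth.Agent.SymProdLib.Orderings
import Groth.Agent.SymProdLib.GraphSum
import Groth.Agent.SymProdLib.SumSections
import Groth.Agent.SymProdLib.CurveRel
import Groth.Agent.HilbDLib.Separated

/-!
# The symmetric power of a relative curve represents the functor of relative divisors
-/

set_option autoImplicit false
set_option linter.style.haveILetI false

universe u

open CategoryTheory CategoryTheory.Limits AlgebraicGeometry

namespace Groth.Agent.SymProdLib

theorem comap_injective_of_isIso {A B : Scheme.{u}} (m : A ⟶ B) [IsIso m] :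
    Function.Injective fun I : B.IdealSheafData => I.comap m := fun I J h => by
  have := congrArg (fun K : A.IdealSheafData => K.comap (inv m)) h
  simpa only [← Scheme.IdealSheafData.comap_comp, IsIso.inv_hom_id, Scheme.IdealSheafData.comap_id] using this

variable {X S : Scheme.{u}} {f : X ⟶ S}

/-- A pulled-back divisor is a sum of sections iff it is one on the relative curve over the old base. -/
theorem pull_eq_prod_iff [IsSeparated f] {T U : Over S} (m : U ⟶ T) (I : (PicF.XT f T).IdealSheafData)
    {ι : Type*} [Fintype ι] (τ : ι → (U.left ⟶ PicF.XT f T)) (hτ : ∀ i, τ i ≫ PicF.XTproj f T = m.left)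
    (y : ι → (U.left ⟶ X)) (hy : ∀ i, y i ≫ f = U.hom) (hyτ : ∀ i, τ i ≫ pullback.fst f T.hom = y i) :
    HilbD.pull f m I = ∏ i, HilbD.secGraph f U (y i) (hy i) ↔
      I.comap (pullback.fst (PicF.XTproj f T) m.left) = ∏ i, (ptSec (PicF.XTproj f T) m.left (τ i) (hτ i)).ker := by
  have H := (HilbDLib.isPullback_XTmap f m)
  haveI := fun i => isClosedImmersion_ptSec (PicF.XTproj f T) m.left (τ i) (hτ i)
  have hsec : ∀ i, (HilbD.secGraph f U (y i) (hy i)).comap H.isoPullback.inv =
      (ptSec (PicF.XTproj f T) m.left (τ i) (hτ i)).ker := fun i => by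
    rw [HilbDLib.secGraph_eq]
    refine Grass60.CurveSplit.comap_ker_of_isPullback (c := 𝟙 U.left) (IsPullback.of_vert_isIso ⟨?_⟩)
    rw [Category.id_comp]
    refine pullback.hom_ext ?_ ?_
    · rw [Category.assoc, show pullback.fst f U.hom = PicF.XTmap f m ≫ pullback.fst f T.hom from
        ((pullback.lift_fst _ _ _).trans (Category.comp_id _)).symm, H.isoPullback_inv_fst_assoc,
        pullback.lift_fst_assoc, hyτ,
        show PicF.XTmap f m ≫ pullback.fst f T.hom = pullback.fst f U.hom from
          (pullback.lift_fst _ _ _).trans (Category.comp_id _)]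
      exact (HilbDLib.sec_fst f U (y i) (hy i)).symm
    · rw [Category.assoc, H.isoPullback_inv_snd, pullback.lift_snd]
      exact (HilbDLib.sec_proj f U (y i) (hy i)).symm
  rw [HilbDLib.pull_eq_comap]
  constructor
  · intro h
    have := congrArg (fun J : (PicF.XT f U).IdealSheafData => J.comap H.isoPullback.inv) h
    rw [← Scheme.IdealSheafData.comap_comp, H.isoPullback_inv_fst, comap_prod] at this
    simpa only [hsec] using this
  · intro h
    apply comap_injective_of_isIso H.isoPullback.inv
    show Scheme.IdealSheafData.comap _ _ = Scheme.IdealSheafData.comap _ _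
    rw [← Scheme.IdealSheafData.comap_comp, H.isoPullback_inv_fst, comap_prod]
    simpa only [hsec] using h

variable {Y : Scheme.{u}} {n : ℕ} {q : SymProd.fibPow f n ⟶ Y} {g : Y ⟶ S}

/-- The descended sum of graphs, on `X ×_S Y`. -/
noncomputable abbrev univIdeal (J : (pullback g f).IdealSheafData) : (PicF.XT f (Over.mk g)).IdealSheafData :=
  J.comap (pullbackSymmetry f g).hom

theorem deg_univIdeal {J : (pullback g f).IdealSheafData}
    (hJ : Mor2.IsFinLocFreeOfDeg n (J.subschemeι ≫ pullback.fst g f)) :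
    Mor2.IsFinLocFreeOfDeg n ((univIdeal J).subschemeι ≫ PicF.XTproj f (Over.mk g)) :=
  Grass60.CurveSplit.finLocFreeOfDeg_comap (g' := (pullbackSymmetry f g).hom) (b := 𝟙 Y)
    (IsPullback.of_horiz_isIso ⟨by rw [Category.comp_id]; exact pullbackSymmetry_hom_comp_fst f g⟩) J hJ

theorem pull_univIdeal [IsSeparated f] (hq : SymProd.IsSymProd f n q g) {J : (pullback g f).IdealSheafData}
    (hJ : J.comap (quotProd hq) = graphSum f n) {U : Over S} (x : U.left ⟶ SymProd.fibPow f n)
    (hx : x ≫ WidePullback.base (fun _ : Fin n => f) = U.hom) (ψ : U ⟶ Over.mk g) (hψ : ψ.left = x ≫ q) :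
    HilbD.pull f ψ (univIdeal J) = ∏ i, HilbD.secGraph f U (x ≫ WidePullback.π (fun _ : Fin n => f) i)
      (by rw [Category.assoc, WidePullback.π_arrow, hx]) := by
  let m : PicF.XT f U ⟶ pullback (WidePullback.base fun _ : Fin n => f) f :=
    pullback.lift (pullback.snd f U.hom ≫ x) (pullback.fst f U.hom)
      (by rw [Category.assoc, hx]; exact pullback.condition.symm)
  have hm : PicF.XTmap f ψ ≫ (pullbackSymmetry f g).hom = m ≫ quotProd hq := by
    refine pullback.hom_ext ?_ ?_
    · rw [Category.assoc, pullbackSymmetry_hom_comp_fst, Category.assoc, quotProd_fst, pullback.lift_fst_assoc,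
        Category.assoc, ← hψ]
      exact pullback.lift_snd _ _ _
    · rw [Category.assoc, pullbackSymmetry_hom_comp_snd, Category.assoc, quotProd_snd, pullback.lift_snd]
      exact (pullback.lift_fst _ _ _).trans (Category.comp_id _)
  have hpb : IsPullback m (pullback.snd f U.hom) (pullback.fst (WidePullback.base fun _ : Fin n => f) f) x :=
    IsPullback.of_right (by rw [pullback.lift_snd, hx]; exact IsPullback.of_hasPullback f U.hom)
      (pullback.lift_fst _ _ _) (IsPullback.of_hasPullback _ f).flip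
  rw [HilbDLib.pull_eq_comap, univIdeal, ← Scheme.IdealSheafData.comap_comp, hm,
    Scheme.IdealSheafData.comap_comp, hJ, graphSum, comap_prod]
  refine Finset.prod_congr rfl fun i _ => ?_
  rw [HilbDLib.secGraph_eq]
  refine Grass60.CurveSplit.comap_ker_of_isPullback (c := x) (IsPullback.flip (IsPullback.of_bot ?_ ?_ hpb))
  · rw [show HilbDLib.sec f U _ _ ≫ pullback.snd f U.hom = 𝟙 _ from HilbDLib.sec_proj f U _ _, graphSec,
      pullback.lift_fst]
    exact IsPullback.of_vert_isIso ⟨by simp⟩
  · refine pullback.hom_ext ?_ ?_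
    · rw [Category.assoc, Category.assoc, pullback.lift_fst, graphSec, pullback.lift_fst, Category.comp_id,
        ← Category.assoc, show HilbDLib.sec f U _ _ ≫ pullback.snd f U.hom = 𝟙 _ from HilbDLib.sec_proj f U _ _,
        Category.id_comp]
    · rw [Category.assoc, Category.assoc, pullback.lift_snd, graphSec, pullback.lift_snd]
      exact (HilbDLib.sec_fst f U _ _).symm

theorem pull_secGraph [IsSeparated f] {T W : Over S} (h : W ⟶ T) (y : T.left ⟶ X) (hy : y ≫ f = T.hom) :
    HilbD.pull f h (HilbD.secGraph f T y hy) =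
      HilbD.secGraph f W (h.left ≫ y) (by rw [Category.assoc, hy]; exact Over.w h) := by
  rw [HilbDLib.secGraph_eq, HilbDLib.secGraph_eq]
  refine HilbDLib.pull_eq_ker_of_isPullback (u' := h.left) f h (IsPullback.flip (IsPullback.of_bot ?_ ?_ (HilbDLib.isPullback_XTmap f h)))
  · rw [HilbDLib.sec_proj, HilbDLib.sec_proj]
    exact IsPullback.of_vert_isIso ⟨by simp⟩
  · refine pullback.hom_ext ?_ ?_
    · simp only [Category.assoc, PicF.XTmap, pullback.lift_fst, Category.comp_id, HilbDLib.sec_fst]
    · simp only [Category.assoc, PicF.XTmap, pullback.lift_snd]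
      rw [show HilbDLib.sec f T y hy ≫ pullback.snd f T.hom = 𝟙 _ from HilbDLib.sec_proj f T y hy,
        ← Category.assoc, show HilbDLib.sec f W (h.left ≫ y) _ ≫ pullback.snd f W.hom = 𝟙 _ from HilbDLib.sec_proj f W _ _]
      simp

theorem surjective_XTmap {T W : Over S} (m : W ⟶ T) (hm : Surjective m.left) : Surjective (PicF.XTmap f m) :=
  MorphismProperty.of_isPullback (P := @Surjective) (HilbDLib.isPullback_XTmap f m).flip hm

variable [IsProper f] [SmoothOfRelativeDimension 1 f] [IsLocallyNoetherian S]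

/-- A point of the symmetric power whose divisor is a sum of sections is the image of those sections. -/
theorem eq_comp_quot (hAF : SymProd.IsAF f) (hq : SymProd.IsSymProd f n q g) {J : (pullback g f).IdealSheafData}
    (hJ : J.comap (quotProd hq) = graphSum f n)
    (hJd : Mor2.IsFinLocFreeOfDeg n (J.subschemeι ≫ pullback.fst g f))
    {U : Over S} (ψ : U ⟶ Over.mk g) (x : U.left ⟶ SymProd.fibPow f n)
    (hx : x ≫ WidePullback.base (fun _ : Fin n => f) = U.hom)
    (h : HilbD.pull f ψ (univIdeal J) = ∏ i, HilbD.secGraph f U (x ≫ WidePullback.π (fun _ : Fin n => f) i)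
      (by rw [Category.assoc, WidePullback.π_arrow, hx])) :
    x ≫ q = ψ.left := by
  obtain ⟨hgp, -⟩ := isProper_and_smooth_symProd hAF hq
  let p := PicF.XTproj f (Over.mk g)
  haveI : SmoothOfRelativeDimension 1 p :=
    (smoothOfRelativeDimension_isStableUnderBaseChange 1).of_isPullback (IsPullback.of_hasPullback f g) inferInstance
  obtain ⟨K, π, σ, hπ, hσ, huniv⟩ := exists_orderings n p (univIdeal J) (deg_univIdeal hJd)
  have hσf : ∀ i, (σ i ≫ pullback.fst f g) ≫ f = π ≫ g := fun i => by
    rw [Category.assoc, pullback.condition, ← Category.assoc]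
    exact congrArg (· ≫ g) (hσ i)
  let xK : K ⟶ SymProd.fibPow f n := WidePullback.lift (π ≫ g) (fun i => σ i ≫ pullback.fst f g) hσf
  -- points of the orderings from tuples of points
  have key : ∀ (V : Over S) (χ : V ⟶ Over.mk g) (z : V.left ⟶ SymProd.fibPow f n)
      (hz : z ≫ WidePullback.base (fun _ : Fin n => f) = V.hom),
      (HilbD.pull f χ (univIdeal J) = ∏ i, HilbD.secGraph f V (z ≫ WidePullback.π (fun _ : Fin n => f) i)
        (by rw [Category.assoc, WidePullback.π_arrow, hz])) → ∃ v, v ≫ π = χ.left ∧ v ≫ xK = z := by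
    intro V χ z hz hV
    let τ : Fin n → (V.left ⟶ PicF.XT f (Over.mk g)) := fun i =>
      pullback.lift (z ≫ WidePullback.π (fun _ : Fin n => f) i) χ.left
        (by rw [Category.assoc, WidePullback.π_arrow, hz, Over.w])
    obtain ⟨v, hv, hvσ⟩ := huniv V.left χ.left τ (fun i => pullback.lift_snd _ _ _)
      ((pull_eq_prod_iff χ _ τ (fun i => pullback.lift_snd _ _ _) _ _ (fun i => pullback.lift_fst _ _ _)).1 hV)
    refine ⟨v, hv, WidePullback.hom_ext _ _ _ (fun i => ?_) ?_⟩
    · rw [Category.assoc, WidePullback.lift_π, ← Category.assoc, hvσ i]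
      exact pullback.lift_fst _ _ _
    · rw [Category.assoc, WidePullback.lift_base, ← Category.assoc, hv, hz]
      exact Over.w χ
  obtain ⟨v₀, hv₀, hv₀x⟩ := key (Over.mk (WidePullback.base fun _ : Fin n => f)) (Over.homMk q hq.over) (𝟙 _)
    (Category.id_comp _) (pull_univIdeal hq hJ (U := Over.mk (WidePullback.base fun _ : Fin n => f)) (𝟙 _)
      (Category.id_comp _) (Over.homMk q hq.over) (Category.id_comp q).symm)
  replace hv₀ : v₀ ≫ π = q := hv₀
  haveI : IsFinite π := hπ.1.1
  haveI : IsSeparated (xK ≫ WidePullback.base (fun _ : Fin n => f)) := by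
    rw [WidePullback.lift_base]; infer_instance
  haveI : IsSeparated xK := IsSeparated.of_comp xK (WidePullback.base fun _ : Fin n => f)
  haveI : IsClosedImmersion (v₀ ≫ xK) := by rw [hv₀x]; infer_instance
  haveI : IsClosedImmersion v₀ := IsClosedImmersion.of_comp v₀ xK
  haveI : IsIso v₀ := isIso_of_deg_eq v₀ π (by rw [hv₀]; exact isFinLocFreeOfDeg_quot hAF hq) hπ
  have hxK : xK ≫ q = π := by
    rw [← cancel_epi v₀, ← Category.assoc, hv₀x, hv₀]
    exact Category.id_comp q
  obtain ⟨v, hv, hvx⟩ := key U ψ x hx h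
  rw [← hvx, Category.assoc, hxK, hv]

set_option maxHeartbeats 1000000 in
/-- The symmetric power carries a universal divisor. -/
theorem exists_isUniversal (hAF : SymProd.IsAF f) (hq : SymProd.IsSymProd f n q g) :
    ∃ D : HilbD.Obj f n (Over.mk g), HilbD.IsUniversal f n (Over.mk g) D := by
  haveI : SmoothOfRelativeDimension 1 (pullback.fst (WidePullback.base fun _ : Fin n => f) f) :=
    (smoothOfRelativeDimension_isStableUnderBaseChange 1).of_isPullback
      (IsPullback.of_hasPullback (WidePullback.base fun _ : Fin n => f) f).flip inferInstance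
  have hdeg : Mor2.IsFinLocFreeOfDeg n ((graphSum f n).subschemeι ≫
      pullback.fst (WidePullback.base fun _ : Fin n => f) f) := by
    have := finLocFreeOfDeg_prod_sections (pullback.fst (WidePullback.base fun _ : Fin n => f) f) Finset.univ
      (graphSec f n) fun i => pullback.lift_fst _ _ _
    rwa [Finset.card_univ, Fintype.card_fin] at this
  haveI : Flat ((graphSum f n).subschemeι ≫ pullback.fst (WidePullback.base fun _ : Fin n => f) f) := hdeg.1.2.1
  obtain ⟨J, hJ, -⟩ := existsUnique_descend hAF hq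
  have hJd := finLocFreeOfDeg_descend hAF hq hdeg J hJ
  refine ⟨⟨univIdeal J, deg_univIdeal hJd⟩, fun T Z => ?_⟩
  let p := PicF.XTproj f T
  haveI : SmoothOfRelativeDimension 1 p :=
    (smoothOfRelativeDimension_isStableUnderBaseChange 1).of_isPullback (IsPullback.of_hasPullback f T.hom) inferInstance
  obtain ⟨U, b, hb1, hb2, hb3, σ, hσ, hsplit⟩ := Grass60.CurveSplit.exists_split n p Z.1 Z.2
  let U' : Over S := Over.mk (b ≫ T.hom)
  let m : U' ⟶ T := Over.homMk b rfl
  let τ : Fin n → (U ⟶ PicF.XT f T) := fun i => σ i ≫ pullback.fst p b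
  have hτ : ∀ i, τ i ≫ p = b := fun i => by
    rw [Category.assoc, pullback.condition, ← Category.assoc, hσ i, Category.id_comp]
  have hy : ∀ i, (τ i ≫ pullback.fst f T.hom) ≫ f = U'.hom := fun i => by
    rw [Category.assoc, pullback.condition, ← Category.assoc]
    exact congrArg (· ≫ T.hom) (hτ i)
  let x : U ⟶ SymProd.fibPow f n := WidePullback.lift U'.hom (fun i => τ i ≫ pullback.fst f T.hom) hy
  have hx : x ≫ WidePullback.base (fun _ : Fin n => f) = U'.hom := WidePullback.lift_base _ _ _ _
  have hxπ : ∀ i, x ≫ WidePullback.π (fun _ : Fin n => f) i = τ i ≫ pullback.fst f T.hom := fun i =>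
    WidePullback.lift_π _ _ _ _ i
  have hIsum : HilbD.pull f m Z.1 = ∏ i, HilbD.secGraph f U' (x ≫ WidePullback.π (fun _ : Fin n => f) i)
      (by rw [Category.assoc, WidePullback.π_arrow, hx]) := by
    refine (pull_eq_prod_iff m Z.1 τ hτ _ _ (fun i => (hxπ i).symm)).2 ?_
    show Z.1.comap (pullback.fst p b) = _
    rw [hsplit]
    refine Finset.prod_congr rfl fun i _ => congrArg _ (pullback.hom_ext ?_ ?_)
    · exact (pullback.lift_fst _ _ _).symm
    · exact (hσ i).trans (pullback.lift_snd _ _ _).symm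
  -- a map with the right divisor is forced on the cover
  have forced : ∀ (W : Over S) (h : W ⟶ U') (χ : W ⟶ Over.mk g),
      HilbD.pull f χ (univIdeal J) = HilbD.pull f (h ≫ m) Z.1 → h.left ≫ x ≫ q = χ.left := by
    intro W h χ hχ
    rw [← Category.assoc]
    refine eq_comp_quot hAF hq hJ hJd χ (h.left ≫ x) (by rw [Category.assoc, hx]; exact Over.w h) ?_
    rw [hχ, ← HilbDLib.pull_pull, hIsum, HilbDLib.pull_eq_comap, comap_prod]
    refine Finset.prod_congr rfl fun i _ => ?_
    rw [← HilbDLib.pull_eq_comap]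
    have key := pull_secGraph (f := f) h (x ≫ WidePullback.π (fun _ : Fin n => f) i)
      (by rw [Category.assoc, WidePullback.π_arrow, hx])
    simpa only [Category.assoc] using key
  let φ' : U' ⟶ Over.mk g := Over.homMk (x ≫ q) (by
    show (x ≫ q) ≫ g = U'.hom
    rw [Category.assoc, hq.over, hx])
  have hφ' : HilbD.pull f φ' (univIdeal J) = HilbD.pull f m Z.1 :=
    (pull_univIdeal (U := U') hq hJ x hx φ' rfl).trans hIsum.symm
  have hdesc : ∀ {W : Scheme.{u}} (h₁ h₂ : W ⟶ U), h₁ ≫ b = h₂ ≫ b → h₁ ≫ x ≫ q = h₂ ≫ x ≫ q := by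
    intro W h₁ h₂ he
    let W' : Over S := Over.mk (h₁ ≫ b ≫ T.hom)
    let k₁ : W' ⟶ U' := Over.homMk h₁ rfl
    let k₂ : W' ⟶ U' := Over.homMk h₂ (by show h₂ ≫ b ≫ T.hom = h₁ ≫ b ≫ T.hom; rw [← Category.assoc, ← he, Category.assoc])
    refine forced W' k₁ (k₂ ≫ φ') ?_
    rw [← HilbDLib.pull_pull, hφ', HilbDLib.pull_pull,
      show k₂ ≫ m = k₁ ≫ m from Over.OverMorphism.ext he.symm]
  let φ₀ : T.left ⟶ Y := EffectiveEpi.desc b (x ≫ q) hdesc
  have hφ₀ : b ≫ φ₀ = x ≫ q := EffectiveEpi.fac b (x ≫ q) hdesc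
  haveI : Epi b := inferInstance
  let φ : T ⟶ Over.mk g := Over.homMk φ₀ (by
    show φ₀ ≫ g = T.hom
    rw [← cancel_epi b, ← Category.assoc, hφ₀, Category.assoc, hq.over, hx]; rfl)
  have hmφ : m ≫ φ = φ' := Over.OverMorphism.ext hφ₀
  haveI : Flat (PicF.XTmap f m) :=
    MorphismProperty.of_isPullback (P := @Flat) (HilbDLib.isPullback_XTmap f m).flip hb1
  refine ⟨φ, ?_, fun χ hχ => Over.OverMorphism.ext ?_⟩
  · refine DescLib.eq_of_flat_family (κ := PUnit.{u + 1}) (fun _ => PicF.XTmap f m)
      (fun z => ⟨PUnit.unit, (surjective_XTmap m hb2).surj z⟩) fun _ => ?_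
    rw [← HilbDLib.pull_eq_comap, ← HilbDLib.pull_eq_comap, HilbDLib.pull_pull, hmφ, hφ']
  · rw [← cancel_epi b, show b ≫ φ.left = x ≫ q from hφ₀]
    have := forced U' (𝟙 U') (m ≫ χ) (by rw [← HilbDLib.pull_pull, hχ, Category.id_comp])
    exact (this.symm.trans (Category.id_comp _))

end Groth.Agent.SymProdLib
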