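import Groth.Agent.SymProdLib.HighDim
import Groth.Agent.SymProdLib.Quot
import Groth.Agent.SGA1Q.Properties
import Groth.Agent.MiscTwoH99.NormalPurity
import Groth.Agent.RegLoc6.Descent
import Groth.Agent.RegLoc6.Normal
import Groth.Agent.SmoothReg.Scheme
import Mathlib.AlgebraicGeometry.AlgClosed.Basic
import Mathlib.AlgebraicGeometry.Morphisms.Etale

/-!
# The singular locus of a symmetric power in dimension at least two
-/

set_option autoImplicit false
set_option linter.style.haveILetI false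

universe u

open CategoryTheory CategoryTheory.Limits AlgebraicGeometry TensorProduct

namespace Groth.Agent.SymProdLib

/-- A free quotient of finite type is étale. -/
theorem etale_of_free {X Y : Scheme.{u}} {G : Type u} [Group G] [Finite G] {ρ : G →* Aut X} {p : X ⟶ Y}
    (hp : SGA1.IsQuot ρ p) (hfree : SGA1Q.FreeOnGeomPoints ρ) [IsFinite p] [IsLocallyNoetherian Y] : Etale p := by
  haveI := SGA1Q.isIso_sigmaDesc_graphMap hfree hp
  haveI := SGA1Q.flat_of_free hfree hp
  haveI : IsOpenImmersion (SGA1Q.graphMap hp.inv (1 : G)) := by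
    rw [← Sigma.ι_desc (fun g : G => SGA1Q.graphMap hp.inv g) (1 : G)]
    infer_instance
  haveI : IsOpenImmersion (pullback.diagonal p) := by
    have e : pullback.diagonal p = SGA1Q.graphMap hp.inv (1 : G) :=
      pullback.hom_ext (by rw [pullback.diagonal_fst, SGA1Q.graphMap, pullback.lift_fst])
        (by rw [pullback.diagonal_snd, SGA1Q.graphMap, pullback.lift_snd, map_one]; rfl)
    rw [e]; infer_instance
  haveI : LocallyOfFinitePresentation p := LocallyOfFinitePresentation.iff_locallyOfFiniteType.2 inferInstance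
  exact Etale.of_formallyUnramified_of_flat p

/-- An endomorphism fixing an unramified point and its residues is trivial. -/
theorem algHom_eq_id_of_unramified {A B : Type u} [CommRing A] [CommRing B] [IsDomain B] [IsNoetherianRing B]
    [Algebra A B] (m : Ideal B) [m.IsPrime] [Algebra.FormallyUnramified A (Localization.AtPrime m)]
    (σ : B →ₐ[A] B) (hσ : ∀ b, σ b - b ∈ m) (b : B) : σ b = b := by
  let L := Localization.AtPrime m
  let σL : B →ₐ[A] L := (IsScalarTower.toAlgHom A B L).comp σ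
  have hu : ∀ s : m.primeCompl, IsUnit (σL s) := fun s => by
    refine IsLocalization.map_units L (⟨σ s, fun h => s.2 ?_⟩ : m.primeCompl)
    have := sub_mem h (hσ s)
    rwa [sub_sub_cancel] at this
  let g₂ : L →ₐ[A] L := IsLocalization.liftAlgHom hu
  have hg : AlgHom.id A L = g₂ := by
    refine Algebra.FormallyUnramified.ext_of_iInf (IsLocalRing.maximalIdeal L)
      (Ideal.iInf_pow_eq_bot_of_isLocalRing _ (IsLocalRing.maximalIdeal.isMaximal L).ne_top) fun x => ?_
    refine RingHom.congr_fun (IsLocalization.ringHom_ext m.primeCompl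
      (j := (Ideal.Quotient.mk (IsLocalRing.maximalIdeal L)).comp (AlgHom.id A L).toRingHom)
      (k := (Ideal.Quotient.mk (IsLocalRing.maximalIdeal L)).comp g₂.toRingHom) ?_) x
    ext b
    show Ideal.Quotient.mk _ (algebraMap B L b) = Ideal.Quotient.mk _ (g₂ (algebraMap B L b))
    rw [show g₂ (algebraMap B L b) = algebraMap B L (σ b) from IsLocalization.lift_eq _ _, Ideal.Quotient.eq,
      ← map_sub, IsLocalization.AtPrime.to_map_mem_maximal_iff L m]
    rw [← neg_mem_iff, neg_sub]
    exact hσ b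
  have h := AlgHom.congr_fun hg (algebraMap B L b)
  rw [show g₂ (algebraMap B L b) = algebraMap B L (σ b) from IsLocalization.lift_eq _ _] at h
  exact (IsLocalization.injective L m.primeCompl_le_nonZeroDivisors h).symm

theorem mem_primeIdealOf_iff' {X : Scheme.{u}} {U : X.Opens} (hU : IsAffineOpen U) {p : X} (hp : p ∈ U)
    (a : Γ(X, U)) : a ∈ (hU.primeIdealOf ⟨p, hp⟩).asIdeal ↔ p ∉ X.basicOpen a := by
  have h : hU.primeIdealOf ⟨p, hp⟩ ∈ hU.fromSpec ⁻¹ᵁ X.basicOpen a ↔ p ∈ X.basicOpen a := by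
    show hU.fromSpec _ ∈ X.basicOpen a ↔ _
    rw [hU.fromSpec_primeIdealOf ⟨p, hp⟩]
  rw [hU.fromSpec_preimage_basicOpen] at h
  exact iff_not_comm.1 h.symm

theorem appLE_congr_hom' {X Y : Scheme.{u}} {f g : X ⟶ Y} (h : f = g) {U : Y.Opens} {V : X.Opens}
    (e₁ : V ≤ f ⁻¹ᵁ U) (e₂ : V ≤ g ⁻¹ᵁ U) : f.appLE U V e₁ = g.appLE U V e₂ := by subst h; rfl

section Rings

variable {P : Scheme.{u}}

theorem isIntegrallyClosed_sections [IsIntegral P] (hreg : ∀ x : P, IsRegularLocalRing (P.presheaf.stalk x))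
    {V : P.Opens} (hV : IsAffineOpen V) [Nonempty V] : IsIntegrallyClosed Γ(P, V) := by
  refine IsIntegrallyClosed.of_localization_maximal fun m _ hm => ?_
  let p : PrimeSpectrum Γ(P, V) := ⟨m, hm.isPrime⟩
  have hx : hV.fromSpec p ∈ V := by
    have : hV.fromSpec p ∈ Set.range hV.fromSpec := ⟨p, rfl⟩
    rwa [hV.range_fromSpec] at this
  letI := P.presheaf.algebra_section_stalk (U := V) ⟨hV.fromSpec p, hx⟩
  haveI := hV.isLocalization_stalk' p hx
  haveI := hreg (hV.fromSpec p)
  haveI := RegLoc6.isIntegrallyClosed_of_isRegularLocalRing (P.presheaf.stalk (hV.fromSpec p))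
  haveI : IsLocalization m.primeCompl (P.presheaf.stalk (hV.fromSpec p)) := hV.isLocalization_stalk' p hx
  exact IsIntegrallyClosed.of_equiv
    (IsLocalization.algEquiv m.primeCompl (P.presheaf.stalk (hV.fromSpec p)) (Localization.AtPrime m)).toRingEquiv

/-- Points over an open where a morphism is étale are étale primes. -/
theorem isEtaleAt_of_etale {Y : Scheme.{u}} (q : P ⟶ Y) {U : Y.Opens} (hU : IsAffineOpen U)
    (hV : IsAffineOpen (q ⁻¹ᵁ U)) (O : P.Opens) [Etale (O.ι ≫ q)] [LocallyOfFiniteType q] [IsLocallyNoetherian Y]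
    (η : PrimeSpectrum Γ(P, q ⁻¹ᵁ U)) (hη : hV.fromSpec η ∈ O) :
    letI := (q.app U).hom.toAlgebra
    Algebra.IsEtaleAt Γ(Y, U) η.asIdeal := by
  letI := (q.app U).hom.toAlgebra
  haveI : Algebra.FiniteType Γ(Y, U) Γ(P, q ⁻¹ᵁ U) := by
    have := q.finiteType_appLE hU hV le_rfl
    rw [← Scheme.Hom.app_eq_appLE] at this
    exact this
  haveI : IsNoetherianRing Γ(Y, U) := IsLocallyNoetherian.component_noetherian ⟨U, hU⟩
  haveI : Algebra.FinitePresentation Γ(Y, U) Γ(P, q ⁻¹ᵁ U) := Algebra.FinitePresentation.of_finiteType.mp inferInstance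
  have hηV : hV.fromSpec η ∈ q ⁻¹ᵁ U := by
    have : hV.fromSpec η ∈ Set.range hV.fromSpec := ⟨η, rfl⟩
    rwa [hV.range_fromSpec] at this
  obtain ⟨b, hbO, hbη⟩ := hV.exists_basicOpen_le (V := O) ⟨hV.fromSpec η, hη⟩ hηV
  have hW : IsAffineOpen (P.basicOpen b) := hV.basicOpen b
  haveI : Etale ((P.basicOpen b).ι ≫ q) := by
    rw [← Scheme.homOfLE_ι P hbO, Category.assoc]; infer_instance
  have h1 : RingHom.Etale (((P.basicOpen b).ι ≫ q).appLE U ⊤ (by
      intro x _; exact P.basicOpen_le b x.2)).hom := by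
    haveI : IsAffine (P.basicOpen b).toScheme := hW
    exact HasRingHomProperty.appLE @Etale _ inferInstance ⟨U, hU⟩ ⟨⊤, isAffineOpen_top _⟩ _
  have h2 : RingHom.Etale (q.appLE U (P.basicOpen b) (P.basicOpen_le b)).hom := by
    have hle : (⊤ : (P.basicOpen b).toScheme.Opens) ≤ (P.basicOpen b).ι ⁻¹ᵁ P.basicOpen b := by
      rw [Scheme.Opens.ι_preimage_self]
    haveI : IsIso ((P.basicOpen b).ι.appLE (P.basicOpen b) ⊤ hle) := by
      rw [Scheme.Opens.ι_appLE]
      have he : (P.basicOpen b).ι ''ᵁ ⊤ = P.basicOpen b := Scheme.Opens.ι_image_top _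
      have : (homOfLE ((Scheme.Opens.ι_image_top (P.basicOpen b)).le)) = eqToHom he := Subsingleton.elim _ _
      erw [this]
      exact Functor.map_isIso _ _
    have h1' : (q.appLE U (P.basicOpen b) (P.basicOpen_le b) ≫
        (P.basicOpen b).ι.appLE (P.basicOpen b) ⊤ hle).hom.Etale := by
      rw [Scheme.Hom.appLE_comp_appLE]
      exact h1
    exact (RingHom.Etale.respectsIso.cancel_right_isIso _ _).1 h1'
  letI := (q.appLE U (P.basicOpen b) (P.basicOpen_le b)).hom.toAlgebra
  letI : Algebra Γ(P, q ⁻¹ᵁ U) Γ(P, P.basicOpen b) :=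
    (P.presheaf.map (homOfLE (P.basicOpen_le b)).op).hom.toAlgebra
  haveI : IsScalarTower Γ(Y, U) Γ(P, q ⁻¹ᵁ U) Γ(P, P.basicOpen b) :=
    IsScalarTower.of_algebraMap_eq' rfl
  haveI : IsLocalization.Away b Γ(P, P.basicOpen b) := hV.isLocalization_basicOpen b
  haveI : Algebra.Etale Γ(Y, U) Γ(P, P.basicOpen b) := h2
  haveI : Algebra.Etale Γ(Y, U) (Localization.Away b) :=
    Algebra.Etale.of_equiv ((IsLocalization.algEquiv (Submonoid.powers b) Γ(P, P.basicOpen b)
      (Localization.Away b)).restrictScalars Γ(Y, U))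
  have hsub := (Algebra.basicOpen_subset_etaleLocus_iff_etale (R := Γ(Y, U)) (f := b)).2 inferInstance
  refine Algebra.mem_etaleLocus_iff.1 (hsub ?_)
  show b ∉ η.asIdeal
  intro hb
  have : η ∈ hV.fromSpec ⁻¹ᵁ P.basicOpen b := hbη
  rw [hV.fromSpec_preimage_basicOpen] at this
  exact this hb

end Rings

section Field

variable {k : Type u} [Field k] [IsAlgClosed k] {X : Scheme.{u}} {f : X ⟶ Spec (CommRingCat.of k)}
  [IsSeparated f] {n : ℕ} {Y : Scheme.{u}} {q : SymProd.fibPow f n ⟶ Y} {g : Y ⟶ Spec (CommRingCat.of k)}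

/-- The free locus of a symmetric power is étale over the quotient. -/
theorem exists_etale_freeLocus (hq : SymProd.IsSymProd f n q g) [IsLocallyNoetherian Y] [IsFinite q] :
    ∃ W' : Y.Opens, q ⁻¹ᵁ W' = freeLocus f n ∧ Etale ((freeLocus f n).ι ≫ q) := by
  obtain ⟨W', hW'⟩ := exists_image_open hq (freeLocus f n) permHom_preimage_freeLocus
  refine ⟨W', hW', ?_⟩
  haveI : Finite (ULift.{u} (Equiv.Perm (Fin n))) := inferInstance
  let ρ := SymProd.permActU f n
  let ρW := SGA1Q.restrictAction ρ (q ⁻¹ᵁ W') (fun σ => SGA1.preimage_le_of_inv _ q hq.isQuot.inv σ W')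
  have hρW : ∀ σ, (ρW σ).hom ≫ (q ⁻¹ᵁ W').ι = (q ⁻¹ᵁ W').ι ≫ (ρ σ).hom :=
    SGA1Q.restrictAction_hom_ι ρ (q ⁻¹ᵁ W') (fun σ => SGA1.preimage_le_of_inv _ q hq.isQuot.inv σ W')
  have hquot := SGA1Q.isQuot_morphismRestrict hq.isQuot W' ρW hρW
  have hfree : SGA1Q.FreeOnGeomPoints ρW := by
    intro K _ _ ξ σ hξ
    refine ULift.ext _ _ (eq_one_of_fix (ξ ≫ (q ⁻¹ᵁ W').ι) (fun z => hW'.le (ξ.base z).2) σ.down ?_)
    have := congrArg (· ≫ (q ⁻¹ᵁ W').ι) hξ
    rw [Category.assoc, hρW σ, ← Category.assoc] at this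
    exact this
  haveI : IsLocallyNoetherian W'.toScheme := isLocallyNoetherian_of_isOpenImmersion W'.ι
  haveI := etale_of_free hquot hfree
  rw [← hW', ← morphismRestrict_ι]
  infer_instance

variable [Smooth f]

theorem isRegularLocalRing_stalk_fibPow (x : ↥(SymProd.fibPow f n)) :
    IsRegularLocalRing ((SymProd.fibPow f n).presheaf.stalk x) := by
  haveI := smooth_base f n
  exact SmoothReg.isRegularLocalRing_stalk_of_mem_smoothLocus (WidePullback.base fun _ : Fin n => f) (by
    rw [(Scheme.Hom.smoothLocus_eq_top_iff (f := WidePullback.base fun _ : Fin n => f)).2 inferInstance]; trivial)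

/-- The quotient is regular at images of tuples of distinct points. -/
theorem isRegularLocalRing_stalk_of_injective (hq : SymProd.IsSymProd f n q g) [IsLocallyNoetherian Y]
    [IsFinite q] (z : ↥(SymProd.fibPow f n))
    (hinj : Function.Injective fun i : Fin n => (WidePullback.π (fun _ : Fin n => f) i).base z) :
    IsRegularLocalRing (Y.presheaf.stalk (q.base z)) := by
  have hz : z ∈ freeLocus f n := by
    rw [mem_freeLocus]
    rintro i j hij ⟨w, hw⟩
    refine hij (hinj ?_)
    have h1 := congrArg (pullback.fst f f).base hw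
    have h2 := congrArg (pullback.snd f f).base hw
    simp only [← Scheme.Hom.comp_apply, pullback.diagonal_fst, pullback.diagonal_snd, pairπ, pullback.lift_fst,
      pullback.lift_snd] at h1 h2
    exact h1.symm.trans h2
  obtain ⟨W', hW', het⟩ := exists_etale_freeLocus hq
  haveI := isRegularLocalRing_stalk_fibPow (f := f) z
  let z' : (freeLocus f n).toScheme := ⟨z, hz⟩
  have hflat0 : (q.stalkMap ((freeLocus f n).ι.base z') ≫ (freeLocus f n).ι.stalkMap z').hom.Flat :=
    (congrArg (fun r => r.hom.Flat) (Scheme.Hom.stalkMap_comp (freeLocus f n).ι q z')).mp (Flat.stalkMap _ z')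
  have hflat : ((((freeLocus f n).ι.stalkMap z').hom).comp (q.stalkMap ((freeLocus f n).ι.base z')).hom).Flat :=
    hflat0
  have hflat' : (q.stalkMap ((freeLocus f n).ι.base z')).hom.Flat := by
    have := hflat.comp (RingHom.Flat.of_bijective
      (ConcreteCategory.bijective_of_isIso (inv ((freeLocus f n).ι.stalkMap z'))))
    rwa [← RingHom.comp_assoc, ← CommRingCat.hom_comp, IsIso.hom_inv_id, CommRingCat.hom_id,
      RingHom.id_comp] at this
  have hz' : (freeLocus f n).ι.base z' = z := rfl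
  rw [hz'] at hflat'
  letI := (q.stalkMap z).hom.toAlgebra
  haveI : Module.Flat (Y.presheaf.stalk (q.base z)) ((SymProd.fibPow f n).presheaf.stalk z) :=
    RingHom.flat_algebraMap_iff.1 hflat'
  haveI : IsLocalHom (algebraMap (Y.presheaf.stalk (q.base z)) ((SymProd.fibPow f n).presheaf.stalk z)) :=
    inferInstanceAs (IsLocalHom (q.stalkMap z).hom)
  exact RegLoc6.isRegularLocalRing_of_flat (A := Y.presheaf.stalk (q.base z))
    (B := (SymProd.fibPow f n).presheaf.stalk z)

variable [IrreducibleSpace X]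

set_option maxHeartbeats 1000000 in
/-- The quotient is singular at images of tuples with a coincidence. -/
theorem injective_of_isRegularLocalRing_stalk (d : ℕ) (hd : 2 ≤ d) [SmoothOfRelativeDimension d f]
    (hq : SymProd.IsSymProd f n q g) [IsLocallyNoetherian Y] [IsFinite q] (z : ↥(SymProd.fibPow f n))
    (hz : IsClosed ({z} : Set ↥(SymProd.fibPow f n))) (hreg : IsRegularLocalRing (Y.presheaf.stalk (q.base z))) :
    Function.Injective fun i : Fin n => (WidePullback.π (fun _ : Fin n => f) i).base z := by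
  classical
  intro i j hij
  by_contra hne
  haveI := isIntegral_fibPow (f := f) n
  haveI := smooth_base f n
  obtain ⟨W', hW', het⟩ := exists_etale_freeLocus hq
  -- the transposition fixes the rational point
  let s := pointOfClosedPoint (WidePullback.base fun _ : Fin n => f) z hz
  have hsz : ∀ t, s.base t = z := pointOfClosedPoint_apply (WidePullback.base fun _ : Fin n => f) z hz
  let σ : Equiv.Perm (Fin n) := Equiv.swap i j
  have hs : s ≫ SymProd.permHom f n σ = s := by
    refine WidePullback.hom_ext _ _ _ (fun a => ?_) (by rw [Category.assoc, SymProd.permHom_base])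
    rw [Category.assoc, SymProd.permHom_π]
    refine ext_of_apply_closedPoint_eq f
      (by rw [Category.assoc, WidePullback.π_arrow, pointOfClosedPoint_comp])
      (by rw [Category.assoc, WidePullback.π_arrow, pointOfClosedPoint_comp]) ?_
    show (WidePullback.π (fun _ : Fin n => f) ((Equiv.swap i j).symm a)).base (s.base _) =
      (WidePullback.π (fun _ : Fin n => f) a).base (s.base _)
    erw [hsz]
    rw [Equiv.symm_swap]
    rcases eq_or_ne a i with rfl | hai
    · rw [Equiv.swap_apply_left]; exact hij.symm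
    rcases eq_or_ne a j with rfl | haj
    · rw [Equiv.swap_apply_right]; exact hij
    rw [Equiv.swap_apply_of_ne_of_ne hai haj]
  -- affine chart
  obtain ⟨U, hU, hzU, -⟩ := exists_isAffineOpen_mem_and_subset (x := q.base z) (U := (⊤ : Y.Opens)) trivial
  have hV : IsAffineOpen (q ⁻¹ᵁ U) := hU.preimage q
  haveI : Nonempty ↥(q ⁻¹ᵁ U).toScheme := ⟨⟨z, hzU⟩⟩
  let A₀ := Γ(Y, U)
  let B₀ := Γ(SymProd.fibPow f n, q ⁻¹ᵁ U)
  letI : Algebra A₀ B₀ := (q.app U).hom.toAlgebra
  haveI : Module.Finite A₀ B₀ := RingHom.finite_algebraMap.1 (q.finite_app U hU)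
  haveI : IsNoetherianRing A₀ := IsLocallyNoetherian.component_noetherian ⟨U, hU⟩
  haveI : IsNoetherianRing B₀ := IsNoetherianRing.of_finite A₀ B₀
  haveI : IsDomain B₀ := inferInstance
  haveI := isIntegrallyClosed_sections (isRegularLocalRing_stalk_fibPow (f := f)) hV
  have hinj₀ : Function.Injective (algebraMap A₀ B₀) := hq.isQuot.injective U
  let p₀ := hU.primeIdealOf ⟨q.base z, hzU⟩
  let m := hV.primeIdealOf ⟨z, hzU⟩
  let A := Localization.AtPrime p₀.asIdeal
  haveI : IsRegularLocalRing A := by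
    letI := Y.presheaf.algebra_section_stalk (U := U) ⟨q.base z, hzU⟩
    haveI := hU.isLocalization_stalk ⟨q.base z, hzU⟩
    exact IsRegularLocalRing.of_ringEquiv (IsLocalization.algEquiv p₀.asIdeal.primeCompl
      (Y.presheaf.stalk (q.base z)) A).toRingEquiv
  let B := A ⊗[A₀] B₀
  letI : Algebra B₀ B := Algebra.TensorProduct.rightAlgebra
  haveI hloc : IsLocalization (Algebra.algebraMapSubmonoid B₀ p₀.asIdeal.primeCompl) B :=
    IsLocalization.tensorRight (R := A₀) (S := B₀) (A := A) p₀.asIdeal.primeCompl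
  haveI : IsScalarTower A₀ B₀ B := IsScalarTower.of_algebraMap_eq fun x => by
    show algebraMap A₀ B x = (1 : A) ⊗ₜ[A₀] algebraMap A₀ B₀ x
    rw [Algebra.algebraMap_eq_smul_one (A := B₀), TensorProduct.tmul_smul, ← Algebra.TensorProduct.one_def,
      Algebra.algebraMap_eq_smul_one]
  have hM : Algebra.algebraMapSubmonoid B₀ p₀.asIdeal.primeCompl ≤ nonZeroDivisors B₀ := by
    rintro _ ⟨a, ha, rfl⟩
    exact mem_nonZeroDivisors_of_ne_zero ((map_ne_zero_iff _ hinj₀).2 fun e => ha (e ▸ zero_mem _))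
  haveI : IsDomain B := IsLocalization.isDomain_of_le_nonZeroDivisors B hM
  haveI : IsIntegrallyClosed B := isIntegrallyClosed_of_isLocalization (R := B₀) B _ hM
  have hinjA : Function.Injective (algebraMap A B) := by
    rw [injective_iff_map_eq_zero]
    intro x hx
    obtain ⟨a, t, rfl⟩ := IsLocalization.exists_mk'_eq p₀.asIdeal.primeCompl x
    rw [IsLocalization.mk'_eq_zero_iff]
    have h0 : algebraMap A₀ B a = 0 := by
      rw [IsScalarTower.algebraMap_apply A₀ A B, ← IsLocalization.mk'_spec A a t, map_mul, hx, zero_mul]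
    rw [IsScalarTower.algebraMap_apply A₀ B₀ B,
      map_eq_zero_iff _ (IsLocalization.injective B hM), map_eq_zero_iff _ hinj₀] at h0
    exact ⟨1, by simp [h0]⟩
  -- purity
  haveI : Algebra.Etale A B := by
    refine MiscTwoH99.etale_of_normal_of_codimOne hinjA fun Q hQ => ?_
    rw [Pi1Ext.formallyEtale_atPrime_comp (A := A₀) (B := B₀) p₀.asIdeal.primeCompl]
    let η : PrimeSpectrum B₀ := ⟨Q.asIdeal.comap (algebraMap B₀ B), inferInstance⟩
    refine isEtaleAt_of_etale q hU hV (freeLocus f n) η ?_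
    by_contra hη
    have h1 := (le_ringKrullDim_stalk d hη).trans_eq (VarDim.ringKrullDim_stalk_fromSpec hV η)
    have h2 : (d : ℕ∞) ≤ Order.height η := by exact_mod_cast h1
    have h3 : Order.height η ≤ Order.height (PrimeSpectrum.comap (algebraMap A₀ B₀) η) :=
      Order.height_le_height_apply_of_strictMono _ (VarDim.strictMono_comap_of_isIntegral) η
    have h4 : (η.asIdeal.comap (algebraMap A₀ B₀)).height ≤ 1 := by
      refine le_of_eq_of_le ?_ hQ
      rw [show η.asIdeal.comap (algebraMap A₀ B₀) = (Q.asIdeal.comap (algebraMap A B)).comap (algebraMap A₀ A) by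
        rw [Ideal.comap_comap, Ideal.comap_comap, ← IsScalarTower.algebraMap_eq, ← IsScalarTower.algebraMap_eq]]
      exact IsLocalization.height_comap p₀.asIdeal.primeCompl _
    rw [← PrimeSpectrum.height_eq_orderHeight (PrimeSpectrum.comap (algebraMap A₀ B₀) η)] at h3
    have h5 : (d : ℕ∞) ≤ 1 := h2.trans (h3.trans h4)
    have : d ≤ 1 := by exact_mod_cast h5
    omega
  -- the chart is étale at the point
  have hmp : m.asIdeal.comap (algebraMap A₀ B₀) = p₀.asIdeal := by
    ext a
    show algebraMap A₀ B₀ a ∈ m.asIdeal ↔ _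
    rw [mem_primeIdealOf_iff' hV hzU, mem_primeIdealOf_iff' hU hzU]
    rw [show (algebraMap A₀ B₀ a) = q.app U a from rfl, ← Scheme.preimage_basicOpen]
    rfl
  have hdisj : Disjoint (↑(Algebra.algebraMapSubmonoid B₀ p₀.asIdeal.primeCompl) : Set B₀) (m.asIdeal : Set B₀) := by
    rw [Set.disjoint_left]
    rintro _ ⟨a, ha, rfl⟩ hm
    exact ha (hmp ▸ hm)
  haveI := IsLocalization.isPrime_of_isPrime_disjoint _ B m.asIdeal m.2 hdisj
  have hetm : Algebra.IsEtaleAt A₀ m.asIdeal := by
    have h := (Pi1Ext.formallyEtale_atPrime_comp (A := A₀) (B := B₀) (A' := A) p₀.asIdeal.primeCompl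
      (m.asIdeal.map (algebraMap B₀ B))).mp (by
        have := (Algebra.etaleLocus_eq_univ_iff_etale (R := A) (A := B)).mpr inferInstance
        exact Set.eq_univ_iff_forall.mp this ⟨m.asIdeal.map (algebraMap B₀ B), inferInstance⟩)
    have e := IsLocalization.comap_map_of_isPrime_disjoint _ B m.2 hdisj
    have key : ∀ (I : Ideal B₀) [I.IsPrime], I = m.asIdeal → Algebra.IsEtaleAt A₀ I →
        Algebra.IsEtaleAt A₀ m.asIdeal := fun I _ hI hIe => by subst hI; exact hIe
    exact key _ e h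
  haveI : Algebra.FormallyUnramified A₀ (Localization.AtPrime m.asIdeal) :=
    haveI : Algebra.FormallyEtale A₀ (Localization.AtPrime m.asIdeal) := hetm
    inferInstance
  -- the transposition acts trivially on the chart
  have hinvσ : SymProd.permHom f n σ ≫ q = q := by
    have := hq.isQuot.inv (ULift.up σ)
    rwa [SymProd.permActU_hom] at this
  have hVσ : q ⁻¹ᵁ U ≤ (SymProd.permHom f n σ) ⁻¹ᵁ (q ⁻¹ᵁ U) := by
    rw [← Scheme.Hom.comp_preimage, hinvσ]
  let φ : B₀ →ₐ[A₀] B₀ :=
    { toRingHom := ((SymProd.permHom f n σ).appLE (q ⁻¹ᵁ U) (q ⁻¹ᵁ U) hVσ).hom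
      commutes' := fun a => by
        show (q.app U ≫ (SymProd.permHom f n σ).appLE (q ⁻¹ᵁ U) (q ⁻¹ᵁ U) hVσ) a = q.app U a
        rw [Scheme.Hom.app_eq_appLE, Scheme.Hom.appLE_comp_appLE]
        exact congrArg (fun r => r a) (appLE_congr_hom' hinvσ _ le_rfl) }
  have hφ : ∀ b, φ b - b ∈ m.asIdeal := by
    intro b
    rw [mem_primeIdealOf_iff' hV hzU]
    have hle : (⊤ : (Spec (CommRingCat.of k)).Opens) ≤ s ⁻¹ᵁ (q ⁻¹ᵁ U) := fun t _ => by
      show s.base t ∈ q ⁻¹ᵁ U
      rw [pointOfClosedPoint_apply]; exact hzU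
    intro hmem
    have h1 : ∀ c : B₀, (s.appLE (q ⁻¹ᵁ U) ⊤ hle).hom (φ c) = (s.appLE (q ⁻¹ᵁ U) ⊤ hle).hom c := fun c => by
      show ((SymProd.permHom f n σ).appLE (q ⁻¹ᵁ U) (q ⁻¹ᵁ U) hVσ ≫ s.appLE (q ⁻¹ᵁ U) ⊤ hle) c = _
      rw [Scheme.Hom.appLE_comp_appLE]
      exact congrArg (fun r => r c) (appLE_congr_hom' hs _ hle)
    have h2 : (IsLocalRing.closedPoint k : Spec (CommRingCat.of k)) ∈
        (Spec (CommRingCat.of k)).basicOpen ((s.appLE (q ⁻¹ᵁ U) ⊤ hle).hom (φ b - b)) := by
      rw [Scheme.basicOpen_appLE]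
      refine ⟨trivial, ?_⟩
      exact (congrArg (fun x => x ∈ (SymProd.fibPow f n).basicOpen (φ b - b)) (hsz _)).mpr hmem
    rw [map_sub, h1, sub_self, Scheme.basicOpen_zero] at h2
    exact h2.elim
  have hφid := algHom_eq_id_of_unramified m.asIdeal φ hφ
  -- a contradiction at the generic point
  have hfix : hV.fromSpec ≫ SymProd.permHom f n σ = hV.fromSpec := by
    rw [← IsAffineOpen.SpecMap_appLE_fromSpec (SymProd.permHom f n σ) hV hV hVσ]
    rw [show (SymProd.permHom f n σ).appLE (q ⁻¹ᵁ U) (q ⁻¹ᵁ U) hVσ = 𝟙 _ from CommRingCat.hom_ext (RingHom.ext hφid)]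
    rw [Spec.map_id, Category.id_comp]
  haveI := irreducibleSpace_fibPow (f := f) n
  obtain ⟨w, hw⟩ : genericPoint ↥(SymProd.fibPow f n) ∈ Set.range hV.fromSpec := by
    rw [hV.range_fromSpec]
    exact (genericPoint_spec _).mem_open_set_iff (q ⁻¹ᵁ U).isOpen |>.2 ⟨z, trivial, hzU⟩
  haveI : w.asIdeal.IsPrime := w.isPrime
  let K := AlgebraicClosure w.asIdeal.ResidueField
  let κ : Γ(SymProd.fibPow f n, q ⁻¹ᵁ U) →+* K :=
    (algebraMap w.asIdeal.ResidueField K).comp (algebraMap _ w.asIdeal.ResidueField)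
  have hσ1 : σ = 1 := by
    refine eq_one_of_fix (Spec.map (CommRingCat.ofHom κ) ≫ hV.fromSpec) (fun t => ?_) σ
      (by rw [Category.assoc, hfix])
    have ht : (Spec.map (CommRingCat.ofHom κ)).base t = w := by
      refine PrimeSpectrum.ext ?_
      show Ideal.comap κ (t : PrimeSpectrum K).asIdeal = w.asIdeal
      rw [(t : PrimeSpectrum K).asIdeal.eq_bot_or_top.resolve_right (t : PrimeSpectrum K).2.ne_top,
        ← RingHom.ker_eq_comap_bot, RingHom.ker_comp_of_injective _ (RingHom.injective _),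
        Ideal.ker_algebraMap_residueField]
    show hV.fromSpec.base ((Spec.map (CommRingCat.ofHom κ)).base t) ∈ _
    rw [ht]
    exact hw.symm ▸ genericPoint_mem_freeLocus (f := f) d (by omega)
  have := Equiv.congr_fun hσ1 i
  rw [show σ i = j from Equiv.swap_apply_left i j] at this
  exact hne this.symm

end Field

end Groth.Agent.SymProdLib
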