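import Groth.Prelude.Def_SymProd
import Groth.Prelude.Def_SymTen
import Mathlib.AlgebraicGeometry.AffineScheme
import Groth.Agent.GrpdLib.InvOpen

/-!
# Boxes in fibre powers are affine

For affine opens `V ⊆ S` and `U ⊆ f ⁻¹ V` the open `base ⁻¹ V ∩ ⋂ i, pr_i ⁻¹ U` of the fibre power is
`Spec` of the tensor power of `Γ(X, U)` over `Γ(S, V)`, compatibly with the permutations of the factors.
-/

set_option autoImplicit false
set_option linter.style.haveILetI false

universe u

open CategoryTheory CategoryTheory.Limits AlgebraicGeometry Opposite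
open scoped TensorProduct

namespace Groth.Agent.SymProdLib

theorem appLE_congr_hom {X Y : Scheme.{u}} {f g : X ⟶ Y} (h : f = g) {U : Y.Opens} {W : X.Opens}
    (e : W ≤ f ⁻¹ᵁ U) (e' : W ≤ g ⁻¹ᵁ U) : f.appLE U W e = g.appLE U W e' := by subst h; rfl

variable {X S : Scheme.{u}} (f : X ⟶ S) (d : ℕ)

/-- The open `base ⁻¹ V ∩ ⋂ i, pr_i ⁻¹ U` of the fibre power. -/
noncomputable def box (V : S.Opens) (U : X.Opens) : (SymProd.fibPow f d).Opens :=
  ⟨(WidePullback.base fun _ : Fin d => f).base ⁻¹' (V : Set S) ∩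
      ⋂ i : Fin d, (WidePullback.π (fun _ : Fin d => f) i).base ⁻¹' (U : Set X),
    (V.2.preimage (Scheme.Hom.continuous _)).inter
      (isOpen_iInter_of_finite fun _ => U.2.preimage (Scheme.Hom.continuous _))⟩

variable {f d} {V : S.Opens} {U : X.Opens}

theorem mem_box {x : ↥(SymProd.fibPow f d)} :
    x ∈ box f d V U ↔ (WidePullback.base fun _ : Fin d => f).base x ∈ V ∧
      ∀ i : Fin d, (WidePullback.π (fun _ : Fin d => f) i).base x ∈ U := by
  show x ∈ (_ ∩ _ : Set _) ↔ _
  simp

theorem box_le_base : box f d V U ≤ (WidePullback.base fun _ : Fin d => f) ⁻¹ᵁ V :=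
  fun _ hx => (mem_box.1 hx).1

theorem box_le_π (i : Fin d) : box f d V U ≤ (WidePullback.π (fun _ : Fin d => f) i) ⁻¹ᵁ U :=
  fun _ hx => (mem_box.1 hx).2 i

theorem f_π_apply (i : Fin d) (x : ↥(SymProd.fibPow f d)) :
    f.base ((WidePullback.π (fun _ : Fin d => f) i).base x) =
      (WidePullback.base fun _ : Fin d => f).base x := by
  rw [← Scheme.Hom.comp_apply, WidePullback.π_arrow]

theorem coe_box_of_pos (hd : 0 < d) (e : U ≤ f ⁻¹ᵁ V) :
    (box f d V U : Set ↥(SymProd.fibPow f d)) =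
      ⋂ i : Fin d, (WidePullback.π (fun _ : Fin d => f) i).base ⁻¹' (U : Set X) := by
  ext x
  simp only [SetLike.mem_coe, mem_box, Set.mem_iInter, Set.mem_preimage, and_iff_right_iff_imp]
  intro h
  rw [← f_π_apply ⟨0, hd⟩ x]
  exact e (h ⟨0, hd⟩)

theorem permHom_preimage_box (σ : Equiv.Perm (Fin d)) :
    (SymProd.permHom f d σ) ⁻¹ᵁ box f d V U = box f d V U := by
  refine TopologicalSpace.Opens.ext (Set.ext fun x => ?_)
  simp only [SetLike.mem_coe, Scheme.Hom.mem_preimage, mem_box, ← Scheme.Hom.comp_apply,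
    SymProd.permHom_π, SymProd.permHom_base]
  exact and_congr_right fun _ => ⟨fun h i => by simpa using h (σ i), fun h i => h _⟩

theorem box_le_perm (σ : Equiv.Perm (Fin d)) :
    box f d V U ≤ (SymProd.permHom f d σ) ⁻¹ᵁ box f d V U :=
  (permHom_preimage_box σ).ge

/-- The `i`-th projection on sections, as an algebra map. -/
noncomputable def projHom [Algebra Γ(S, V) Γ(X, U)] (e : U ≤ f ⁻¹ᵁ V)
    (halg : algebraMap Γ(S, V) Γ(X, U) = (f.appLE V U e).hom) (i : Fin d) :
    letI := ((WidePullback.base fun _ : Fin d => f).appLE V (box f d V U) box_le_base).hom.toAlgebra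
    Γ(X, U) →ₐ[Γ(S, V)] Γ(SymProd.fibPow f d, box f d V U) :=
  letI := ((WidePullback.base fun _ : Fin d => f).appLE V (box f d V U) box_le_base).hom.toAlgebra
  { ((WidePullback.π (fun _ : Fin d => f) i).appLE U (box f d V U) (box_le_π i)).hom with
    commutes' := fun r => by
      show ((WidePullback.π (fun _ : Fin d => f) i).appLE U (box f d V U) (box_le_π i)).hom
          (algebraMap Γ(S, V) Γ(X, U) r) = _
      rw [halg, ← RingHom.comp_apply, ← CommRingCat.hom_comp, Scheme.Hom.appLE_comp_appLE]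
      rw [appLE_congr_hom (WidePullback.π_arrow (fun _ : Fin d => f) i) _ box_le_base]
      rfl }

variable [Algebra Γ(S, V) Γ(X, U)] (e : U ≤ f ⁻¹ᵁ V)
  (halg : algebraMap Γ(S, V) Γ(X, U) = (f.appLE V U e).hom)

/-- The canonical map from the tensor power to the sections on the box. -/
noncomputable def boxHom :
    (⨂[Γ(S, V)] _ : Fin d, Γ(X, U)) →+* Γ(SymProd.fibPow f d, box f d V U) :=
  letI := ((WidePullback.base fun _ : Fin d => f).appLE V (box f d V U) box_le_base).hom.toAlgebra
  (PiTensorProduct.liftAlgHom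
    ((MultilinearMap.mkPiAlgebra Γ(S, V) (Fin d) Γ(SymProd.fibPow f d, box f d V U)).compLinearMap
      fun i => (projHom e halg i).toLinearMap)
    (by simp) (by intro x y; simp [Finset.prod_mul_distrib])).toRingHom

theorem boxHom_tprod (a : Fin d → Γ(X, U)) :
    boxHom e halg (PiTensorProduct.tprod Γ(S, V) a) =
      ∏ i, ((WidePullback.π (fun _ : Fin d => f) i).appLE U (box f d V U) (box_le_π i)).hom (a i) := by
  letI := ((WidePullback.base fun _ : Fin d => f).appLE V (box f d V U) box_le_base).hom.toAlgebra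
  show PiTensorProduct.lift _ (PiTensorProduct.tprod Γ(S, V) a) = _
  rw [PiTensorProduct.lift.tprod]
  rfl

theorem boxHom_algebraMap (r : Γ(S, V)) :
    boxHom e halg (algebraMap Γ(S, V) _ r) =
      ((WidePullback.base fun _ : Fin d => f).appLE V (box f d V U) box_le_base).hom r := by
  letI := ((WidePullback.base fun _ : Fin d => f).appLE V (box f d V U) box_le_base).hom.toAlgebra
  exact AlgHom.commutes _ r

theorem boxHom_single (i : Fin d) (a : Γ(X, U)) :
    boxHom e halg (PiTensorProduct.singleAlgHom (R := Γ(S, V)) (A := fun _ : Fin d => Γ(X, U)) i a) =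
      ((WidePullback.π (fun _ : Fin d => f) i).appLE U (box f d V U) (box_le_π i)).hom a := by
  rw [PiTensorProduct.singleAlgHom_apply, boxHom_tprod]
  rw [Finset.prod_eq_single i]
  · simp
  · intro j _ hj
    simp [Pi.mulSingle_eq_of_ne hj]
  · simp

theorem ringHom_ext {R A C : Type u} [CommRing R] [CommRing A] [Algebra R A] [CommRing C]
    {n : ℕ} (φ ψ : (⨂[R] _ : Fin n, A) →+* C) (h₀ : φ.comp (algebraMap R _) = ψ.comp (algebraMap R _))
    (h₁ : ∀ i a, φ (PiTensorProduct.singleAlgHom (R := R) (A := fun _ : Fin n => A) i a) =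
      ψ (PiTensorProduct.singleAlgHom (R := R) (A := fun _ : Fin n => A) i a)) : φ = ψ := by
  letI := (φ.comp (algebraMap R _)).toAlgebra
  let φ' : (⨂[R] _ : Fin n, A) →ₐ[R] C := { φ with commutes' := fun r => rfl }
  let ψ' : (⨂[R] _ : Fin n, A) →ₐ[R] C :=
    { ψ with commutes' := fun r => (RingHom.congr_fun h₀ r).symm }
  have : φ' = ψ' := PiTensorProduct.algHom_ext fun i => AlgHom.ext fun a => h₁ i a
  exact RingHom.ext fun x => AlgHom.congr_fun this x

include e in
theorem boxHom_perm (σ : Equiv.Perm (Fin d)) (t : ⨂[Γ(S, V)] _ : Fin d, Γ(X, U)) :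
    boxHom e halg (SymTen.perm Γ(S, V) Γ(X, U) d σ t) =
      ((SymProd.permHom f d σ⁻¹).appLE (box f d V U) (box f d V U) (box_le_perm _)).hom
        (boxHom e halg t) := by
  refine RingHom.congr_fun (ringHom_ext
    ((boxHom e halg).comp (SymTen.perm Γ(S, V) Γ(X, U) d σ).toRingHom)
    (((SymProd.permHom f d σ⁻¹).appLE (box f d V U) (box f d V U) (box_le_perm _)).hom.comp
      (boxHom e halg)) ?_ ?_) t
  · refine RingHom.ext fun r => ?_
    simp only [RingHom.comp_apply, AlgHom.toRingHom_eq_coe, RingHom.coe_coe, AlgHom.commutes,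
      boxHom_algebraMap]
    rw [← RingHom.comp_apply, ← CommRingCat.hom_comp, Scheme.Hom.appLE_comp_appLE]
    rw [appLE_congr_hom (SymProd.permHom_base f d σ⁻¹) _ box_le_base]
  · intro i a
    simp only [RingHom.comp_apply, AlgHom.toRingHom_eq_coe, RingHom.coe_coe, boxHom_single]
    have hs : SymTen.perm Γ(S, V) Γ(X, U) d σ
        (PiTensorProduct.singleAlgHom (R := Γ(S, V)) (A := fun _ : Fin d => Γ(X, U)) i a) =
        PiTensorProduct.singleAlgHom (R := Γ(S, V)) (A := fun _ : Fin d => Γ(X, U)) (σ i) a := by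
      simp only [PiTensorProduct.singleAlgHom_apply, SymTen.perm_tprod]
      congr 1
      funext j
      simp only [MonoidHom.mulSingle_apply, Pi.mulSingle_apply, Equiv.symm_apply_eq]
    rw [hs, boxHom_single, ← RingHom.comp_apply, ← CommRingCat.hom_comp, Scheme.Hom.appLE_comp_appLE]
    have h1 : SymProd.permHom f d σ⁻¹ ≫ WidePullback.π (fun _ : Fin d => f) i =
        WidePullback.π (fun _ : Fin d => f) (σ i) := SymProd.permHom_π f d σ⁻¹ i
    rw [appLE_congr_hom h1 _ (box_le_π _)]

variable (hV : IsAffineOpen V) (hU : IsAffineOpen U)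

/-- The map from the box to `Spec` of the tensor power. -/
noncomputable def toSpecBox : (box f d V U).toScheme ⟶ Spec (CommRingCat.of (⨂[Γ(S, V)] _ : Fin d, Γ(X, U))) :=
  (box f d V U).toSpecΓ ≫ Spec.map (CommRingCat.ofHom (boxHom e halg))

include hV in
theorem toSpecBox_base :
    toSpecBox e halg ≫ Spec.map (CommRingCat.ofHom (algebraMap Γ(S, V) _)) ≫ hV.fromSpec =
      (box f d V U).ι ≫ WidePullback.base fun _ : Fin d => f := by
  rw [toSpecBox, Category.assoc, ← Spec.map_comp_assoc]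
  have : CommRingCat.ofHom (algebraMap Γ(S, V) (⨂[Γ(S, V)] _ : Fin d, Γ(X, U))) ≫
      CommRingCat.ofHom (boxHom e halg) =
        (WidePullback.base fun _ : Fin d => f).appLE V (box f d V U) box_le_base :=
    CommRingCat.hom_ext (RingHom.ext fun r => boxHom_algebraMap e halg r)
  rw [this, Scheme.Opens.toSpecΓ_SpecMap_appLE_assoc, IsAffineOpen.toSpecΓ_fromSpec,
    Scheme.Hom.resLE_comp_ι]

include hU in
theorem toSpecBox_π (i : Fin d) :
    toSpecBox e halg ≫ Spec.map (CommRingCat.ofHom (PiTensorProduct.singleAlgHom (R := Γ(S, V))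
      (A := fun _ : Fin d => Γ(X, U)) i).toRingHom) ≫ hU.fromSpec =
      (box f d V U).ι ≫ WidePullback.π (fun _ : Fin d => f) i := by
  rw [toSpecBox, Category.assoc, ← Spec.map_comp_assoc]
  have : CommRingCat.ofHom (PiTensorProduct.singleAlgHom (R := Γ(S, V))
      (A := fun _ : Fin d => Γ(X, U)) i).toRingHom ≫ CommRingCat.ofHom (boxHom e halg) =
        (WidePullback.π (fun _ : Fin d => f) i).appLE U (box f d V U) (box_le_π i) :=
    CommRingCat.hom_ext (RingHom.ext fun a => boxHom_single e halg i a)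
  rw [this, Scheme.Opens.toSpecΓ_SpecMap_appLE_assoc, IsAffineOpen.toSpecΓ_fromSpec,
    Scheme.Hom.resLE_comp_ι]

/-- The map from `Spec` of the tensor power to the fibre power. -/
noncomputable def fromSpecBox (hV : IsAffineOpen V) (hU : IsAffineOpen U) (e : U ≤ f ⁻¹ᵁ V)
    (halg : algebraMap Γ(S, V) Γ(X, U) = (f.appLE V U e).hom) :
    Spec (CommRingCat.of (⨂[Γ(S, V)] _ : Fin d, Γ(X, U))) ⟶ SymProd.fibPow f d :=
  WidePullback.lift (Spec.map (CommRingCat.ofHom (algebraMap Γ(S, V) _)) ≫ hV.fromSpec)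
    (fun i => Spec.map (CommRingCat.ofHom (PiTensorProduct.singleAlgHom (R := Γ(S, V))
      (A := fun _ : Fin d => Γ(X, U)) i).toRingHom) ≫ hU.fromSpec)
    (fun i => by
      rw [Category.assoc, ← hV.SpecMap_appLE_fromSpec f hU e, ← Spec.map_comp_assoc]
      congr 2
      refine CommRingCat.hom_ext (RingHom.ext fun r => ?_)
      show (PiTensorProduct.singleAlgHom (R := Γ(S, V)) (A := fun _ : Fin d => Γ(X, U)) i)
        ((f.appLE V U e).hom r) = _
      rw [← halg, AlgHom.commutes]
      rfl)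

theorem range_fromSpecBox (p : Spec (CommRingCat.of (⨂[Γ(S, V)] _ : Fin d, Γ(X, U)))) :
    (fromSpecBox hV hU e halg).base p ∈ box f d V U := by
  rw [mem_box]
  refine ⟨?_, fun i => ?_⟩ <;> rw [← Scheme.Hom.comp_apply, fromSpecBox]
  · rw [WidePullback.lift_base, Scheme.Hom.comp_apply, ← SetLike.mem_coe, ← hV.range_fromSpec]
    exact ⟨_, rfl⟩
  · rw [WidePullback.lift_π, Scheme.Hom.comp_apply, ← SetLike.mem_coe, ← hU.range_fromSpec]
    exact ⟨_, rfl⟩

include hV hU in
theorem isIso_toSpecBox : IsIso (toSpecBox (d := d) e halg) := by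
  let ψ : Spec (CommRingCat.of (⨂[Γ(S, V)] _ : Fin d, Γ(X, U))) ⟶ (box f d V U).toScheme :=
    IsOpenImmersion.lift (box f d V U).ι (fromSpecBox hV hU e halg) (by
      rintro _ ⟨p, rfl⟩
      rw [Scheme.Opens.range_ι]
      exact range_fromSpecBox e halg hV hU p)
  have hψ : ψ ≫ (box f d V U).ι = fromSpecBox hV hU e halg := IsOpenImmersion.lift_fac _ _ _
  refine ⟨ψ, ?_, ?_⟩
  · rw [← cancel_mono (box f d V U).ι, Category.assoc, hψ, Category.id_comp]
    refine WidePullback.hom_ext _ _ _ (fun i => ?_) ?_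
    · rw [Category.assoc, fromSpecBox, WidePullback.lift_π, toSpecBox_π e halg hU i]
    · rw [Category.assoc, fromSpecBox, WidePullback.lift_base, toSpecBox_base e halg hV]
  · obtain ⟨φ, hφ⟩ := Spec.map_surjective (ψ ≫ toSpecBox e halg)
    have h0 : CommRingCat.ofHom (algebraMap Γ(S, V) (⨂[Γ(S, V)] _ : Fin d, Γ(X, U))) ≫ φ =
        CommRingCat.ofHom (algebraMap Γ(S, V) _) := by
      apply Spec.map_injective
      rw [← cancel_mono hV.fromSpec, Spec.map_comp, hφ, Category.assoc, Category.assoc,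
        toSpecBox_base e halg hV, reassoc_of% hψ, fromSpecBox, WidePullback.lift_base]
    have h1 : ∀ i, CommRingCat.ofHom (PiTensorProduct.singleAlgHom (R := Γ(S, V))
          (A := fun _ : Fin d => Γ(X, U)) i).toRingHom ≫ φ =
        CommRingCat.ofHom (PiTensorProduct.singleAlgHom (R := Γ(S, V))
          (A := fun _ : Fin d => Γ(X, U)) i).toRingHom := by
      intro i
      apply Spec.map_injective
      rw [← cancel_mono hU.fromSpec, Spec.map_comp, hφ, Category.assoc, Category.assoc,
        toSpecBox_π e halg hU i, reassoc_of% hψ, fromSpecBox, WidePullback.lift_π]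
    have : φ = 𝟙 _ := CommRingCat.hom_ext (ringHom_ext φ.hom (RingHom.id _)
      (RingHom.ext fun r => congr(($h0).hom r)) (fun i a => congr(($(h1 i)).hom a)))
    rw [← hφ, this, Spec.map_id]

omit [Algebra Γ(S, V) Γ(X, U)] in
include e hV hU in
/-- Boxes of affine opens are affine. -/
theorem isAffineOpen_box : IsAffineOpen (box f d V U) := by
  letI := (f.appLE V U e).hom.toAlgebra
  haveI := isIso_toSpecBox (d := d) e rfl hV hU
  exact IsAffine.of_isIso (toSpecBox (d := d) e rfl)

include hV hU in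
theorem boxHom_bijective : Function.Bijective (boxHom (d := d) e halg) := by
  haveI := isIso_toSpecBox (d := d) e halg hV hU
  have hW : IsAffineOpen (box f d V U) := IsAffine.of_isIso (toSpecBox (d := d) e halg)
  haveI : IsIso (box f d V U).toSpecΓ := by
    rw [show (box f d V U).toSpecΓ = hW.isoSpec.hom from rfl]; infer_instance
  have hc : IsIso ((box f d V U).toSpecΓ ≫ Spec.map (CommRingCat.ofHom (boxHom (d := d) e halg))) :=
    isIso_toSpecBox (d := d) e halg hV hU
  have h2 : IsIso (Spec.map (CommRingCat.ofHom (boxHom (d := d) e halg))) :=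
    IsIso.of_isIso_comp_left (box f d V U).toSpecΓ _
  exact isIso_SpecMap_iff.mp h2

/-- A finite set of points over one point lies in an affine open inside the preimage of a given affine open. -/
theorem exists_affine_containing (hAF : SymProd.IsAF f) {s : S} (hs : s ∈ V) (x : Fin d → X)
    (hx : ∀ i, f.base (x i) = s) : ∃ U : X.Opens, IsAffineOpen U ∧ U ≤ f ⁻¹ᵁ V ∧ ∀ i, x i ∈ U := by
  classical
  obtain ⟨U₀, hU₀, hmem⟩ := hAF s (Finset.univ.image x) (fun a ha => by
    obtain ⟨i, -, rfl⟩ := Finset.mem_image.1 ha; exact hx i)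
  obtain ⟨t, ht, htle⟩ := Groth.Agent.GrpdLib.exists_basicOpen_of_finite hU₀ (Set.finite_range x)
    (f ⁻¹ᵁ V) (fun a ⟨i, hi⟩ => hi ▸ hmem _ (Finset.mem_image_of_mem _ (Finset.mem_univ i)))
    (fun a ⟨i, hi⟩ => by subst hi; show f.base (x i) ∈ V; rw [hx i]; exact hs)
  exact ⟨X.basicOpen t, hU₀.basicOpen t, htle, fun i => ht ⟨i, rfl⟩⟩

end Groth.Agent.SymProdLib
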