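import Groth.Agent.SymProdLib.CurveRegular
import Groth.Agent.S10881

/-!
# Symmetric powers of a curve over an algebraically closed field: smoothness and flatness of the quotient
-/

set_option autoImplicit false
set_option linter.style.haveILetI false

universe u

open CategoryTheory CategoryTheory.Limits AlgebraicGeometry

namespace Groth.Agent.SymProdLib

variable {k : Type u} [Field k] [IsAlgClosed k] {X Y : Scheme.{u}} {f : X ⟶ Spec (CommRingCat.of k)}
  [IsProper f] [SmoothOfRelativeDimension 1 f]
  {n : ℕ} {q : SymProd.fibPow f n ⟶ Y} {g : Y ⟶ Spec (CommRingCat.of k)}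

theorem smooth_symProd_field (hAF : SymProd.IsAF f) (hq : SymProd.IsSymProd f n q g) : Smooth g := by
  obtain ⟨-, hgft, -⟩ := isFinite_quot hq
  haveI : LocallyOfFinitePresentation g := LocallyOfFinitePresentation.iff_locallyOfFiniteType.2 hgft
  rw [← Scheme.Hom.smoothLocus_eq_top_iff, eq_top_iff]
  intro y _
  obtain ⟨c, hyc, hc⟩ := VarDim.exists_closed_specialization g y
  exact hyc.mem_open g.smoothLocus.isOpen
    ((SmoothReg.mem_smoothLocus_iff_isRegularLocalRing g c).2 (isRegularLocalRing_stalk_closed hAF hq hc))

set_option maxHeartbeats 400000 in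
theorem flat_quot_field (hAF : SymProd.IsAF f) (hq : SymProd.IsSymProd f n q g) : Flat q := by
  obtain ⟨hqf, hgft, -⟩ := isFinite_quot hq
  haveI := isProper_base f n
  haveI := smoothOfRelativeDimension_base f n
  haveI : Finite (ULift.{u} (Equiv.Perm (Fin n))) := inferInstance
  set pb := WidePullback.base fun _ : Fin n => f with hpb
  haveI : Smooth pb := SmoothOfRelativeDimension.smooth n pb
  haveI : Smooth g := smooth_symProd_field hAF hq
  haveI : IsLocallyNoetherian (SymProd.fibPow f n) := LocallyOfFiniteType.isLocallyNoetherian pb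
  haveI : IsLocallyNoetherian Y := LocallyOfFiniteType.isLocallyNoetherian g
  have hle : ∀ w, VarDim.deg pb w ≤ n := fun w => by
    obtain ⟨η, hη, hmax⟩ := VarDim.exists_maximal_generalization pb w
    exact (VarDim.deg_le_of_specializes pb hη).trans_eq (deg_eq_of_maximal pb n hmax)
  refine Groth.Agent.S10881.result q
    (fun x => SmoothReg.isRegularLocalRing_stalk_of_mem_smoothLocus pb (by
      rw [(Scheme.Hom.smoothLocus_eq_top_iff (f := pb)).2 inferInstance]; trivial))
    (fun y => SmoothReg.isRegularLocalRing_stalk_of_mem_smoothLocus g (by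
      rw [(Scheme.Hom.smoothLocus_eq_top_iff (f := g)).2 inferInstance]; trivial)) ?_
  intro Z hZ
  have hg := hZ.1.isGenericPoint_genericPoint (isClosed_of_mem_irreducibleComponents Z hZ)
  set η := hZ.1.genericPoint with hη
  have hmax : ∀ z, z ⤳ η → z = η := fun z hz => by
    have h1 : Z ⊆ closure {z} := hg.def ▸ closure_minimal
      (Set.singleton_subset_iff.2 (specializes_iff_mem_closure.1 hz)) isClosed_closure
    have h2 : closure {z} ⊆ Z := hZ.2 isIrreducible_singleton.closure h1
    exact (hg.eq (le_antisymm h1 h2).symm).symm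
  have hdeg : VarDim.deg g (q.base η) = n := by
    have h := VarDim.deg_eq_add q g hq.over η
    rw [fdeg_eq_zero_of_finite q η, add_zero, deg_eq_of_maximal pb n hmax] at h
    exact h.symm
  have hqmax : ∀ z, z ⤳ q.base η → z = q.base η := fun z hz => by
    obtain ⟨w, rfl⟩ := SGA1Q.surjective hq.isQuot z
    exact VarDim.eq_of_specializes_of_deg_le g hz
      ((VarDim.deg_map_le q g hq.over w).trans ((hle w).trans hdeg.ge))
  rw [show closure (q.base '' Z) = closure {q.base η} by
    rw [← hg.def, closure_image_closure q.continuous, Set.image_singleton]]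
  refine ⟨isIrreducible_singleton.closure, fun T hT hTle => ?_⟩
  have hT' := (hT.closure).isGenericPoint_genericPoint isClosed_closure
  have hspec : hT.closure.genericPoint ⤳ q.base η :=
    hT'.specializes (subset_closure (hTle (subset_closure rfl)))
  have h3 : closure T = closure {q.base η} := by rw [← hT'.def, hqmax _ hspec]
  exact h3 ▸ subset_closure

end Groth.Agent.SymProdLib
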