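import Groth.Agent.SymProdLib.CurveRank
import Groth.Agent.S4871
import Groth.Agent.GrpSchLib.SmoothReduced
import Groth.Agent.SchDenseLib.FlatNoeth
import Mathlib.AlgebraicGeometry.Fiber

/-!
# The coincidence-free locus of a fibre power of a curve is schematically dense
-/

set_option autoImplicit false
set_option linter.style.haveILetI false

universe u

open CategoryTheory CategoryTheory.Limits AlgebraicGeometry

namespace Groth.Agent.SymProdLib

/-- On a reduced scheme a dense open is schematically dense. -/
theorem isSchematicallyDense_of_isReduced {Z : Scheme.{u}} [IsReduced Z] {U : Z.Opens}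
    (h : Dense (U : Set Z)) : CInt.IsSchematicallyDense U := by
  rw [SchDenseLib.iff_eq_zero]
  intro V s hs
  refine (AlgebraicGeometry.basicOpen_eq_bot_iff s).1 ?_
  by_contra hne
  obtain ⟨z, hz⟩ : (Z.basicOpen s : Set Z).Nonempty :=
    Set.nonempty_iff_ne_empty.2 fun he => hne (TopologicalSpace.Opens.ext he)
  obtain ⟨w, hw, hwU⟩ := h.inter_open_nonempty _ (Z.basicOpen s).isOpen ⟨z, hz⟩
  have : w ∈ Z.basicOpen (Z.presheaf.map (homOfLE (inf_le_left : V ⊓ U ≤ V)).op s) := by
    rw [Scheme.basicOpen_res]
    exact ⟨⟨Z.basicOpen_le s hw, hwU⟩, hw⟩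
  rw [hs, Scheme.basicOpen_zero] at this
  exact this.elim

section Pairs

variable {X S : Scheme.{u}} {f : X ⟶ S} [IsSeparated f] {n : ℕ}

theorem pairπ_mem_range_iff (x : ↥(SymProd.fibPow f n)) (i j : Fin n) :
    (pairπ f n i j).base x ∈ Set.range (pullback.diagonal f).base ↔
      (SymProd.fibPow f n).fromSpecResidueField x ≫ WidePullback.π (fun _ : Fin n => f) i =
        (SymProd.fibPow f n).fromSpecResidueField x ≫ WidePullback.π (fun _ : Fin n => f) j := by
  set ξ := (SymProd.fibPow f n).fromSpecResidueField x with hξ
  constructor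
  · rintro ⟨z, hz⟩
    have hrange : Set.range (ξ ≫ pairπ f n i j).base ⊆ Set.range (pullback.diagonal f).base := by
      rintro _ ⟨w, rfl⟩
      refine ⟨z, hz.trans ?_⟩
      rw [Scheme.Hom.comp_apply, hξ, Scheme.fromSpecResidueField_apply]
    obtain ⟨l, hl⟩ := H23.RedSub.exists_lift_closed (ξ ≫ pairπ f n i j) (pullback.diagonal f) hrange
    have e1 := congrArg (· ≫ pullback.fst f f) hl
    have e2 := congrArg (· ≫ pullback.snd f f) hl
    simp only [pairπ, Category.assoc, pullback.lift_fst, pullback.lift_snd, pullback.diagonal_fst,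
      pullback.diagonal_snd] at e1 e2
    exact e1.symm.trans e2
  · intro h
    let w : Spec ((SymProd.fibPow f n).residueField x) :=
      IsLocalRing.closedPoint ((SymProd.fibPow f n).residueField x)
    have h2 : ξ ≫ pairπ f n i j = (ξ ≫ WidePullback.π (fun _ : Fin n => f) i) ≫ pullback.diagonal f := by
      refine pullback.hom_ext ?_ ?_
      · rw [pairπ, Category.assoc, pullback.lift_fst, Category.assoc, pullback.diagonal_fst, Category.comp_id]
      · rw [pairπ, Category.assoc, pullback.lift_snd, Category.assoc, pullback.diagonal_snd, Category.comp_id]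
        exact h.symm
    refine ⟨(ξ ≫ WidePullback.π (fun _ : Fin n => f) i).base w, ?_⟩
    refine (congrArg (fun φ : Spec ((SymProd.fibPow f n).residueField x) ⟶ pullback f f => φ.base w) h2).symm.trans ?_
    show (pairπ f n i j).base (ξ.base w) = _
    rw [hξ, Scheme.fromSpecResidueField_apply]

theorem map_mem_freeLocus {S' : Scheme.{u}} {b : S' ⟶ S}
    (c : SymProd.fibPow (pullback.snd f b) n ⟶ SymProd.fibPow f n)
    (hcπ : ∀ i : Fin n, c ≫ WidePullback.π (fun _ => f) i =
      WidePullback.π (fun _ => pullback.snd f b) i ≫ pullback.fst f b)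
    {z : ↥(SymProd.fibPow (pullback.snd f b) n)} (hz : z ∈ freeLocus (pullback.snd f b) n) :
    c.base z ∈ freeLocus f n := by
  rw [mem_freeLocus] at hz ⊢
  intro i j hij hmem
  rw [pairπ_mem_range_iff] at hmem
  refine hz i j hij ((pairπ_mem_range_iff z i j).2 (pullback.hom_ext ?_ ?_))
  · have h := congrArg (fun φ => Spec.map (c.residueFieldMap z) ≫ φ) hmem
    simp only [Scheme.Hom.SpecMap_residueFieldMap_fromSpecResidueField_assoc, hcπ] at h
    simpa only [Category.assoc] using h
  · simp only [Category.assoc, WidePullback.π_arrow]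

end Pairs

variable {X S : Scheme.{u}} {f : X ⟶ S} [IsProper f] [SmoothOfRelativeDimension 1 f] {n : ℕ}

/-- The fibres of the coincidence-free locus are dense in the fibres of the fibre power. -/
theorem dense_freeLocus_fibre (s : S) :
    Dense (((WidePullback.base fun _ : Fin n => f).fiberι s ⁻¹ᵁ freeLocus f n :
      ((WidePullback.base fun _ : Fin n => f).fiber s).Opens) :
      Set ↥((WidePullback.base fun _ : Fin n => f).fiber s)) := by
  haveI : MorphismProperty.IsStableUnderBaseChange (@SmoothOfRelativeDimension.{u} 1) :=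
    smoothOfRelativeDimension_isStableUnderBaseChange 1
  let b := S.fromSpecResidueField s
  haveI : SmoothOfRelativeDimension 1 (pullback.snd f b) :=
    MorphismProperty.of_isPullback (IsPullback.of_hasPullback f b) inferInstance
  haveI := isProper_base f n
  set pb := WidePullback.base fun _ : Fin n => f with hpb
  let c : SymProd.fibPow (pullback.snd f b) n ⟶ SymProd.fibPow f n :=
    WidePullback.lift (WidePullback.base (fun _ : Fin n => pullback.snd f b) ≫ b)
      (fun i => WidePullback.π (fun _ : Fin n => pullback.snd f b) i ≫ pullback.fst f b)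
      (fun i => by rw [Category.assoc, pullback.condition, WidePullback.π_arrow_assoc])
  have hcπ : ∀ i : Fin n, c ≫ WidePullback.π (fun _ => f) i =
      WidePullback.π (fun _ => pullback.snd f b) i ≫ pullback.fst f b := fun i =>
    WidePullback.lift_π (fun _ : Fin n => f) _ _ _ i
  have hcb : c ≫ WidePullback.base (fun _ => f) = WidePullback.base (fun _ => pullback.snd f b) ≫ b :=
    WidePullback.lift_base (fun _ : Fin n => f) _ _ _
  have hPB := isPullback_fibPow b c hcπ hcb
  let e := hPB.isoPullback
  intro z
  obtain ⟨η, hη, hmax⟩ := VarDim.exists_maximal_generalization (k := S.residueField s)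
    (pb.fiberToSpecResidueField s) z
  refine (hη.mem_closed isClosed_closure) (subset_closure ?_)
  show (pb.fiberι s).base η ∈ freeLocus f n
  obtain ⟨η', rfl⟩ := e.hom.homeomorph.surjective η
  have h1 : (pb.fiberι s).base (e.hom.base η') = c.base η' :=
    congrArg (fun φ : SymProd.fibPow (pullback.snd f b) n ⟶ SymProd.fibPow f n => φ.base η') hPB.isoPullback_hom_fst
  refine h1 ▸ map_mem_freeLocus c hcπ (mem_freeLocus_of_maximal (k := S.residueField s) fun w hw => ?_)
  exact e.hom.homeomorph.injective (hmax _ (hw.map e.hom.continuous))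

/-- The coincidence-free locus is schematically dense. -/
theorem isSchematicallyDense_freeLocus [IsLocallyNoetherian S] :
    CInt.IsSchematicallyDense (freeLocus f n) := by
  haveI := isProper_base f n
  haveI := smoothOfRelativeDimension_base f n
  set pb := WidePullback.base fun _ : Fin n => f with hpb
  haveI : Smooth pb := SmoothOfRelativeDimension.smooth n pb
  have hfib : ∀ s : S, CInt.IsSchematicallyDense ((pb.fiberι s) ⁻¹ᵁ freeLocus f n) := fun s => by
    haveI : Smooth (pb.fiberToSpecResidueField s) := MorphismProperty.of_isPullback (P := @Smooth) (IsPullback.of_hasPullback pb (S.fromSpecResidueField s)) inferInstance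
    haveI : IsReduced (pb.fiber s) :=
      GrpSchLib.isReduced_of_smooth_field (K := S.residueField s) (pb.fiberToSpecResidueField s)
    exact isSchematicallyDense_of_isReduced (dense_freeLocus_fibre s)
  have h := (Groth.Agent.S4871.result pb (freeLocus f n)).2 hfib S (𝟙 S)
  let i : SymProd.fibPow f n ⟶ pullback pb (𝟙 S) := inv (pullback.fst pb (𝟙 S))
  have h2 := SchDenseLib.preimage_of_isLocallyNoetherian i _ h
  have he : i ⁻¹ᵁ (pullback.fst pb (𝟙 S) ⁻¹ᵁ freeLocus f n) = freeLocus f n := by
    rw [← Scheme.Hom.comp_preimage, IsIso.inv_hom_id]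
    rfl
  exact he ▸ h2

end Groth.Agent.SymProdLib
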