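import Groth.Agent.Grass60.CurveSum
import Mathlib.RingTheory.Flat.LocallyFree
import Mathlib.AlgebraicGeometry.Morphisms.IsIso

/-!
# Degrees of finite flat morphisms: composition and comparison
-/

set_option autoImplicit false
set_option linter.style.haveILetI false

universe u

open CategoryTheory CategoryTheory.Limits AlgebraicGeometry TensorProduct

namespace Groth.Agent.SymProdLib

theorem finrank_tower (K A B : Type u) [Field K] [CommRing A] [CommRing B] [Algebra K A] [Algebra A B] [Algebra K B]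
    [IsScalarTower K A B] [Module.Finite K A] [Module.Finite A B] [Module.Flat A B] (m : ℕ)
    (hm : ∀ p : PrimeSpectrum A, Module.rankAtStalk (R := A) B p = m) :
    Module.finrank K B = Module.finrank K A * m := by
  rcases subsingleton_or_nontrivial A with hA | hA
  · have : Subsingleton B := Module.subsingleton A B
    rw [Module.finrank_zero_of_subsingleton, Module.finrank_zero_of_subsingleton, zero_mul]
  haveI : IsArtinianRing A := .of_finite K A
  have hfree : Module.Free A B := Module.free_of_flat_of_finrank_eq A B m fun P => by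
    haveI := P.isMaximal
    letI := Ideal.Quotient.field P.asIdeal
    obtain ⟨q⟩ : Nonempty (PrimeSpectrum (A ⧸ P.asIdeal)) := inferInstance
    have h := Module.rankAtStalk_baseChange (R := A) (M := B) q
    rw [Module.rankAtStalk_eq_finrank_of_free, hm] at h
    exact h
  have h2 := Module.rankAtStalk_eq_finrank_of_free (R := A) (M := B)
  obtain ⟨p⟩ : Nonempty (PrimeSpectrum A) := inferInstance
  rw [← Module.finrank_mul_finrank K A B, ← hm p, h2]
  rfl

theorem finrank_comp_field {K : Type u} [Field K] {Z W : Scheme.{u}} (a : Z ⟶ W) (b : W ⟶ Spec (CommRingCat.of K))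
    [IsFinite a] [Flat a] [IsFinite b] [Flat b] (m : ℕ) (ha : ∀ w, a.finrank w = m)
    (t : Spec (CommRingCat.of K)) : (a ≫ b).finrank t = b.finrank t * m := by
  haveI : IsAffine W := isAffine_of_isAffineHom b
  haveI : IsAffine Z := isAffine_of_isAffineHom a
  obtain ⟨β, hβ⟩ := Spec.map_surjective (W.isoSpec.inv ≫ b)
  obtain ⟨α, hα⟩ := Spec.map_surjective (Z.isoSpec.inv ≫ a ≫ W.isoSpec.hom)
  have hb : b = W.isoSpec.hom ≫ Spec.map β := by rw [hβ, Iso.hom_inv_id_assoc]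
  have hab : a ≫ b = Z.isoSpec.hom ≫ Spec.map (β ≫ α) := by
    rw [Spec.map_comp, hα, hβ]; simp
  have haw : ∀ w, (Spec.map α).finrank w = m := fun w => by
    rw [hα, Scheme.Hom.finrank_comp_left_of_isIso]
    obtain ⟨w', rfl⟩ := W.isoSpec.hom.surjective w
    rw [← Scheme.Hom.finrank_of_isPullback (𝟙 Z) a (a ≫ W.isoSpec.hom) W.isoSpec.hom
      (IsPullback.of_horiz_isIso ⟨by simp⟩) w', ha]
  haveI j1 : IsFinite (Spec.map β) := by rw [hβ]; infer_instance
  haveI j2 : Flat (Spec.map β) := by rw [hβ]; infer_instance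
  haveI j3 : IsFinite (Spec.map α) := by rw [hα]; infer_instance
  haveI j4 : Flat (Spec.map α) := by rw [hα]; infer_instance
  have i1 := (IsFinite.SpecMap_iff _).1 j1
  have i3 := (IsFinite.SpecMap_iff _).1 j3
  have i4 := Flat.SpecMap_iff.1 j4
  letI := β.hom.toAlgebra
  letI := α.hom.toAlgebra
  letI : Algebra K Γ(Z, ⊤) := (β ≫ α).hom.toAlgebra
  haveI : IsScalarTower K Γ(W, ⊤) Γ(Z, ⊤) := IsScalarTower.of_algebraMap_eq' rfl
  haveI : Module.Finite K Γ(W, ⊤) := RingHom.finite_algebraMap.1 i1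
  haveI : Module.Finite Γ(W, ⊤) Γ(Z, ⊤) := RingHom.finite_algebraMap.1 i3
  haveI : Module.Flat Γ(W, ⊤) Γ(Z, ⊤) := RingHom.flat_algebraMap_iff.1 i4
  haveI : Module.Finite K Γ(Z, ⊤) := Module.Finite.trans Γ(W, ⊤) _
  have e1 : (Spec.map β).finrank t = Module.finrank K Γ(W, ⊤) :=
    (Scheme.Hom.finrank_SpecMap_algebraMap K Γ(W, ⊤) t).trans
      (by rw [Module.rankAtStalk_eq_finrank_of_free]; rfl)
  have e2 : (Spec.map (β ≫ α)).finrank t = Module.finrank K Γ(Z, ⊤) :=
    (Scheme.Hom.finrank_SpecMap_algebraMap K Γ(Z, ⊤) t).trans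
      (by rw [Module.rankAtStalk_eq_finrank_of_free]; rfl)
  haveI : IsFinite (Spec.map (β ≫ α)) := by rw [Spec.map_comp]; infer_instance
  haveI : Flat (Spec.map (β ≫ α)) := by rw [Spec.map_comp]; infer_instance
  rw [hab, hb, Scheme.Hom.finrank_comp_left_of_isIso, Scheme.Hom.finrank_comp_left_of_isIso, e1, e2]
  refine finrank_tower K _ _ m fun p => ?_
  rw [← Scheme.Hom.finrank_SpecMap_algebraMap]
  exact haw p

/-- Degrees multiply. -/
theorem finLocFreeOfDeg_comp {Z W T : Scheme.{u}} {a : Z ⟶ W} {b : W ⟶ T} {m k : ℕ}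
    (ha : Mor2.IsFinLocFreeOfDeg m a) (hb : Mor2.IsFinLocFreeOfDeg k b) :
    Mor2.IsFinLocFreeOfDeg (k * m) (a ≫ b) := by
  obtain ⟨⟨a1, a2, a3⟩, a4⟩ := ha
  obtain ⟨⟨b1, b2, b3⟩, b4⟩ := hb
  refine ⟨⟨inferInstance, inferInstance, inferInstance⟩, fun y => ?_⟩
  let ι := T.fromSpecResidueField y
  let t : Spec (T.residueField y) := default
  have hι : ι t = y := T.fromSpecResidueField_apply y _
  have h₁ := IsPullback.of_hasPullback b ι
  have h₂ := IsPullback.of_hasPullback a (pullback.fst b ι)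
  have h := h₂.paste_vert h₁
  haveI : IsFinite (pullback.snd a (pullback.fst b ι)) := MorphismProperty.of_isPullback (P := @IsFinite) h₂ a1
  haveI : Flat (pullback.snd a (pullback.fst b ι)) := MorphismProperty.of_isPullback (P := @Flat) h₂ a2
  haveI : IsFinite (pullback.snd b ι) := MorphismProperty.of_isPullback (P := @IsFinite) h₁ b1
  haveI : Flat (pullback.snd b ι) := MorphismProperty.of_isPullback (P := @Flat) h₁ b2
  have hkey := finrank_comp_field (K := T.residueField y) (pullback.snd a (pullback.fst b ι)) (pullback.snd b ι) m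
    (fun w => by rw [Scheme.Hom.finrank_pullback_snd]; exact a4 _) t
  rw [← hι, ← Scheme.Hom.finrank_of_isPullback _ _ _ _ h t, hkey, Scheme.Hom.finrank_pullback_snd, b4]

set_option backward.isDefEq.respectTransparency false in
/-- A closed immersion between finite flat schemes of the same degree is an isomorphism. -/
theorem isIso_of_deg_eq {P Q T : Scheme.{u}} (v : P ⟶ Q) [IsClosedImmersion v] (π : Q ⟶ T) {d : ℕ}
    (hP : Mor2.IsFinLocFreeOfDeg d (v ≫ π)) (hQ : Mor2.IsFinLocFreeOfDeg d π) : IsIso v := by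
  obtain ⟨⟨a1, a2, a3⟩, a4⟩ := hP
  obtain ⟨⟨b1, b2, b3⟩, b4⟩ := hQ
  have hW : ∀ W : T.affineOpens, IsIso (v ∣_ π ⁻¹ᵁ W.1) := fun W => by
    have hU : IsAffineOpen (π ⁻¹ᵁ W.1) := W.2.preimage π
    have hV : IsAffineOpen (v ⁻¹ᵁ π ⁻¹ᵁ W.1) := hU.preimage v
    letI := (π.app W.1).hom.toAlgebra
    letI : Algebra Γ(T, W.1) Γ(P, v ⁻¹ᵁ π ⁻¹ᵁ W.1) := ((v ≫ π).app W.1).hom.toAlgebra
    haveI : Module.Finite Γ(T, W.1) Γ(Q, π ⁻¹ᵁ W.1) := RingHom.finite_algebraMap.1 (π.finite_app W.1 W.2)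
    haveI : Module.Finite Γ(T, W.1) Γ(P, v ⁻¹ᵁ π ⁻¹ᵁ W.1) :=
      RingHom.finite_algebraMap.1 ((v ≫ π).finite_app W.1 W.2)
    haveI : Module.Flat Γ(T, W.1) Γ(Q, π ⁻¹ᵁ W.1) := RingHom.flat_algebraMap_iff.1 (by
      have := π.flat_appLE W.2 hU le_rfl
      rwa [← Scheme.Hom.app_eq_appLE] at this)
    haveI : Module.Flat Γ(T, W.1) Γ(P, v ⁻¹ᵁ π ⁻¹ᵁ W.1) := RingHom.flat_algebraMap_iff.1 (by
      have hV' : IsAffineOpen ((v ≫ π) ⁻¹ᵁ W.1) := hV
      have := (v ≫ π).flat_appLE W.2 hV' le_rfl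
      rw [← Scheme.Hom.app_eq_appLE] at this
      exact this)
    let φ : Γ(Q, π ⁻¹ᵁ W.1) →ₐ[Γ(T, W.1)] Γ(P, v ⁻¹ᵁ π ⁻¹ᵁ W.1) :=
      { toRingHom := (v.app (π ⁻¹ᵁ W.1)).hom
        commutes' := fun r => rfl }
    haveI : IsAffine (π ⁻¹ᵁ W.1).toScheme := hU
    have hs : Function.Surjective φ := v.app_surjective _ hU
    have hb : Function.Bijective φ.toLinearMap := by
      refine Module.bijective_of_surjective_of_rankAtStalk_eq (φ := φ.toLinearMap) hs fun p _ => ?_
      obtain ⟨⟨y, hy⟩, hyp⟩ : ∃ y : W.1, W.2.primeIdealOf y = (⟨p, inferInstance⟩ : PrimeSpectrum _) := by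
        refine ⟨⟨W.2.fromSpec ⟨p, inferInstance⟩, ?_⟩, ?_⟩
        · rw [← SetLike.mem_coe, ← W.2.range_fromSpec]; exact ⟨_, rfl⟩
        · haveI := W.2.isOpenImmersion_fromSpec
          apply W.2.fromSpec.isOpenEmbedding.injective
          exact W.2.fromSpec_primeIdealOf _
      have e1 := Grass60.CurveDiv.finrank_eq_rankAtStalk π W.2 y hy
      have e2 := Grass60.CurveDiv.finrank_eq_rankAtStalk (v ≫ π) W.2 y hy
      rw [b4, hyp] at e1
      rw [a4, hyp] at e2
      exact e1.symm.trans e2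
    haveI : IsAffine (v ⁻¹ᵁ π ⁻¹ᵁ W.1).toScheme := hV
    haveI : IsIso (v.app (π ⁻¹ᵁ W.1)) := (ConcreteCategory.isIso_iff_bijective _).2 hb
    have : IsIso (v ∣_ π ⁻¹ᵁ W.1).appTop := by
      rw [morphismRestrict_appTop]
      have h : IsIso (v.app ((π ⁻¹ᵁ W.1).ι ''ᵁ ⊤)) := by rw [Scheme.Opens.ι_image_top]; assumption
      exact IsIso.comp_isIso' h inferInstance
    exact (HasAffineProperty.iff_of_isAffine (P := MorphismProperty.isomorphisms Scheme.{u})
      (f := v ∣_ π ⁻¹ᵁ W.1)).2 ⟨inferInstance, this⟩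
  exact IsZariskiLocalAtTarget.of_iSup_eq_top (P := MorphismProperty.isomorphisms Scheme.{u})
    (fun W : T.affineOpens => π ⁻¹ᵁ W.1)
    (top_le_iff.1 fun x _ => by
      obtain ⟨_, ⟨W, hW', rfl⟩, hxW, -⟩ := T.isBasis_affineOpens.exists_subset_of_mem_open
        (Set.mem_univ (π.base x)) isOpen_univ
      exact TopologicalSpace.Opens.mem_iSup.2 ⟨⟨W, hW'⟩, hxW⟩) hW

end Groth.Agent.SymProdLib
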