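import Groth.Agent.SymProdLib.FinFlatDeg
import Groth.Agent.Grass60.CurveSplit

/-!
# The scheme of orderings of a relative divisor
-/

set_option autoImplicit false
set_option linter.style.haveILetI false

universe u

open CategoryTheory CategoryTheory.Limits AlgebraicGeometry

namespace Groth.Agent.SymProdLib

/-- The section of `X ×_S U ⟶ U` through a `U`-point of `X`. -/
noncomputable abbrev ptSec {X S U : Scheme.{u}} (p : X ⟶ S) (ψ : U ⟶ S) (τ : U ⟶ X) (h : τ ≫ p = ψ) :
    U ⟶ pullback p ψ :=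
  pullback.lift τ (𝟙 U) (by rw [h, Category.id_comp])

theorem isClosedImmersion_ptSec {X S U : Scheme.{u}} (p : X ⟶ S) [IsSeparated p] (ψ : U ⟶ S) (τ : U ⟶ X)
    (h : τ ≫ p = ψ) : IsClosedImmersion (ptSec p ψ τ h) := by
  haveI : IsClosedImmersion (ptSec p ψ τ h ≫ pullback.snd p ψ) := by rw [pullback.lift_snd]; infer_instance
  exact IsClosedImmersion.of_comp _ (pullback.snd p ψ)

set_option maxHeartbeats 1000000 in
/-- Orderings of a divisor of degree `n` on a separated smooth relative curve form a finite locally free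
scheme of degree `n!`. -/
theorem exists_orderings (n : ℕ) : ∀ {X S : Scheme.{u}} (p : X ⟶ S) [SmoothOfRelativeDimension 1 p]
    [IsSeparated p] (I : X.IdealSheafData), Mor2.IsFinLocFreeOfDeg n (I.subschemeι ≫ p) →
    ∃ (K : Scheme.{u}) (π : K ⟶ S) (σ : Fin n → (K ⟶ X)), Mor2.IsFinLocFreeOfDeg n.factorial π ∧
      (∀ i, σ i ≫ p = π) ∧
      ∀ (U : Scheme.{u}) (ψ : U ⟶ S) (τ : Fin n → (U ⟶ X)) (hτ : ∀ i, τ i ≫ p = ψ),
        I.comap (pullback.fst p ψ) = ∏ i, (ptSec p ψ (τ i) (hτ i)).ker →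
          ∃ v : U ⟶ K, v ≫ π = ψ ∧ ∀ i, v ≫ σ i = τ i := by
  induction n with
  | zero =>
    intro X S p _ _ I _
    refine ⟨S, 𝟙 S, Fin.elim0, ⟨⟨inferInstance, inferInstance, inferInstance⟩, fun y => ?_⟩, fun i => i.elim0,
      fun U ψ τ hτ _ => ⟨ψ, Category.comp_id ψ, fun i => i.elim0⟩⟩
    rw [Scheme.Hom.finrank_eq_one_of_isIso]; rfl
  | succ n ih =>
    intro X S p _ _ I hI
    let b₁ := I.subschemeι ≫ p
    let q₁ := pullback.fst p b₁
    let p₁ := pullback.snd p b₁
    haveI : SmoothOfRelativeDimension 1 p₁ :=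
      (smoothOfRelativeDimension_isStableUnderBaseChange 1).of_isPullback (IsPullback.of_hasPullback p b₁) inferInstance
    let t₀ := ptSec p b₁ I.subschemeι rfl
    haveI := isClosedImmersion_ptSec p b₁ I.subschemeι rfl
    have h1 : Mor2.IsFinLocFreeOfDeg 1 (t₀.ker.subschemeι ≫ p₁) := by
      rw [HilbDLib.finLocFreeOfDeg_ker, pullback.lift_snd]
      exact ⟨⟨inferInstance, inferInstance, inferInstance⟩, fun y => by
        rw [Scheme.Hom.finrank_eq_one_of_isIso]; rfl⟩
    have hle : I.comap q₁ ≤ t₀.ker := by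
      rw [← Scheme.IdealSheafData.le_map_iff_comap_le, Scheme.IdealSheafData.map_ker, pullback.lift_fst,
        Scheme.IdealSheafData.ker_subschemeι]
    obtain ⟨R, hR, hIR⟩ := Grass60.CurveDiv.exists_difference p₁ t₀.ker (I.comap q₁) hle h1
      (Grass60.CurveSplit.finLocFreeOfDeg_comap (IsPullback.of_hasPullback p b₁) I hI)
    rw [Nat.add_sub_cancel] at hR
    obtain ⟨K, π, σ, hπ, hσ, huniv⟩ := ih p₁ R hR
    refine ⟨K, π ≫ b₁, Fin.cons (π ≫ I.subschemeι) (fun i => σ i ≫ q₁),
      finLocFreeOfDeg_comp hπ hI, fun i => ?_, fun U ψ τ hτ hU => ?_⟩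
    · refine Fin.cases ?_ (fun j => ?_) i
      · rw [Fin.cons_zero, Category.assoc]
      · rw [Fin.cons_succ, Category.assoc, show q₁ ≫ p = p₁ ≫ b₁ from pullback.condition, ← Category.assoc, hσ j]
    -- the point of the divisor given by the first section
    haveI := fun i => isClosedImmersion_ptSec p ψ (τ i) (hτ i)
    have hI0 : I.subschemeι.ker ≤ (τ 0).ker := by
      rw [Scheme.IdealSheafData.ker_subschemeι,
        show τ 0 = ptSec p ψ (τ 0) (hτ 0) ≫ pullback.fst p ψ from (pullback.lift_fst _ _ _).symm,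
        ← Scheme.IdealSheafData.map_ker, Scheme.IdealSheafData.le_map_iff_comap_le, hU, Fin.prod_univ_succ]
      exact Grass60.CurveDiv.mul_le_left' _ _
    let w := IsClosedImmersion.lift I.subschemeι (τ 0) hI0
    have hw : w ≫ I.subschemeι = τ 0 := IsClosedImmersion.lift_fac _ _ _
    obtain rfl : ψ = w ≫ b₁ := by rw [← hτ 0, ← hw, Category.assoc]
    let e := pullbackLeftPullbackSndIso p b₁ w
    have he1 : e.hom ≫ pullback.fst p (w ≫ b₁) = pullback.fst p₁ w ≫ q₁ :=
      pullbackLeftPullbackSndIso_hom_fst p b₁ w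
    have he2 : e.hom ≫ pullback.snd p (w ≫ b₁) = pullback.snd p₁ w :=
      pullbackLeftPullbackSndIso_hom_snd p b₁ w
    let t : Fin (n + 1) → (U ⟶ pullback p b₁) := fun i => pullback.lift (τ i) w (hτ i)
    have ht : ∀ i, t i ≫ p₁ = w := fun i => pullback.lift_snd _ _ _
    haveI := fun i => isClosedImmersion_ptSec p₁ w (t i) (ht i)
    have hsec : ∀ i, (ptSec p (w ≫ b₁) (τ i) (hτ i)).ker.comap e.hom = (ptSec p₁ w (t i) (ht i)).ker := fun i => by
      refine Grass60.CurveSplit.comap_ker_of_isPullback (c := 𝟙 U) (IsPullback.of_vert_isIso ⟨?_⟩)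
      rw [Category.id_comp]
      refine pullback.hom_ext ?_ ?_
      · rw [Category.assoc, he1, pullback.lift_fst, ← Category.assoc, pullback.lift_fst, pullback.lift_fst]
      · rw [Category.assoc, he2, pullback.lift_snd, pullback.lift_snd]
    have hI' := congrArg (fun J => Scheme.IdealSheafData.comap J e.hom) hU
    rw [← Scheme.IdealSheafData.comap_comp, he1, Grass60.CurveSplit.comap_prod] at hI'
    simp only [hsec] at hI'
    rw [Fin.prod_univ_succ] at hI'
    rw [Scheme.IdealSheafData.comap_comp, hIR, ModPairLib.ideal_comap_mul] at hI'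
    have h0 : t₀.ker.comap (pullback.fst p₁ w) = (ptSec p₁ w (t 0) (ht 0)).ker := by
      refine Grass60.CurveSplit.comap_ker_of_isPullback (c := w) (IsPullback.flip (IsPullback.of_bot ?_ ?_
        (IsPullback.of_hasPullback p₁ w)))
      · rw [pullback.lift_snd, pullback.lift_snd]
        exact IsPullback.of_vert_isIso ⟨by simp⟩
      · rw [pullback.lift_fst]
        refine pullback.hom_ext ?_ ?_
        · rw [Category.assoc, pullback.lift_fst, pullback.lift_fst, hw]
        · rw [Category.assoc, pullback.lift_snd, pullback.lift_snd, Category.comp_id]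
    rw [h0] at hI'
    haveI : SmoothOfRelativeDimension 1 (pullback.snd p₁ w) :=
      (smoothOfRelativeDimension_isStableUnderBaseChange 1).of_isPullback (IsPullback.of_hasPullback p₁ w) inferInstance
    have hd : Mor2.IsFinLocFreeOfDeg 1 ((ptSec p₁ w (t 0) (ht 0)).ker.subschemeι ≫ pullback.snd p₁ w) := by
      rw [HilbDLib.finLocFreeOfDeg_ker, pullback.lift_snd]
      exact ⟨⟨inferInstance, inferInstance, inferInstance⟩, fun y => by
        rw [Scheme.Hom.finrank_eq_one_of_isIso]; rfl⟩
    have hK := Grass60.CurveFlag.cancel (pullback.snd p₁ w) hd hI'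
    obtain ⟨v, hv, hvσ⟩ := huniv U w (fun i => t i.succ) (fun i => ht i.succ) hK
    refine ⟨v, by rw [← Category.assoc, hv], fun i => Fin.cases ?_ (fun j => ?_) i⟩
    · rw [Fin.cons_zero, ← Category.assoc, hv, hw]
    · rw [Fin.cons_succ, ← Category.assoc, hvσ j, pullback.lift_fst]

end Groth.Agent.SymProdLib
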